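import Cfsg.Agent.Lib.FusionLayer.Product

/-
Central products: uniqueness, and normal subsystems of a factor.
Main results (namespace `Cfsg.Agent.FusionLayer`): `centralProduct_data`, `centralProduct_unique`,
`prod_restrict`, `prod_include`, `isNormalIn_of_factor`.
-/

set_option autoImplicit false

namespace Cfsg.Agent.FusionLayer

open Cfsg Cfsg.Agent.Fusion
open Cfsg.FusionSystem hiding inv_mem

variable {Ω : Type*} [Group Ω] {U U' T₁ T₂ : Subgroup Ω} {E₁ : FusionSystem T₁} {E₂ : FusionSystem T₂}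

/-- The homomorphism of a central product is multiplication. -/
theorem centralProduct_theta {θ : ↥(T₁.prod T₂) →* Ω}
    (h1 : ∀ (x : Ω) (hx : ((x, 1) : Ω × Ω) ∈ T₁.prod T₂), θ ⟨(x, 1), hx⟩ = x)
    (h2 : ∀ (y : Ω) (hy : ((1, y) : Ω × Ω) ∈ T₁.prod T₂), θ ⟨(1, y), hy⟩ = y)
    (w : ↥(T₁.prod T₂)) : θ w = (w : Ω × Ω).1 * (w : Ω × Ω).2 := by
  have hx : (((w : Ω × Ω).1, 1) : Ω × Ω) ∈ T₁.prod T₂ := ⟨w.2.1, one_mem _⟩
  have hy : ((1, (w : Ω × Ω).2) : Ω × Ω) ∈ T₁.prod T₂ := ⟨one_mem _, w.2.2⟩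
  have hw : w = ⟨_, hx⟩ * ⟨_, hy⟩ := Subtype.ext (by simp)
  conv_lhs => rw [hw]
  rw [map_mul, h1, h2]

theorem centralProduct_data [Finite T₁] [Finite T₂] {D : FusionSystem U}
    (h : IsCentralProductOf E₁ E₂ D) :
    U = T₁ ⊔ T₂ ∧ (∀ x ∈ T₁, ∀ y ∈ T₂, x * y = y * x) ∧ T₁ ⊓ T₂ ≤ E₁.center ∧ T₁ ⊓ T₂ ≤ E₂.center := by
  obtain ⟨D₀, hD₀, Z, θ, hZc, -, -, h1, h2, hfac⟩ := h
  haveI : Finite (T₁.prod T₂) := Finite.of_equiv _ (Subgroup.prodEquiv T₁ T₂).symm.toEquiv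
  have hθ := centralProduct_theta h1 h2
  have hc : ∀ x ∈ T₁, ∀ y ∈ T₂, x * y = y * x := fun x hx y hy => by
    have hx' : ((x, 1) : Ω × Ω) ∈ T₁.prod T₂ := ⟨hx, one_mem _⟩
    have hy' : ((1, y) : Ω × Ω) ∈ T₁.prod T₂ := ⟨one_mem _, hy⟩
    have e : (⟨_, hx'⟩ * ⟨_, hy'⟩ : T₁.prod T₂) = ⟨_, hy'⟩ * ⟨_, hx'⟩ := Subtype.ext (by simp)
    have e' := congrArg θ e
    rwa [map_mul, map_mul, h1, h2] at e'
  have hU : U = T₁ ⊔ T₂ := by
    rw [← hfac.2.2.1, ← mulHom_range hc]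
    exact congrArg MonoidHom.range (MonoidHom.ext fun w => hθ w)
  have hmem : ∀ r ∈ T₁ ⊓ T₂, ((r, r⁻¹) : Ω × Ω) ∈ Z := fun r hr =>
    (hfac.2.1 ⟨(r, r⁻¹), (Subgroup.mem_inf.1 hr).1, T₂.inv_mem (Subgroup.mem_inf.1 hr).2⟩).1
      ((hθ _).trans (mul_inv_cancel r))
  refine ⟨hU, hc, le_center_of_fn inf_le_left fun P f hf => ?_,
    le_center_of_fn inf_le_right fun P f hf => ?_⟩
  · have hm : IsMap D₀ (P.prod ⊥) (fun z => (f z.1, z.2)) := (FusionCrit.isMap_product_iff hD₀).2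
      ⟨Subgroup.prod_mono hf.le bot_le, f, fun y => y, by rwa [FusionCrit.pr₁_prod],
        IsMap.id (by rw [FusionCrit.pr₂_prod]; exact bot_le), fun _ _ => rfl⟩
    obtain ⟨g, hg, hge, hgZ⟩ := fix_of_center hZc hm
    obtain ⟨-, g₁, g₂, hg₁, -, hgv⟩ := (FusionCrit.isMap_product_iff hD₀).1 hg
    refine ⟨g₁, hg₁.mono (sup_le (fun x hx => ⟨(x, 1), Subgroup.mem_sup_left ⟨hx, one_mem _⟩, rfl⟩)
      fun r hr => ⟨(r, r⁻¹), Subgroup.mem_sup_right (hmem r hr), rfl⟩), fun x hx => ?_, fun r hr => ?_⟩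
    · exact congrArg Prod.fst ((hgv _ (Subgroup.mem_sup_left ⟨hx, one_mem _⟩)).symm.trans
        (hge (x, 1) ⟨hx, one_mem _⟩))
    · exact congrArg Prod.fst ((hgv _ (Subgroup.mem_sup_right (hmem r hr))).symm.trans (hgZ _ (hmem r hr)))
  · have hm : IsMap D₀ ((⊥ : Subgroup Ω).prod P) (fun z => (z.1, f z.2)) :=
      (FusionCrit.isMap_product_iff hD₀).2 ⟨Subgroup.prod_mono bot_le hf.le, fun y => y, f,
        IsMap.id (by rw [FusionCrit.pr₁_prod]; exact bot_le), by rwa [FusionCrit.pr₂_prod], fun _ _ => rfl⟩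
    obtain ⟨g, hg, hge, hgZ⟩ := fix_of_center hZc hm
    obtain ⟨-, g₁, g₂, -, hg₂, hgv⟩ := (FusionCrit.isMap_product_iff hD₀).1 hg
    have hmem' : ∀ r ∈ T₁ ⊓ T₂, ((r⁻¹, r) : Ω × Ω) ∈ Z := fun r hr => by
      have := hmem r⁻¹ (inv_mem hr)
      rwa [inv_inv] at this
    refine ⟨g₂, hg₂.mono (sup_le (fun x hx => ⟨(1, x), Subgroup.mem_sup_left ⟨one_mem _, hx⟩, rfl⟩)
      fun r hr => ⟨(r⁻¹, r), Subgroup.mem_sup_right (hmem' r hr), rfl⟩), fun x hx => ?_, fun r hr => ?_⟩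
    · exact congrArg Prod.snd ((hgv _ (Subgroup.mem_sup_left ⟨one_mem _, hx⟩)).symm.trans
        (hge (1, x) ⟨one_mem _, hx⟩))
    · exact congrArg Prod.snd ((hgv _ (Subgroup.mem_sup_right (hmem' r hr))).symm.trans (hgZ _ (hmem' r hr)))

/-- The central product of two given systems is unique. -/
theorem centralProduct_unique {D : FusionSystem U} {D' : FusionSystem U'}
    (h : IsCentralProductOf E₁ E₂ D) (h' : IsCentralProductOf E₁ E₂ D') :
    U = U' ∧ D.IsSubsystemOf D' ∧ D'.IsSubsystemOf D := by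
  obtain ⟨D₀, hD₀, Z, θ, -, -, -, h1, h2, hfac⟩ := h
  obtain ⟨D₀', hD₀', Z', θ', -, -, -, h1', h2', hfac'⟩ := h'
  obtain rfl : D₀ = D₀' := ext_of_hom fun P => Set.ext fun φ => (hD₀ P φ).trans (hD₀' P φ).symm
  obtain rfl : θ = θ' := MonoidHom.ext fun w =>
    (centralProduct_theta h1 h2 w).trans (centralProduct_theta h1' h2' w).symm
  obtain rfl : U = U' := hfac.2.2.1.symm.trans hfac'.2.2.1
  exact ⟨rfl, fun P φ hφ => (hfac'.2.2.2 P φ).2 ((hfac.2.2.2 P φ).1 hφ),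
    fun P φ hφ => (hfac.2.2.2 P φ).2 ((hfac'.2.2.2 P φ).1 hφ)⟩

variable {D : FusionSystem (T₁ ⊔ T₂)}

/-- The product restricted to subgroups of the first factor is the first factor. -/
theorem prod_restrict (hD : IsProd D E₁ E₂) {P : Subgroup Ω} (hP : P ≤ T₁) {f : Ω → Ω}
    (hf : IsMap D P f) : IsMap E₁ P f := by
  obtain ⟨A, B, f₁, f₂, hf₁, hf₂, hA, -, hcov, he, -, -⟩ := hD.elim hf
  have hPA : P ≤ A := fun x hx => by
    obtain ⟨a, ha, b, hb, rfl⟩ := hcov x hx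
    have : b ∈ T₁ := by simpa using mul_mem (inv_mem (hf₁.le ha)) (hP hx)
    exact mul_mem ha (hA (Subgroup.mem_inf.2 ⟨this, hf₂.le hb⟩))
  refine (hf₁.mono hPA).congr fun x hx => ?_
  have := he x (hPA hx) 1 (one_mem _) (by rwa [mul_one])
  rw [mul_one, hf₂.map_one, mul_one] at this
  exact this.symm

/-- The first factor lies in the product. -/
theorem prod_include [Finite T₁] (hD : IsProd D E₁ E₂) (hz₁ : T₁ ⊓ T₂ ≤ E₁.center) {P : Subgroup Ω}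
    {f : Ω → Ω} (hf : IsMap E₁ P f) : IsMap D P f := by
  obtain ⟨g, hg, hge, hgR⟩ := fix_of_center hz₁ hf
  refine hD.intro' hg (IsMap.id (inf_le_right : T₁ ⊓ T₂ ≤ T₂)) le_sup_right le_rfl
    (fun z hz => ⟨z, Subgroup.mem_sup_left hz, 1, one_mem _, (mul_one z).symm⟩) fun x hx y hy hxy => ?_
  rw [← hge _ hxy, hg.map_mul hx (Subgroup.mem_sup_right hy), hgR y hy]

/-- A normal subsystem of a factor is normal in the product. -/
theorem isNormalIn_of_factor [Finite T₁] [Finite T₂] {p : ℕ} (hD : IsProd D E₁ E₂)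
    (hDs : D.IsSaturated p) (hc : ∀ x ∈ T₁, ∀ y ∈ T₂, x * y = y * x)
    (hz₁ : T₁ ⊓ T₂ ≤ E₁.center) {T : Subgroup Ω} {C : FusionSystem T} (hC : C.IsNormalIn E₁ p) :
    C.IsNormalIn D p := by
  classical
  obtain ⟨⟨hCs, -, hi⟩, hext⟩ := hC
  have hT₁ : T ≤ T₁ := hi.2.1.1
  have hTU : T ≤ T₁ ⊔ T₂ := hT₁.trans le_sup_left
  haveI : Finite ↥(T₁ ⊔ T₂) := by
    rw [← mulHom_range hc]
    haveI : Finite (T₁.prod T₂) := Finite.of_equiv _ (Subgroup.prodEquiv T₁ T₂).symm.toEquiv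
    exact Finite.of_surjective _ (mulHom hc).rangeRestrict_surjective
  have hsub : ∀ P φ, φ ∈ C.Hom P → φ ∈ D.Hom P := fun P φ hφ =>
    mem_of_isMap (prod_include hD hz₁ (FusionNormal.isMap_of_sub hi.1 (isMap_toFn hφ)))
      fun x => (toFn_coe φ x).symm
  have haut : D.autGroup T ≤ E₁.autGroup T := fun α hα =>
    (mem_autGroup_iff hT₁).2 (prod_restrict hD hT₁ ((mem_autGroup_iff hTU).1 hα))
  have haut' : E₁.autGroup T ≤ D.autGroup T := fun α hα =>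
    (mem_autGroup_iff hTU).2 (prod_include hD hz₁ ((mem_autGroup_iff hT₁).1 hα))
  have hw : C.IsWeaklyNormalIn D p := by
    refine ⟨hCs, hDs, FusionProduct.isInvariantIn_of_fn (fun P φ hφ => hsub P φ hφ) ?_ ?_ ?_⟩
    · refine ⟨hTU, fun R hR φ hφ x => ?_⟩
      rw [← toFn_coe φ x]
      exact FusionChain.isMap_mem_of_stronglyClosed hi.2.1
        (prod_restrict hD (hR.trans hT₁) (isMap_toFn hφ)) x.2 (hR x.2)
    · exact fun P f hP hf α hα => FusionNormal.transport_map hi hP hf (haut hα)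
    · intro P f hP hf
      obtain ⟨α, hα, f₀, hf₀, he⟩ := FusionNormal.frattini_map hi hP (prod_restrict hD (hP.trans hT₁) hf)
      exact ⟨α, haut' hα, f₀, hf₀, he⟩
  refine FusionProduct.isNormalIn_of_fn hw fun α hα => ?_
  set M := T ⊔ centralizerIn T₁ T with hM
  obtain ⟨β, hβ, hβT, hβC⟩ := hext α hα
  have hMT : M ≤ T₁ := sup_le hT₁ inf_le_left
  obtain ⟨g, hg, hge, hgR⟩ := fix_of_center hz₁ ((mem_autGroup_iff hMT).1 hβ)
  set A := M ⊔ (T₁ ⊓ T₂) with hA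
  have hc' : ∀ x ∈ A, ∀ y ∈ T₂, x * y = y * x := fun x hx y hy => hc x (hg.le hx) y hy
  have hval : ∀ x ∈ A, ∀ y ∈ T₂, ∀ x' ∈ A, ∀ y' ∈ T₂, x * y = x' * y' → g x * y = g x' * y' := by
    intro x hx y hy x' hx' y' hy' e
    have hr := inv_mul_mem_inf (hg.le hx) (hg.le hx') hy hy' e
    have h1 : g x' = g x * (x⁻¹ * x') := by
      rw [← hgR _ hr, ← hg.map_mul hx (Subgroup.mem_sup_right hr), mul_inv_cancel_left]
    rw [h1, show y = x⁻¹ * x' * y' by rw [mul_assoc, ← e, inv_mul_cancel_left]]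
    group
  let f : Ω → Ω := fun z => if h : ∃ x ∈ A, ∃ y ∈ T₂, z = x * y then
    g h.choose * h.choose_spec.2.choose else 1
  have hf : ∀ x ∈ A, ∀ y ∈ T₂, f (x * y) = g x * y := fun x hx y hy => by
    have h : ∃ a ∈ A, ∃ b ∈ T₂, x * y = a * b := ⟨x, hx, y, hy, rfl⟩
    simp only [f, dif_pos h]
    exact (hval x hx y hy _ h.choose_spec.1 _ h.choose_spec.2.choose_spec.1
      h.choose_spec.2.choose_spec.2).symm
  have hfm : IsMap D (A ⊔ T₂) f := hD.intro' hg (IsMap.id le_rfl) le_sup_right inf_le_right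
    (covers_top hc') fun x hx y hy _ => hf x hx y hy
  have hcenA : ∀ c ∈ centralizerIn (T₁ ⊔ T₂) T, ∃ x ∈ A, x ∈ centralizerIn T₁ T ∧ ∃ y ∈ T₂, c = x * y := by
    intro c hcm
    obtain ⟨hcU, hct⟩ := mem_centralizerIn.1 hcm
    obtain ⟨x, hx, y, hy, rfl⟩ := covers_top hc c hcU
    have hxC : x ∈ centralizerIn T₁ T := mem_centralizerIn.2 ⟨hx, fun t ht => by
      have h := hct t ht
      rw [← mul_assoc, mul_assoc x, ← hc t (hT₁ ht) y hy, ← mul_assoc] at h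
      exact mul_right_cancel h⟩
    exact ⟨x, Subgroup.mem_sup_left (Subgroup.mem_sup_right hxC), hxC, y, hy, rfl⟩
  refine ⟨f, hfm.mono (sup_le ((le_sup_left.trans le_sup_left).trans le_sup_left) fun c hcm => ?_),
    fun t ht => ?_, fun c hcm => ?_⟩
  · obtain ⟨x, hx, -, y, hy, rfl⟩ := hcenA c hcm
    exact mul_mem (Subgroup.mem_sup_left hx) (Subgroup.mem_sup_right hy)
  · have := hf t (Subgroup.mem_sup_left (Subgroup.mem_sup_left ht)) 1 (one_mem _)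
    rw [mul_one, mul_one] at this
    rw [this, hge t (Subgroup.mem_sup_left ht), autFn_apply α ht, autFn_apply β (Subgroup.mem_sup_left ht)]
    exact hβT ⟨t, ht⟩
  · obtain ⟨x, hx, hxC, y, hy, rfl⟩ := hcenA c hcm
    have hd := hβC ⟨x, Subgroup.mem_sup_right hxC⟩ hxC
    rw [← autFn_apply β, ← hge x (Subgroup.mem_sup_right hxC)] at hd
    rw [hf x hx y hy]
    have hd₁ : x⁻¹ * g x ∈ T₁ := hT₁ (Subgroup.mem_inf.1 hd).1
    rw [show (x * y)⁻¹ * (g x * y) = y⁻¹ * ((x⁻¹ * g x) * y) by group, hc _ hd₁ y hy,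
      inv_mul_cancel_left]
    exact hd

end Cfsg.Agent.FusionLayer
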