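import Cfsg.Agent.Lib.FusionLayer.ProductMaps

/-
The product of two commuting normal subsystems is normal.
Main results (namespace `Cfsg.Agent.FusionLayer`): `Pair.frattini`, `Pair.isNormalIn_prod`,
`exists_normal_product`.
-/

set_option autoImplicit false

namespace Cfsg.Agent.FusionLayer

open Cfsg Cfsg.Agent.Fusion Cfsg.Agent.FusionNormalCent
open Cfsg.FusionSystem hiding inv_mem
open Cfsg.Agent.FusionCrit (autFn_mul autFn_inv_self autFn_self_inv)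

variable {Ω : Type*} [Group Ω] {S T₁ T₂ : Subgroup Ω} {F : FusionSystem S} {p : ℕ}
  {E₁ : FusionSystem T₁} {E₂ : FusionSystem T₂} {D : FusionSystem (T₁ ⊔ T₂)}

/-- `f` is, on `P`, an automorphism of `U` following a map of the subsystem. -/
def Fr {U : Subgroup Ω} (F : FusionSystem S) (D : FusionSystem U) (P : Subgroup Ω) (f : Ω → Ω) : Prop :=
  ∃ α ∈ F.autGroup U, ∃ f₀, IsMap D P f₀ ∧ ∀ x ∈ P, f x = autFn α (f₀ x)

namespace Pair

variable [Finite S] [Fact p.Prime] (h : Pair F p E₁ E₂) (hS : IsPGroup p S) (hD : IsProd D E₁ E₂)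
include h hS hD

omit hS hD in
theorem fr_congr {P : Subgroup Ω} {f g : Ω → Ω} (hf : Fr F D P f) (e : ∀ x ∈ P, f x = g x) :
    Fr F D P g :=
  let ⟨α, hα, f₀, hf₀, he⟩ := hf
  ⟨α, hα, f₀, hf₀, fun x hx => (e x hx).symm.trans (he x hx)⟩

omit hS hD in
theorem fr_mono {P Q : Subgroup Ω} {f : Ω → Ω} (hf : Fr F D P f) (hQ : Q ≤ P) : Fr F D Q f :=
  let ⟨α, hα, f₀, hf₀, he⟩ := hf
  ⟨α, hα, f₀, hf₀.mono hQ, fun x hx => he x (hQ hx)⟩

theorem fr_comp {P Q : Subgroup Ω} {f f' : Ω → Ω} (hf : Fr F D P f) (hf' : Fr F D Q f')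
    (hm : ∀ x ∈ P, f x ∈ Q) : Fr F D P fun x => f' (f x) := by
  obtain ⟨α, hα, f₀, hf₀, he⟩ := hf
  obtain ⟨α', hα', f₀', hf₀', he'⟩ := hf'
  obtain ⟨g, hg, hge⟩ := h.transport hS hD (inv_mem hα) hf₀'
  have hmem : ∀ x ∈ P, f₀ x ∈ img (autFn α⁻¹) Q := fun x hx =>
    Subgroup.subset_closure ⟨f x, hm x hx, by rw [he x hx, autFn_inv_self α (hf₀.mem hx)]⟩
  refine ⟨α' * α, mul_mem hα' hα, fun x => g (f₀ x), hf₀.comp hg hmem, fun x hx => ?_⟩
  have hgx : g (f₀ x) = autFn α⁻¹ (f₀' (f x)) := by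
    rw [← hge _ (hm x hx), he x hx, autFn_inv_self α (hf₀.mem hx)]
  show f' (f x) = autFn (α' * α) (g (f₀ x))
  rw [hgx, autFn_mul _ _ (autFn_mem _ (hf₀'.mem (hm x hx))),
    autFn_self_inv α (hf₀'.mem (hm x hx))]
  exact he' _ (hm x hx)

theorem fr_inv {P Q : Subgroup Ω} {f fi : Ω → Ω} (hf : Fr F D P f) (hfI : IsIso F P Q f)
    (hl : ∀ x ∈ P, fi (f x) = x) : Fr F D Q fi := by
  obtain ⟨α, hα, f₀, hf₀, he⟩ := hf
  obtain ⟨gi, hgi, hgl, hgr⟩ := hf₀.isIso.symm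
  obtain ⟨g, hg, hge⟩ := h.transport hS hD hα hgi.1
  have hQ : ∀ y ∈ Q, y ∈ img (autFn α) (img f₀ P) := fun y hy => by
    obtain ⟨x, hx, rfl⟩ := hfI.exists_eq hy
    rw [he x hx]
    exact Subgroup.subset_closure ⟨f₀ x, hf₀.mem_img hx, rfl⟩
  refine ⟨α⁻¹, inv_mem hα, g, hg.mono hQ, fun y hy => ?_⟩
  obtain ⟨x, hx, rfl⟩ := hfI.exists_eq hy
  rw [hl x hx, he x hx, hge _ (hf₀.mem_img hx), hgl x hx, autFn_inv_self α (hf₀.le hx)]

variable (hDs : D.IsSaturated p)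
include hDs

/-- The Frattini condition. -/
theorem frattini {P : Subgroup Ω} {f : Ω → Ω} (hP : P ≤ T₁ ⊔ T₂) (hf : IsMap F P f) :
    Fr F D P f := by
  have hT0S := h.sup_le_S
  have hcl := stronglyClosed_iff.1 (h.closed hS)
  have := finite_of_le hT0S
  induction hn : Nat.card ↥(T₁ ⊔ T₂) - Nat.card P using Nat.strong_induction_on generalizing P f with
  | _ n ih =>
  have big : ∀ {P' : Subgroup Ω} {f' : Ω → Ω}, P' ≤ T₁ ⊔ T₂ → Nat.card P < Nat.card P' →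
      IsMap F P' f' → Fr F D P' f' := fun {P' f'} hP' hlt hf' => by
    have := Subgroup.card_le_of_le hP'
    exact ih (Nat.card ↥(T₁ ⊔ T₂) - Nat.card P') (by omega) hP' hf' rfl
  have card_lt : ∀ {A B : Subgroup Ω}, B ≤ T₁ ⊔ T₂ → A < B → Nat.card A < Nat.card B :=
    fun {A B} hB hAB => by
      have := finite_of_le hB
      exact lt_of_le_of_ne (Subgroup.card_le_of_le hAB.le) fun he =>
        hAB.ne (eq_of_le_of_card hB hAB.le he.ge)
  have hmem : ∀ {P' : Subgroup Ω} {f' : Ω → Ω}, P' ≤ T₁ ⊔ T₂ → IsMap F P' f' →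
      ∀ x ∈ P', f' x ∈ T₁ ⊔ T₂ := fun hP' hf' x hx => hcl.2 _ _ hf' x hx (hP' hx)
  set R := T₁ ⊓ T₂
  have hRT : R ≤ T₁ ⊔ T₂ := inf_le_left.trans le_sup_left
  by_cases hRP : R ≤ P
  swap
  · have hRab : IsMulCommutative R :=
      ⟨⟨fun a b => Subtype.ext (h.R_comm a.2 (hRT b.2))⟩⟩
    obtain ⟨g, hg, hgf, -⟩ := (FusionChain.isNormal_iff.1
      (isNormal_of_abelian hS h.sat h.cR hRab)).2 P f hf
    exact h.fr_congr (h.fr_mono (big (sup_le hP hRT)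
      (card_lt (sup_le hP hRT) (left_lt_sup.2 hRP)) hg) le_sup_left) hgf
  by_cases hPT : P = T₁ ⊔ T₂
  · subst hPT
    obtain ⟨α, hα, hαe⟩ := exists_aut_of_isIso (show IsIso F (T₁ ⊔ T₂) (T₁ ⊔ T₂) f from
      ⟨hf, img_strongly (h.closed hS) hf le_rfl⟩)
    exact ⟨α, hα, fun x => x, IsMap.id le_rfl, fun x hx => by rw [autFn_apply α hx, hαe]⟩
  have hPS := hP.trans hT0S
  obtain ⟨P', gP, hP', hgP, hgPi, hgPN⟩ := exists_fullyNormalized_map hS h.sat hPS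
  have hfI := hf.isIso
  have hQT : img f P ≤ T₁ ⊔ T₂ := hf.img_le le_rfl fun x hx => hmem hP hf x hx
  have hgP0 : IsIso F P P' gP := ⟨hgP.mono (le_normalizerIn hPS), hgPi⟩
  obtain ⟨gQ, hgQ, hgQi, -⟩ := exists_normalizer_map hS
    (fullyAutomized_of_fullyNormalized hS h.sat hP') (receptive_of_fullyNormalized hS h.sat hP')
    (isConj_trans (isConj_symm (isConj_iff.2 ⟨f, hfI⟩)) (isConj_iff.2 ⟨gP, hgP0⟩))
  have hQS := hQT.trans hT0S
  have hgQ0 : IsIso F (img f P) P' gQ := ⟨hgQ.mono (le_normalizerIn hQS), hgQi⟩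
  have hT0 : IsPGroup p ↥(T₁ ⊔ T₂) := hS.to_le hT0S
  have hnorm : ∀ {U : Subgroup Ω}, U ≤ T₁ ⊔ T₂ → Nat.card U = Nat.card P →
      Nat.card P < Nat.card (normalizerIn (T₁ ⊔ T₂) U) := fun {U} hU hc => by
    rw [← hc]
    refine card_lt inf_le_left (lt_normalizerIn hT0 le_rfl (lt_of_le_of_ne hU fun e => hPT ?_))
    exact eq_of_le_of_card le_rfl hP (by rw [← hc, e])
  have hle : ∀ U : Subgroup Ω, normalizerIn (T₁ ⊔ T₂) U ≤ normalizerIn S U :=
    fun U => inf_le_inf_right _ hT0S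
  have fP : Fr F D P gP := h.fr_mono
    (big inf_le_left (hnorm hP rfl) (hgP.mono (hle P))) (le_normalizerIn hP)
  have fQ : Fr F D (img f P) gQ := h.fr_mono
    (big inf_le_left (hnorm hQT hfI.card_eq) (hgQ.mono (hle _))) (le_normalizerIn hQT)
  have hP'T : P' ≤ T₁ ⊔ T₂ := hgPi ▸ hgP.img_le (le_normalizerIn hPS) fun x hx =>
    hmem hP hgP0.1 x hx
  obtain ⟨gPi', hgPi0, hPl, hPr⟩ := hgP0.symm
  obtain ⟨gQi', hgQi0, hQl, hQr⟩ := hgQ0.symm
  obtain ⟨β, hβ, hβe⟩ := exists_aut_of_isIso ((hgPi0.trans hfI).trans hgQ0)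
  have hP'S := hP'.1
  have := finite_mulAut (S := S) hP'S
  have hcard : Nat.card P' = Nat.card P := hgP0.card_eq
  have hRP' : R ≤ P' := by
    rw [← hgPi]
    exact (img_strongly h.cR hgP0.1 hRP).ge.trans (Subgroup.closure_mono (Set.image_mono hRP))
  have fβ : Fr F D P' (autFn β) := by
    have hPD : D.IsFullyNormalized P' := by
      refine ⟨hP'T, fun Q hQ => ?_⟩
      obtain ⟨q, hq⟩ := isConj_iff.1 hQ
      obtain ⟨g, hg, -, hgN⟩ := exists_normalizer_map hS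
        (fullyAutomized_of_fullyNormalized hS h.sat hP') (receptive_of_fullyNormalized hS h.sat hP')
        (isConj_symm (isConj_iff.2 ⟨q, FusionNormal.isIso_of_sub (h.isSub hS hD) hq⟩))
      rw [← hg.card_img (hle Q)]
      have := finite_of_le (S := T₁ ⊔ T₂) (P := normalizerIn (T₁ ⊔ T₂) P') inf_le_left
      exact Subgroup.card_le_of_le (hg.img_le (hle Q) fun x hx =>
        ⟨hmem inf_le_left (hg.mono (hle Q)) x hx, (hgN x (hle Q hx)).2⟩)
    have hX := (isFullyAutomized_iff.1 (fullyAutomized_of_fullyNormalized hT0 hDs hPD)).2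
    set A := D.autGroup P'
    set X := autInducedBy (T₁ ⊔ T₂) P' with hXdef
    obtain ⟨d, hd, hdX⟩ := hX.exists_conj_le (H := X.map (MulAut.conj β).toMonoidHom)
      (hX.isPGroup.map _) (by
        rintro _ ⟨x, hx, rfl⟩
        exact h.conj_mem_prod hS hD hDs hP'T hRP' hP' hβ (hX.le hx))
    have hdF : d ∈ F.autGroup P' := FusionNormal.autGroup_le_of_sub (h.isSub hS hD) hP'T hd
    set m := d * β with hm
    have hmI := isIso_autFn hP'S (mul_mem hdF hβ)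
    have hNx : normalizerIn (T₁ ⊔ T₂) P' ≤ Nx S P' (autFn m) := fun t ht => by
      have hx : normConj S P' ⟨t, hle P' ht⟩ ∈ X :=
        mem_autInducedBy_iff.2 ⟨t, ht.1, fun _ => rfl⟩
      obtain ⟨σ, hσ, hσe⟩ := mem_autInducedBy_iff.1 (hdX _ ⟨_, hx, rfl⟩)
      refine mem_Nx.2 ⟨hle P' ht, σ, hT0S hσ, fun z hz => ?_⟩
      have h1 := hσe (m ⟨z, hz⟩)
      have e : d * (MulAut.conj β).toMonoidHom (normConj S P' ⟨t, hle P' ht⟩) * d⁻¹ =
          m * normConj S P' ⟨t, hle P' ht⟩ * m⁻¹ := by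
        show d * (β * _ * β⁻¹) * d⁻¹ = _
        rw [hm, mul_inv_rev]
        simp only [mul_assoc]
      rw [e, MulAut.mul_apply, MulAut.mul_apply, MulAut.inv_apply_self] at h1
      rw [autFn_apply m hz, autFn_apply m (normalizerIn_conj (hle P' ht) hz), ← h1]
      rfl
    obtain ⟨ψ, hψ, hψe⟩ := (isReceptive_iff.1 (receptive_of_fullyNormalized hS h.sat hP')).2 P' _ hmI
    have fm : Fr F D P' (autFn m) := h.fr_congr (h.fr_mono
      (big inf_le_left (hnorm hP'T hcard) (hψ.mono hNx)) (le_normalizerIn hP'T)) hψe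
    have fd : Fr F D P' (autFn d⁻¹) :=
      ⟨1, one_mem _, autFn d⁻¹, (mem_autGroup_iff hP'T).1 (inv_mem hd), fun x hx => by
        rw [autFn_apply (1 : MulAut ↥(T₁ ⊔ T₂)) (hP'T (autFn_mem _ hx))]
        rfl⟩
    refine h.fr_congr (h.fr_comp hS hD fm fd fun x hx => autFn_mem m hx) fun x hx => ?_
    show autFn d⁻¹ (autFn m x) = _
    rw [hm, autFn_mul _ _ hx, autFn_inv_self d (autFn_mem β hx)]
  have fQi : Fr F D P' gQi' := h.fr_inv hS hD fQ hgQ0 hQl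
  refine h.fr_congr (h.fr_comp hS hD (h.fr_comp hS hD fP fβ fun x hx => hgP0.mem hx) fQi
    fun x hx => autFn_mem β (hgP0.mem hx)) fun x hx => ?_
  show gQi' (autFn β (gP x)) = f x
  rw [autFn_apply β (hgP0.mem hx), hβe]
  show gQi' (gQ (f (gPi' (gP x)))) = f x
  rw [hPl x hx]
  exact hQl _ (hfI.mem hx)

/-- The product is normal. -/
theorem isNormalIn_prod : D.IsNormalIn F p := by
  have hT0S := h.sup_le_S
  refine FusionProduct.isNormalIn_of_fn ⟨hDs, h.sat, FusionProduct.isInvariantIn_of_fn (h.isSub hS hD)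
    (h.closed hS) (fun P f _ hf α hα => h.transport hS hD hα hf)
    fun P f hP hf => h.frattini hS hD hDs hP hf⟩ fun α hα => ?_
  obtain ⟨A, B, f₁, f₂, hf₁, hf₂, hA, hB, hcov, he, -, -⟩ :=
    hD.elim ((mem_autGroup_iff le_rfl).1 hα)
  obtain rfl : A = T₁ := le_antisymm hf₁.le fun x hx => by
    obtain ⟨x', hx', y', hy', e⟩ := hcov x (Subgroup.mem_sup_left hx)
    exact hD.mem_decomp hf₁.le hf₂.le hA hx' hy' hx (one_mem T₂) (by rw [mul_one, ← e])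
  obtain rfl : B = T₂ := le_antisymm hf₂.le fun y hy => by
    obtain ⟨x', hx', y', hy', e⟩ := hcov y (Subgroup.mem_sup_right hy)
    have h1 := inv_mul_mem_inf hx' (one_mem A) (hf₂.le hy') hy (by rw [one_mul, ← e])
    rw [mul_one] at h1
    rw [e, show x' * y' = (x'⁻¹)⁻¹ * y' by rw [inv_inv]]
    exact mul_mem (inv_mem (hB h1)) hy'
  haveI : Finite A := finite_of_le h.c1.1
  haveI : Finite B := finite_of_le h.c2.1
  obtain ⟨δ₁, hδ₁, hδ₁e⟩ := exists_aut_of_isIso (show IsIso E₁ A A f₁ from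
    ⟨hf₁, eq_of_le_of_card le_rfl hf₁.img_le_S (hf₁.card_img le_rfl).ge⟩)
  obtain ⟨δ₂, hδ₂, hδ₂e⟩ := exists_aut_of_isIso (show IsIso E₂ B B f₂ from
    ⟨hf₂, eq_of_le_of_card le_rfl hf₂.img_le_S (hf₂.card_img le_rfl).ge⟩)
  obtain ⟨g₁, L₁, hX₁⟩ := exists_good_ext hS h.sat h.n1 h.c2 h.le_cen2 h.z1 hδ₁
  obtain ⟨g₂, L₂, hX₂⟩ := exists_good_ext hS h.sat h.n2 h.c1 h.le_cen1 (inf_comm B A ▸ h.z2) hδ₂
  set M := (A ⊔ B) ⊔ centralizerIn S (A ⊔ B) with hM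
  have hC1 : centralizerIn S (A ⊔ B) ≤ centralizerIn S A := fun c hc => mem_centralizerIn.2
    ⟨hc.1, fun x hx => (mem_centralizerIn.1 hc).2 x (Subgroup.mem_sup_left hx)⟩
  have hC2 : centralizerIn S (A ⊔ B) ≤ centralizerIn S B := fun c hc => mem_centralizerIn.2
    ⟨hc.1, fun x hx => (mem_centralizerIn.1 hc).2 x (Subgroup.mem_sup_right hx)⟩
  have hA2 : A ≤ Dom S B := h.le_cen1.trans (cen_le_dom S B)
  have hMA : M ≤ Dom S A := sup_le (sup_le (le_dom S A) (h.le_cen2.trans (cen_le_dom S A)))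
    (hC1.trans (cen_le_dom S A))
  have hAB : ∀ x ∈ A, g₁ x ∈ Dom S B := fun x hx => hA2 (L₁.mem_P hx)
  have hCd : ∀ c ∈ centralizerIn S (A ⊔ B), g₁ c ∈ Dom S B := fun c hc => by
    rw [show g₁ c = c * (c⁻¹ * g₁ c) by group]
    exact mul_mem (cen_le_dom S B (hC2 hc)) (hA2 (L₁.modP c (hMA (Subgroup.mem_sup_right hc))))
  have hg1 : IsMap F M g₁ := L₁.map.mono hMA
  have hmid : ∀ x ∈ M, g₁ x ∈ Dom S B := fun x hx => hg1.forall_mem_sup le_sup_left le_sup_right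
    (fun w hw => (hg1.mono le_sup_left).forall_mem_sup le_sup_left le_sup_right hAB
      (fun y hy => (hX₁ y hy).symm ▸ le_dom S B hy) hw)
    hCd hx
  have hh : IsMap F M (fun x => g₂ (g₁ x)) := hg1.comp L₂.map hmid
  have hval : ∀ x ∈ A ⊔ B, g₂ (g₁ x) = autFn α x := fun x hx => by
    obtain ⟨a, ha, b, hb, rfl⟩ := covers_top h.comm x hx
    rw [he a ha b hb hx, L₁.map.map_mul (le_dom S A ha) (cen_le_dom S A (h.le_cen2 hb)),
      L₁.eq a ha, autFn_apply δ₁ ha, hδ₁e, hX₁ b hb,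
      L₂.map.map_mul (hA2 (hf₁.mem ha)) (le_dom S B hb), hX₂ _ (hf₁.mem ha), L₂.eq b hb,
      autFn_apply δ₂ hb, hδ₂e]
  refine ⟨_, hh, hval, fun c hc => ?_⟩
  have hcA : c⁻¹ * g₁ c ∈ A := L₁.modP c (hMA (Subgroup.mem_sup_right hc))
  have hcB : c⁻¹ * g₂ c ∈ B := L₂.modP c (cen_le_dom S B (hC2 hc))
  have e : c⁻¹ * g₂ (g₁ c) = (c⁻¹ * g₂ c) * (c⁻¹ * g₁ c) := by
    have h1 : g₂ (g₁ c) = g₂ c * (c⁻¹ * g₁ c) := by
      conv_lhs => rw [show g₁ c = c * (c⁻¹ * g₁ c) by group]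
      rw [L₂.map.map_mul (cen_le_dom S B (hC2 hc)) (hA2 hcA), hX₂ _ hcA]
    rw [h1]
    group
  refine Subgroup.mem_inf.2 ⟨?_, ?_⟩
  · show c⁻¹ * g₂ (g₁ c) ∈ A ⊔ B
    rw [e]
    exact mul_mem (Subgroup.mem_sup_right hcB) (Subgroup.mem_sup_left hcA)
  · have himg : img (fun x => g₂ (g₁ x)) (A ⊔ B) = A ⊔ B :=
      img_strongly (h.closed hS) hh le_sup_left
    have hhc := map_centralizerIn hh le_sup_left himg (Subgroup.mem_sup_right hc) hc
    exact ((centralizerIn S (A ⊔ B)).mul_mem ((centralizerIn S (A ⊔ B)).inv_mem hc) hhc).2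

end Pair

variable [Finite S] [Fact p.Prime]

/-- Commuting normal subsystems meeting centrally have a normal central product. -/
theorem exists_normal_product (hS : IsPGroup p S) (h : Pair F p E₁ E₂) :
    ∃ D : FusionSystem (T₁ ⊔ T₂), D.IsNormalIn F p ∧ IsCentralProductOf E₁ E₂ D ∧ IsProd D E₁ E₂ := by
  have := finite_of_le h.c1.1
  have := finite_of_le h.c2.1
  obtain ⟨D, hDs, hcp, hD⟩ := exists_prod (hS.to_le h.c1.1) (hS.to_le h.c2.1) h.n1.1.1 h.n2.1.1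
    h.comm h.z1 h.z2
  exact ⟨D, h.isNormalIn_prod hS hD hDs, hcp, hD⟩

end Cfsg.Agent.FusionLayer
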