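import Cfsg.Agent.Lib.FusionLayer.Centralize
import Cfsg.Agent.Lib.FusionLayer.CentralProduct
import Cfsg.Agent.Lib.FusionLayer.ProductNormal
import Cfsg.Prelude.Def_FusionFitting

/-
The generalized Fitting subsystem.
Main results (namespace `Cfsg.Agent.FusionLayer`): `fitting_pair`, `exists_fitting`, `fitting_data`.
-/

set_option autoImplicit false

namespace Cfsg.Agent.FusionLayer

open Cfsg Cfsg.Agent.Fusion Cfsg.Agent.FusionNormalCent
open Cfsg.FusionSystem hiding inv_mem

variable {Ω : Type*} [Group Ω] {S R U : Subgroup Ω} {F : FusionSystem S} {L : FusionSystem R}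
  {D : FusionSystem U} {p : ℕ} [Finite S] [Fact p.Prime]

/-- The inner system of the core and the layer commute and meet centrally. -/
theorem fitting_pair (hS : IsPGroup p S) (hF : F.IsSaturated p) (hL : L.IsLayerOf F p) :
    Pair F p (innerFusionSystem F.core) L := by
  have hQ : F.IsNormal F.core := S5145.result F
  have hc := layer_centralizes_core hS hF hL
  have hcomm : ∀ x ∈ F.core, ∀ y ∈ R, x * y = y * x := fun x hx y hy =>
    (mem_centralizerIn.1 (hc.1 hx)).2 y hy
  have := finite_of_le hQ.1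
  refine ⟨hF, FusionProduct.isNormalIn_inner hS hF hQ, hL.1, hcomm,
    le_center_of_fn inf_le_left fun P f hf => ?_, layer_fix hS hL inf_le_right (fun t ht z hz => ?_)
      (FusionInner.stronglyClosed_inf (Fusion.stronglyClosed_of_normal hQ) hL.1.1.2.2.2.1)⟩
  · obtain ⟨hP, g, hg, e⟩ := isMap_inner_iff.1 hf
    refine ⟨fun z => g * z * g⁻¹, isMap_inner_iff.2 ⟨sup_le hP inf_le_left, g, hg, fun _ _ => rfl⟩,
      fun x hx => (e x hx).symm, fun y hy => ?_⟩
    show g * y * g⁻¹ = y
    rw [hcomm g hg y (Subgroup.mem_inf.1 hy).2, mul_inv_cancel_right]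
  · exact (hcomm z (Subgroup.mem_inf.1 hz).1 t ht).symm

omit [Finite S] [Fact p.Prime] in
theorem layer_eq {L' : FusionSystem R} (hL : L.IsLayerOf F p) (hL' : L'.IsLayerOf F p) : L = L' :=
  ext_of_hom fun P => ((layer_unique hL hL').2.1 P).antisymm ((layer_unique hL hL').2.2 P)

/-- The normal generalized Fitting subsystem. -/
theorem exists_fitting (hS : IsPGroup p S) (hF : F.IsSaturated p) (hL : L.IsLayerOf F p) :
    ∃ D : FusionSystem (F.core ⊔ R), D.IsNormalIn F p ∧ D.IsGeneralizedFittingOf F p ∧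
      IsProd D (innerFusionSystem F.core) L := by
  obtain ⟨D, hD, hcp, hprod⟩ := exists_normal_product hS (fitting_pair hS hF hL)
  exact ⟨D, hD, ⟨R, L, hL, hcp⟩, hprod⟩

/-- A generalized Fitting subsystem is the normal one. -/
theorem fitting_data (hS : IsPGroup p S) (hF : F.IsSaturated p) (hL : L.IsLayerOf F p)
    (hD : D.IsGeneralizedFittingOf F p) :
    U = F.core ⊔ R ∧ D.IsNormalIn F p ∧ ∃ D' : FusionSystem (F.core ⊔ R),
      IsProd D' (innerFusionSystem F.core) L ∧ D'.IsNormalIn F p ∧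
        D.IsSubsystemOf D' ∧ D'.IsSubsystemOf D := by
  obtain ⟨R', L', hL', hcp⟩ := hD
  obtain rfl : R = R' := (layer_unique hL hL').1
  obtain rfl := layer_eq hL hL'
  obtain ⟨D', hD', hcp', hprod⟩ := exists_normal_product hS (fitting_pair hS hF hL)
  obtain ⟨rfl, h1, h2⟩ := centralProduct_unique hcp hcp'
  obtain rfl : D = D' := ext_of_hom fun P => (h1 P).antisymm (h2 P)
  exact ⟨rfl, hD', D, hprod, hD', h1, h2⟩

end Cfsg.Agent.FusionLayer
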