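import Cfsg.Agent.Lib.FusionLayer.GFit
import Cfsg.Agent.S5128

/-
The generalized Fitting subsystem is self-centralizing.
Main results (namespace `Cfsg.Agent.FusionLayer`): `cent_le_group`, `cent_le_center`.
-/

set_option autoImplicit false

namespace Cfsg.Agent.FusionLayer

open Cfsg Cfsg.Agent.Fusion Cfsg.Agent.FusionNormalCent
open Cfsg.FusionSystem hiding inv_mem

variable {Ω : Type*} [Group Ω] {S R U : Subgroup Ω} {F : FusionSystem S} {L : FusionSystem R}
  {D : FusionSystem U} {p : ℕ} [Finite S] [Fact p.Prime]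

/-- What centralizes the generalized Fitting subsystem lies in its group. -/
theorem cent_le_group (hS : IsPGroup p S) (hF : F.IsSaturated p) (hL : L.IsLayerOf F p)
    (hU : U = F.core ⊔ R) (hD : D.IsNormalIn F p) : cent F D p hD.1.2.2 ≤ U := by
  set Z := cent F D p hD.1.2.2 with hZ
  obtain ⟨X, hX, -⟩ : ∃ X : FusionSystem Z, X.IsNormalIn F p ∧ _ := exists_normal_over_cent hS hF hD
  have hZc : Z ≤ centralizerIn S U := cent_le hD
  have hZS : Z ≤ S := hZc.trans inf_le_left
  have := finite_of_le hZS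
  have hcon : X.IsConstrained p := by
    by_contra h
    obtain ⟨T, C, hC⟩ := FusionProduct.exists_component (hS.to_le hZS) hX.1.1 h
    have hCF := component_trans hC hX
    have hTR : T ≤ R := le_base_of_sub (hL.2.1 T C hCF)
    refine component_not_comm hS hCF fun t ht => mem_centralizerIn.2 ⟨component_le_S hCF ht, fun x hx => ?_⟩
    exact (mem_centralizerIn.1 (hZc (component_le_S hC ht))).2 x (hU ▸ Subgroup.mem_sup_right (hTR hx))
  have hle : X.core ≤ U := by
    rw [hU]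
    exact (FusionProduct.core_le_core hS hF hX.1.2.2).trans le_sup_left
  refine le_trans (fun z hz => ?_) hle
  exact (nc_core (hS.to_le hZS) hcon).centralizer_le
    (mem_centralizerIn.2 ⟨hz, fun y hy => (mem_centralizerIn.1 (hZc hz)).2 y (hle hy)⟩)

/-- What centralizes the generalized Fitting subsystem lies in its centre. -/
theorem cent_le_center (hS : IsPGroup p S) (hF : F.IsSaturated p) (hL : L.IsLayerOf F p)
    {D : FusionSystem (F.core ⊔ R)} (hD : D.IsNormalIn F p)
    (hprod : IsProd D (innerFusionSystem F.core) L) : cent F D p hD.1.2.2 ≤ D.center := by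
  have hZU := cent_le_group hS hF hL rfl hD
  set Z := cent F D p hD.1.2.2 with hZ
  obtain ⟨X, hX, -⟩ : ∃ X : FusionSystem Z, X.IsNormalIn F p ∧ _ := exists_normal_over_cent hS hF hD
  have hZc : Z ≤ centralizerIn S (F.core ⊔ R) := cent_le hD
  have hp := fitting_pair hS hF hL
  have hQ : F.IsNormal F.core := S5145.result F
  have hQc := Fusion.stronglyClosed_of_normal hQ
  have hRc : F.StronglyClosed R := hL.1.1.2.2.2.1
  have hZcl : F.StronglyClosed Z := hX.1.2.2.2.1
  have := finite_of_le hQ.1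
  have := finite_of_le hRc.1
  set A₀ := F.core ⊓ (R ⊔ Z) with hA₀
  set B₀ := R ⊓ (F.core ⊔ Z) with hB₀
  have hA₀c : A₀ ≤ (innerFusionSystem F.core).center := by
    refine le_center_of_fn inf_le_left fun P f hf => ?_
    obtain ⟨hP, g, hg, e⟩ := isMap_inner_iff.1 hf
    refine ⟨fun x => g * x * g⁻¹, isMap_inner_iff.2 ⟨sup_le hP inf_le_left, g, hg, fun _ _ => rfl⟩,
      fun x hx => (e x hx).symm, fun y hy => ?_⟩
    have hle : R ⊔ Z ≤ Subgroup.centralizer (F.core : Set Ω) := sup_le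
      (fun x hx => Subgroup.mem_centralizer_iff.2 fun q hq => hp.comm q hq x hx)
      (fun x hx => Subgroup.mem_centralizer_iff.2 fun q hq =>
        ((mem_centralizerIn.1 (hZc hx)).2 q (Subgroup.mem_sup_left hq)).symm)
    show g * y * g⁻¹ = y
    rw [Subgroup.mem_centralizer_iff.1 (hle (Subgroup.mem_inf.1 hy).2) g hg, mul_inv_cancel_right]
  have hB₀c : B₀ ≤ L.center := by
    refine layer_fix hS hL inf_le_left (fun t ht y hy => ?_)
      (FusionInner.stronglyClosed_inf hRc (S5128.result p hS F hF _ _ hQc hZcl))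
    have hle : F.core ⊔ Z ≤ Subgroup.centralizer (R : Set Ω) := sup_le
      (fun x hx => Subgroup.mem_centralizer_iff.2 fun r hr => (hp.comm x hx r hr).symm)
      (fun x hx => Subgroup.mem_centralizer_iff.2 fun r hr =>
        ((mem_centralizerIn.1 (hZc hx)).2 r (Subgroup.mem_sup_right hr)).symm)
    exact Subgroup.mem_centralizer_iff.1 (hle (Subgroup.mem_inf.1 hy).2) t ht
  refine le_center_of_fn hZU fun P f hf => ?_
  obtain ⟨A, B, f₁, f₂, hf₁, hf₂, hA, hB, hcov, he, -, -⟩ := hprod.elim hf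
  obtain ⟨g₁, hg₁, hge₁, hgA⟩ := fix_of_center hA₀c hf₁
  obtain ⟨g₂, hg₂, hge₂, hgB⟩ := fix_of_center hB₀c hf₂
  have hdec : ∀ z ∈ Z, ∃ a ∈ A₀, ∃ b ∈ B₀, z = a * b := fun z hz => by
    obtain ⟨a, ha, b, hb, rfl⟩ := covers_top hp.comm z (hZU hz)
    refine ⟨a, Subgroup.mem_inf.2 ⟨ha, ?_⟩, b, Subgroup.mem_inf.2 ⟨hb, ?_⟩, rfl⟩
    · have h := mul_mem (Subgroup.mem_sup_right hz : a * b ∈ R ⊔ Z) (Subgroup.mem_sup_left (inv_mem hb))
      rwa [mul_inv_cancel_right] at h
    · have h := mul_mem (Subgroup.mem_sup_left (inv_mem ha) : a⁻¹ ∈ F.core ⊔ Z) (Subgroup.mem_sup_right hz)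
      rwa [inv_mul_cancel_left] at h
  have hcov' : Covers (A ⊔ A₀) (B ⊔ B₀) (P ⊔ Z) := by
    intro w hw
    refine covers_top (fun x hx y hy => hp.comm x (hg₁.le hx) y (hg₂.le hy)) w ?_
    refine (sup_le (fun x hx => ?_) fun z hz => ?_ : P ⊔ Z ≤ (A ⊔ A₀) ⊔ (B ⊔ B₀)) hw
    · obtain ⟨a, ha, b, hb, rfl⟩ := hcov x hx
      exact mul_mem (Subgroup.mem_sup_left (Subgroup.mem_sup_left ha))
        (Subgroup.mem_sup_right (Subgroup.mem_sup_left hb))
    · obtain ⟨a, ha, b, hb, rfl⟩ := hdec z hz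
      exact mul_mem (Subgroup.mem_sup_left (Subgroup.mem_sup_right ha))
        (Subgroup.mem_sup_right (Subgroup.mem_sup_right hb))
  obtain ⟨g, hg⟩ := hp.exists_prod_fn (hA.trans le_sup_left) (hB.trans le_sup_left) hg₁ hg₂ hcov'
  refine ⟨g, hprod.intro' hg₁ hg₂ (hA.trans le_sup_left) (hB.trans le_sup_left) hcov' hg,
    fun x hx => ?_, fun z hz => ?_⟩
  · obtain ⟨a, ha, b, hb, rfl⟩ := hcov x hx
    rw [hg a (Subgroup.mem_sup_left ha) b (Subgroup.mem_sup_left hb) (Subgroup.mem_sup_left hx),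
      hge₁ a ha, hge₂ b hb, he a ha b hb hx]
  · obtain ⟨a, ha, b, hb, rfl⟩ := hdec z hz
    rw [hg a (Subgroup.mem_sup_right ha) b (Subgroup.mem_sup_right hb) (Subgroup.mem_sup_right hz),
      hgA a ha, hgB b hb]

end Cfsg.Agent.FusionLayer
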