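import Cfsg.Agent.S5144
import Cfsg.Agent.Lib.FusionProduct.NormalTools
import Cfsg.Agent.Lib.Fusion.LocalModel

/-
Central subgroups of normal subsystems.
Main results (namespace `Cfsg.Agent.FusionLayer`): `fix_of_center`, `le_center_of_fn`,
`isNormalIn_of_sub`, `exists_fixed_subsystem`, `le_cent`, `exists_good_ext`.
-/

set_option autoImplicit false

namespace Cfsg.Agent.FusionLayer

open Cfsg Cfsg.FusionSystem Cfsg.Agent.Fusion Cfsg.Agent.FusionNormalCent

variable {Ω : Type*} [Group Ω] {S T : Subgroup Ω} {F : FusionSystem S} {E : FusionSystem T} {p : ℕ}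

theorem center_le [Finite T] (E : FusionSystem T) : E.center ≤ T := (S5144.result E).1

/-- Maps extend so as to fix a given part of the centre. -/
theorem fix_of_center [Finite T] {R : Subgroup Ω} (hR : R ≤ E.center) {P : Subgroup Ω} {f : Ω → Ω}
    (hf : IsMap E P f) : Fix E R P f := by
  obtain ⟨φ, hφ, e⟩ := hf
  obtain ⟨ψ, hψ, h1, h2⟩ := (S5144.result E).2 P φ hφ
  refine ⟨toFn ψ, (isMap_toFn hψ).mono (sup_le_sup_left hR P), fun x hx => ?_, fun y hy => ?_⟩
  · rw [toFn_apply ψ (Subgroup.mem_sup_left hx), ← e x hx]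
    exact h1 ⟨x, hx⟩
  · rw [toFn_apply ψ (Subgroup.mem_sup_right (hR hy))]
    exact h2 ⟨y, hR hy⟩

theorem isCentral_of_fn {R : Subgroup Ω} (hR : R ≤ T)
    (h : ∀ P f, IsMap E P f → Fix E R P f) : E.IsCentral R := by
  refine ⟨hR, fun P φ hφ => ?_⟩
  obtain ⟨g, ⟨ψ, hψ, e⟩, h1, h2⟩ := h P _ (isMap_toFn hφ)
  refine ⟨ψ, hψ, fun x => ?_, fun x => ?_⟩
  · exact ((e _ (Subgroup.mem_sup_left x.2)).trans (h1 x x.2)).trans (toFn_coe φ x)
  · exact (e _ (Subgroup.mem_sup_right x.2)).trans (h2 x x.2)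

theorem le_center_of_fn {R : Subgroup Ω} (hR : R ≤ T)
    (h : ∀ P f, IsMap E P f → Fix E R P f) : R ≤ E.center :=
  le_sSup (isCentral_of_fn hR h)

/-- A centred element commutes with the whole group. -/
theorem center_comm {x t : Ω} (hx : x ∈ E.center) (ht : t ∈ T) : t * x = x * t :=
  E.center_le_centralizer hx t ht

/-- An invariant saturated subsystem over the same group of a normal subsystem is normal. -/
theorem isNormalIn_of_sub {E' : FusionSystem T} (hE : E.IsNormalIn F p) (hsub : E'.IsSubsystemOf E)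
    (hs : E'.IsSaturated p) (hi : E'.IsInvariantIn F) : E'.IsNormalIn F p :=
  ⟨⟨hs, hE.1.2.1, hi⟩, fun α hα => hE.2 α (FusionNormal.autGroup_le_of_sub hsub le_rfl hα)⟩

variable [Finite S] [Fact p.Prime]

/-- The maps of a normal subsystem fixing a central normal subgroup form a normal subsystem. -/
theorem exists_fixed_subsystem (hS : IsPGroup p S) (hE : E.IsNormalIn F p) {R : Subgroup Ω}
    (hRT : R ≤ T) (hcen : ∀ t ∈ T, ∀ r ∈ R, t * r = r * t) (hR : F.StronglyClosed R) :
    ∃ E' : FusionSystem T, E'.IsNormalIn F p ∧ R ≤ E'.center ∧ E'.IsSubsystemOf E ∧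
      (R ≤ E.center → E' = E) := by
  have hTc : F.StronglyClosed T := hE.1.2.2.2.1
  have hTS : T ≤ S := hTc.1
  have := finite_of_le hTS
  have hT : IsPGroup p T := hS.to_le hTS
  have hRab : IsMulCommutative R :=
    ⟨⟨fun a b => Subtype.ext (hcen a (hRT a.2) b b.2)⟩⟩
  have hRc : E.StronglyClosed R := stronglyClosed_iff.2 ⟨hRT, fun P f hf x hx hxR =>
    (stronglyClosed_iff.1 hR).2 P f (FusionNormal.isMap_of_sub hE.1.2.2.1 hf) x hx hxR⟩
  have hRn : E.IsNormal R := isNormal_of_abelian hT hE.1.1 hRc hRab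
  obtain ⟨C, hC, hCn⟩ := FusionProduct.exists_centralizer_normal hT hE.1.1 hRn
  have hCT : centralizerIn T R = T := inf_eq_left.2 fun t ht =>
    Subgroup.mem_centralizer_iff.2 fun r hr => (hcen t ht r hr).symm
  obtain ⟨E', hE'⟩ := exists_system_congr hCT C (H := fun P => C.Hom P) fun _ => rfl
  have hm : ∀ {P : Subgroup Ω} {f : Ω → Ω}, IsMap E' P f ↔ P ≤ T ∧ (∀ x ∈ P, f x ∈ T) ∧ Fix E R P f :=
    fun {P f} => by
      rw [isMap_congr_hom (E' := C) hE', isMap_centralizer hRT hC, hCT]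
  have hsub : E'.IsSubsystemOf E := fun P φ hφ => centralizer_le hC P (hE' P ▸ hφ)
  have hs : E'.IsSaturated p := isSaturated_congr hCT (fun P => (hE' P).symm) hCn.1.1
  refine ⟨E', isNormalIn_of_sub hE hsub hs ?_, ?_, hsub, fun hle => ?_⟩
  · refine FusionProduct.isInvariantIn_of_fn (fun P φ hφ => hE.1.2.2.1 P (hsub P hφ)) hTc
      (fun P f hPT hf α hα => ?_) fun P f hPT hf => ?_
    · obtain ⟨-, hfT, g, hg, hgf, hgR⟩ := hm.1 hf
      have hαm : IsMap F T (autFn α) := (mem_autGroup_iff hTS).1 hα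
      have hPR : P ⊔ R ≤ T := sup_le hPT hRT
      obtain ⟨g', hg', hge⟩ := FusionNormal.transport_map hE.1.2.2 hPR hg hα
      refine ⟨g', hm.2 ⟨hαm.img_le hPT fun x hx => autFn_mem α (hPT hx), fun y hy => ?_, g',
        hg'.mono (sup_le ?_ ?_), fun _ _ => rfl, fun r hr => ?_⟩, fun x hx => ?_⟩
      · obtain ⟨x, hx, rfl⟩ := (hαm.mem_img_iff hPT).1 hy
        rw [hge x (Subgroup.mem_sup_left hx), hgf x hx]
        exact autFn_mem α (hfT x hx)
      · exact Subgroup.closure_mono (Set.image_mono fun x hx => Subgroup.mem_sup_left hx)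
      · exact (img_strongly hR hαm hRT).ge.trans
          (Subgroup.closure_mono (Set.image_mono fun x hx => Subgroup.mem_sup_right hx))
      · rw [← img_strongly hR hαm hRT] at hr
        obtain ⟨x, hx, rfl⟩ := (hαm.mem_img_iff hRT).1 hr
        rw [hge x (Subgroup.mem_sup_right hx), hgR x hx]
      · rw [hge x (Subgroup.mem_sup_left hx), hgf x hx]
    · obtain ⟨α, hα, f₀, hf₀, he⟩ := FusionNormal.frattini_map hE.1.2.2 hPT hf
      obtain ⟨g, hg, hgf, hgR⟩ := (FusionChain.isNormal_iff.1 hRn).2 P f₀ hf₀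
      have hgI : IsIso E R R g := ⟨hg.mono le_sup_right, img_strongly hRc hg le_sup_right⟩
      obtain ⟨a, ha, hae⟩ := (isReceptive_iff.1 (receptive_of_fullyNormalized hT hE.1.1
        (fullyNormalized_strongly hRc))).2 R g hgI
      have haT : IsMap E T a := ha.mono fun t ht => centralizerIn_le_Nx T R g (hCT.ge ht)
      have haI : IsIso E T T a :=
        ⟨haT, eq_of_le_of_card le_rfl haT.img_le_S (haT.card_img le_rfl).ge⟩
      obtain ⟨a', ha', hal, har⟩ := haI.symm
      obtain ⟨γ, hγ, hγe⟩ := exists_aut_of_isIso haI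
      have hgT : ∀ x ∈ P ⊔ R, g x ∈ T := fun x hx => hg.mem hx
      have hga : IsMap E (P ⊔ R) (fun x => a' (g x)) := hg.comp ha'.1 hgT
      refine ⟨α * γ, mul_mem hα (FusionNormal.autGroup_le_of_sub hE.1.2.2.1 le_rfl hγ),
        fun x => a' (g x), hm.2 ⟨hPT, fun x hx => hga.mem (Subgroup.mem_sup_left hx), _, hga,
          fun _ _ => rfl, fun r hr => ?_⟩, fun x hx => ?_⟩
      · show a' (g r) = r
        rw [← hae r hr]
        exact hal r (hRT hr)
      · have hxT : a' (g x) ∈ T := hga.mem (Subgroup.mem_sup_left hx)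
        rw [FusionCrit.autFn_mul α γ hxT, autFn_apply γ hxT, hγe]
        show f x = autFn α (a (a' (g x)))
        rw [har _ (hgT x (Subgroup.mem_sup_left hx)), hgf x hx, he x hx]
  · refine le_center_of_fn hRT fun P f hf => ?_
    obtain ⟨hPT, hfT, g, hg, hgf, hgR⟩ := hm.1 hf
    refine ⟨g, hm.2 ⟨sup_le hPT hRT, fun x hx => hg.mem hx, g, ?_, fun _ _ => rfl, hgR⟩, hgf, hgR⟩
    rwa [sup_assoc, sup_idem]
  · refine ext_of_le (le_of_isMap fun P f hf => FusionNormal.isMap_of_sub hsub hf)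
      (le_of_isMap fun P f hf => hm.2 ⟨hf.le, fun x hx => hf.mem hx, fix_of_center hle hf⟩)

variable (hS : IsPGroup p S) (hF : F.IsSaturated p) (hE : E.IsNormalIn F p) {X : Subgroup Ω}

include hS hE in
/-- A periodic lift fixes every element centralizing `T` whose displacement is central in `E`. -/
theorem gen_fixed (hXc : F.StronglyClosed X) (hXT : X ≤ centralizerIn S T)
    (hR : T ⊓ X ≤ E.center) {P : Subgroup Ω} {n : ℕ} {f : Ω → Ω} (hf : Gen F E p P n f) {y : Ω}
    (hy : y ∈ X) : f y = y := by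
  obtain ⟨-, hPc, hn, hfE, L, hper⟩ := hf
  have hTS : T ≤ S := hE.1.2.2.2.1.1
  have := finite_of_le hTS
  have hyD : y ∈ Dom S P := cen_le_dom_of_le hPc.1 (hXT hy)
  have hfy : f y ∈ X := (stronglyClosed_iff.1 hXc).2 _ f L.map y hyD hy
  set u := y⁻¹ * f y with hu
  have huP : u ∈ P := L.modP y hyD
  have huR : u ∈ E.center := hR ⟨hPc.1 huP, X.mul_mem (X.inv_mem hy) hfy⟩
  obtain ⟨g, -, hgf, hgR⟩ := fix_of_center le_rfl hfE
  have hfu : f u = u := (hgf u huP).symm.trans (hgR u huR)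
  have hk := hper y hyD
  rw [iterate_twist L.map hyD (le_dom S P huP) (mul_inv_cancel_left y (f y)).symm hfu,
    mul_eq_left] at hk
  obtain ⟨k, hk'⟩ := hS ⟨u, L.map.le (le_dom S P huP)⟩
  have hk'' : u ^ p ^ k = 1 := congrArg Subtype.val hk'
  have h1 := FusionNormal.pow_gcd_mem (H := (⊥ : Subgroup Ω)) (Subgroup.mem_bot.2 hk) hk''
  rw [Nat.Coprime.gcd_eq_one (hn.pow_right k), pow_one, Subgroup.mem_bot] at h1
  exact (inv_mul_eq_one.1 h1).symm

include hS hF hE in
/-- A strongly closed subgroup of `C_S(T)` meeting `T` in the centre of `E` centralizes `E`. -/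
theorem le_cent (hXc : F.StronglyClosed X) (hXT : X ≤ centralizerIn S T) (hR : T ⊓ X ≤ E.center) :
    X ≤ cent F E p hE.1.2.2 := fun x hx =>
  ⟨hXT hx, fun a ha _ _ _ hf => gen_fixed hS hE hXc hXT hR hf
    ((stronglyClosed_iff.1 hXc).2 _ a ha.1 x (cen_le_dom S T (hXT hx)) hx)⟩

include hS hF hE in
theorem centralizes_of_closed (hXc : F.StronglyClosed X) (hXT : X ≤ centralizerIn S T)
    (hR : T ⊓ X ≤ E.center) : Centralizes F E X :=
  (cent_centralizes hE hS hF).mono (le_cent hS hF hE hXc hXT hR)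

include hS hF hE in
/-- Automorphisms of `T` in `E` extend to `T C_S(T)` trivially modulo `T` and fixing `X`. -/
theorem exists_good_ext (hXc : F.StronglyClosed X) (hXT : X ≤ centralizerIn S T)
    (hR : T ⊓ X ≤ E.center) {α : MulAut T} (hα : α ∈ E.autGroup T) :
    ∃ g, Lift F T (autFn α) g ∧ ∀ x ∈ X, g x = x := by
  have hTS : T ≤ S := hE.1.2.2.2.1.1
  have := finite_of_le hTS
  have hT : IsPGroup p T := hS.to_le hTS
  have := finite_mulAut (S := S) hTS
  let H : Subgroup (MulAut T) :=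
    { carrier := {a | ∃ g, Lift F T (autFn a) g ∧ ∀ x ∈ X, g x = x}
      one_mem' := ⟨fun x => x, ⟨IsMap.id (dom_le hTS),
        fun x hx => by rw [autFn_apply _ hx]; rfl,
        fun x _ => by rw [inv_mul_cancel]; exact one_mem T⟩, fun _ _ => rfl⟩
      mul_mem' := by
        rintro a b ⟨ga, ha, haX⟩ ⟨gb, hb, hbX⟩
        refine ⟨_, ⟨(hb.comp ha).map, fun x hx => ((hb.comp ha).eq x hx).trans
          (FusionCrit.autFn_mul a b hx).symm, (hb.comp ha).modP⟩, fun x hx => ?_⟩
        show ga (gb x) = x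
        rw [hbX x hx, haX x hx]
      inv_mem' := by
        rintro a ⟨ga, ha, haX⟩
        have h := ha.iterate (orderOf a - 1)
        refine ⟨_, ⟨h.map, fun x hx => (h.eq x hx).trans ?_, h.modP⟩,
          fun x hx => Function.iterate_fixed (haX x hx) _⟩
        rw [← autFn_pow a _ hx]
        congr 1
        rw [eq_inv_iff_mul_eq_one, ← pow_succ,
          Nat.sub_add_cancel (orderOf_pos a), pow_orderOf_eq_one] }
  show α ∈ H
  refine FusionNormal.autGroup_le_of_sylow_pResidual (H := H)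
    (isFullyAutomized_iff.1 (fullyAutomized_of_fullyNormalized hT hE.1.1
      (isFullyNormalized_self E))).2 (fun a ha => ?_) (fun a ha hn => ?_) hα
  · obtain ⟨t, ht, hte⟩ := mem_autInducedBy_iff.1 ha
    refine ⟨fun x => t * x * t⁻¹, Lift.of_centralizer (IsMap.conj (dom_le hTS) (hTS ht))
      (fun x hx => ((autFn_apply a hx).trans (hte ⟨x, hx⟩)).symm)
      (fun x hx => mul_mem (mul_mem ht hx) (inv_mem ht)) fun c hc => ?_, fun x hx => ?_⟩
    · rw [← (mem_centralizerIn.1 hc).2 t ht, mul_inv_cancel_right, inv_mul_cancel]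
      exact one_mem T
    · show t * x * t⁻¹ = x
      rw [← (mem_centralizerIn.1 (hXT hx)).2 t ht, mul_inv_cancel_right]
  · have hTc : E.IsCentric T := ⟨le_rfl, fun Q hQ => by
      obtain ⟨φ, hφ⟩ := isConj_iff.1 hQ
      rw [eq_of_le_of_card le_rfl hφ.le_right hφ.card_eq.ge]
      exact inf_le_left⟩
    obtain ⟨f, L, hper⟩ := exists_periodic_lift hS hF hE hTc ha hn
    exact ⟨f, L, fun x hx => gen_fixed hS hE hXc hXT hR
      ⟨fullyNormalized_strongly hE.1.2.2.2.1, hTc, hn,
        ((mem_autGroup_iff le_rfl).1 ha).congr fun y hy => (L.eq y hy).symm,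
        ⟨L.map, fun _ _ => rfl, L.modP⟩, hper⟩ hx⟩

end Cfsg.Agent.FusionLayer
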