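import Cfsg.Agent.Lib.FusionLayer.ComponentNormal

/-
Components of central products.
Main result (namespace `Cfsg.Agent.FusionLayer`): `component_of_centralProduct`.
-/

set_option autoImplicit false

namespace Cfsg.Agent.FusionLayer

open Cfsg Cfsg.Agent.Fusion Cfsg.Agent.FusionNormalCent
open Cfsg.FusionSystem hiding inv_mem

variable {Ω : Type*} [Group Ω] {S S₁ S₂ T : Subgroup Ω} {F : FusionSystem S} {p : ℕ}
  [Finite S] [Fact p.Prime] {F₁ : FusionSystem S₁} {F₂ : FusionSystem S₂} {C : FusionSystem T}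

/-- Every component of a central product is a component of one of the factors. -/
theorem component_of_centralProduct (hS : IsPGroup p S) (h₁ : F₁.IsSaturated p) (h₂ : F₂.IsSaturated p)
    (h₁F : F₁.IsSubsystemOf F) (h₂F : F₂.IsSubsystemOf F)
    (hc : IsCentralProductOf F₁ F₂ F) (hC : C.IsComponentIn F p) :
    C.IsComponentIn F₁ p ∨ C.IsComponentIn F₂ p := by
  have hS₁ := le_base_of_sub h₁F
  have hS₂ := le_base_of_sub h₂F
  have := finite_of_le hS₁
  have := finite_of_le hS₂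
  obtain ⟨hU, hcomm, hz₁, hz₂⟩ := centralProduct_data hc
  subst hU
  obtain ⟨D, hDs, hcp, hD⟩ := exists_prod (hS.to_le hS₁) (hS.to_le hS₂) h₁ h₂ hcomm hz₁ hz₂
  obtain ⟨-, e1, e2⟩ := centralProduct_unique hc hcp
  obtain rfl : F = D := ext_of_hom fun P => (e1 P).antisymm (e2 P)
  have hcomm' : ∀ x ∈ S₂, ∀ y ∈ S₁, x * y = y * x := fun x hx y hy => (hcomm y hy x hx).symm
  have hz₂' : S₂ ⊓ S₁ ≤ F₂.center := inf_comm S₁ S₂ ▸ hz₂
  obtain ⟨D', hD's, -, hD'⟩ := exists_prod (hS.to_le hS₂) (hS.to_le hS₁) h₂ h₁ hcomm' hz₂'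
    (inf_comm S₁ S₂ ▸ hz₁)
  have hn₁ : F₁.IsNormalIn F p := isNormalIn_of_factor hD hDs hcomm hz₁ (isNormalIn_self h₁)
  have hn₂ : F₂.IsNormalIn F p := isNormalIn_congr (prod_swap_sub hD' hD hcomm')
    (prod_swap_sub hD hD' hcomm) (isNormalIn_of_factor hD' hD's hcomm' hz₂' (isNormalIn_self h₂))
  rcases dichotomy hS hC hn₁ with a | a
  · exact Or.inl (component_of_normal hS hC hn₁ (le_base_of_sub a))
  rcases dichotomy hS hC hn₂ with b | b
  · exact Or.inr (component_of_normal hS hC hn₂ (le_base_of_sub b))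
  have c₁ := (component_centralizes hS hC hn₁ a).1.1
  have c₂ := (component_centralizes hS hC hn₂ b).1.1
  refine (component_not_comm hS hC fun t ht => mem_centralizerIn.2 ⟨component_le_S hC ht, fun u hu => ?_⟩).elim
  obtain ⟨x, hx, y, hy, rfl⟩ := covers_top hcomm u (component_le_S hC hu)
  have h1 := (mem_centralizerIn.1 (c₁ hx)).2 t ht
  have h2 := (mem_centralizerIn.1 (c₂ hy)).2 t ht
  rw [← mul_assoc, ← h1, mul_assoc, ← h2, mul_assoc]

end Cfsg.Agent.FusionLayer
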