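import Cfsg.Agent.Lib.FusionLayer.Central
import Cfsg.Agent.Lib.FusionInner.Basic
import Cfsg.Agent.Lib.FusionNormalCent.Closed

/-
A normal subsystem equal to its hyperfocal subgroup and a normal subsystem meeting it in its centre
centralize each other.
Main results (namespace `Cfsg.Agent.FusionLayer`): `hom_const`, `conj_const`, `commute_of_perfect`,
`centralizes_perfect`, `perfect_centralizes`.
-/

set_option autoImplicit false

namespace Cfsg.Agent.FusionLayer

open Cfsg Cfsg.Agent.Fusion Cfsg.Agent.FusionNormalCent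
open Cfsg.FusionSystem hiding inv_mem
open scoped commutatorElement
open Cfsg.Agent.FusionCrit (autFn_mul autFn_inv_self autFn_self_inv)

variable {Ω : Type*} [Group Ω] {S T V : Subgroup Ω} {p : ℕ}

/-- A homomorphism of `T` into a central subgroup that is invariant modulo `R₀` under the automizers of
centric radical subgroups is invariant modulo `R₀` under all maps, and trivial on the hyperfocal subgroup. -/
theorem hom_const [Finite T] [Fact p.Prime] (hT : IsPGroup p T) {C : FusionSystem T}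
    (hC : C.IsSaturated p) {R₀ : Subgroup Ω} {r : Ω → Ω}
    (hmul : ∀ x ∈ T, ∀ y ∈ T, r (x * y) = r x * r y)
    (hcomm : ∀ x ∈ T, ∀ y ∈ T, r x * r y = r y * r x)
    (hbase : ∀ P : Subgroup Ω, C.IsFullyNormalized P → C.IsCentric P → C.IsRadical p P →
      ∀ α ∈ C.autGroup P, (orderOf α).Coprime p → ∀ x ∈ P, (r x)⁻¹ * r (autFn α x) ∈ R₀) :
    (∀ P f, IsMap C P f → ∀ x ∈ P, (r x)⁻¹ * r (f x) ∈ R₀) ∧
      ∀ x ∈ C.hyperfocalSubgroup p, r x ∈ R₀ := by
  have hr1 : r 1 = 1 := by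
    have := hmul 1 (one_mem _) 1 (one_mem _)
    rwa [one_mul, left_eq_mul] at this
  have hinv : ∀ x ∈ T, r x⁻¹ = (r x)⁻¹ := fun x hx => eq_inv_of_mul_eq_one_left (by
    rw [← hmul _ (inv_mem hx) _ hx, inv_mul_cancel, hr1])
  have main : ∀ P f, IsMap C P f → ∀ x ∈ P, (r x)⁻¹ * r (f x) ∈ R₀ := by
    intro P f hf
    refine FusionChain.alperin_induction hT hC (fun P f => ∀ x ∈ P, (r x)⁻¹ * r (f x) ∈ R₀)
      ?_ ?_ ?_ ?_ hf
    · intro P f g _ h he x hx
      exact he x hx ▸ h x hx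
    · exact fun P P' f _ hle h x hx => h x (hle hx)
    · intro P P' f g _ _ hfP h h' x hx
      rw [show (r x)⁻¹ * r (g (f x)) = ((r x)⁻¹ * r (f x)) * ((r (f x))⁻¹ * r (g (f x))) by group]
      exact mul_mem (h x hx) (h' _ (hfP x hx))
    intro P hn hc hrad α hα _ x hx
    have hP : P ≤ T := hc.1
    have := finite_mulAut (S := T) hP
    let H : Subgroup (MulAut P) :=
      { carrier := {a | ∀ x ∈ P, (r x)⁻¹ * r (autFn a x) ∈ R₀}
        one_mem' := fun x hx => by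
          rw [autFn_apply (1 : MulAut P) hx, MulAut.one_apply, inv_mul_cancel]
          exact one_mem R₀
        mul_mem' := fun {a b} ha hb x hx => by
          rw [autFn_mul a b hx, show (r x)⁻¹ * r (autFn a (autFn b x)) =
            ((r x)⁻¹ * r (autFn b x)) * ((r (autFn b x))⁻¹ * r (autFn a (autFn b x))) by group]
          exact mul_mem (hb x hx) (ha _ (autFn_mem b hx))
        inv_mem' := fun {a} ha x hx => by
          have := ha _ (autFn_mem a⁻¹ hx)
          rw [autFn_self_inv a hx] at this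
          simpa using R₀.inv_mem this }
    have hle : C.autGroup P ≤ H := by
      refine FusionNormal.autGroup_le_of_sylow_pResidual (isFullyAutomized_iff.1
        (fullyAutomized_of_fullyNormalized hT hC hn)).2 (fun a ha => ?_) fun a ha hc' => hbase P hn hc hrad a ha hc'
      intro y hy
      obtain ⟨t, ht, hte⟩ := mem_autInducedBy_iff.1 ha
      rw [autFn_apply a hy, hte, hmul _ (mul_mem ht (hP hy)) _ (inv_mem ht), hmul _ ht _ (hP hy),
        hcomm _ ht _ (hP hy), hinv t ht, mul_inv_cancel_right, inv_mul_cancel]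
      exact one_mem R₀
    exact hle hα x hx
  refine ⟨main, fun x hx => ?_⟩
  let K : Subgroup Ω :=
    { carrier := {x | x ∈ T ∧ r x ∈ R₀}
      one_mem' := ⟨one_mem _, hr1.symm ▸ one_mem R₀⟩
      mul_mem' := fun ha hb => ⟨mul_mem ha.1 hb.1, (hmul _ ha.1 _ hb.1).symm ▸ mul_mem ha.2 hb.2⟩
      inv_mem' := fun ha => ⟨inv_mem ha.1, (hinv _ ha.1).symm ▸ inv_mem ha.2⟩ }
  suffices h : C.hyperfocalSubgroup p ≤ K from (h hx).2
  refine (Subgroup.closure_le _).2 ?_
  rintro y ⟨P, α, z, hP, -, rfl⟩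
  have hz : ((α : MulAut P) z : Ω) ∈ T := hP ((α : MulAut P) z).2
  refine ⟨mul_mem (inv_mem (hP z.2)) hz, ?_⟩
  rw [hmul _ (inv_mem (hP z.2)) _ hz, hinv _ (hP z.2)]
  have := main P _ ((mem_autGroup_iff hP).1 α.2) z z.2
  rwa [autFn_apply _ z.2] at this

variable [Finite S] [Fact p.Prime] (hS : IsPGroup p S) {F : FusionSystem S} (hF : F.IsSaturated p)
  {C : FusionSystem T} (hC : C.IsNormalIn F p) (hV : F.StronglyClosed V) (hR : T ⊓ V ≤ C.center)

include hS hF hC hV hR in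
/-- The core computation: an element of `V` normalizing `P` commutes on it with automorphisms of order
prime to `p` in `C`. -/
theorem conj_const {P : Subgroup Ω} (hPn : F.IsFullyNormalized P) (hPc : C.IsCentric P)
    (hRP : T ⊓ V ≤ P)
    (hinn : ∀ κ ∈ C.autGroup P, (∀ x : P, (x : Ω) ∈ T ⊓ V → κ x = x) →
      (∀ x : P, (x : Ω)⁻¹ * (κ x : P) ∈ T ⊓ V) → κ ∈ Cfsg.Inn P)
    {α : MulAut P} (hα : α ∈ C.autGroup P) (hn : (orderOf α).Coprime p) {v : Ω} (hv : v ∈ V) :
    ∀ x ∈ P, autFn α (v * x * v⁻¹) = v * autFn α x * v⁻¹ := by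
  have hTc : F.StronglyClosed T := hC.1.2.2.2.1
  have hPT := hPc.1
  have hPS : P ≤ S := hPT.trans hTc.1
  have := finite_of_le hTc.1
  have := finite_mulAut (S := S) hPS
  set R := T ⊓ V with hRdef
  have hcR : F.StronglyClosed R := FusionInner.stronglyClosed_inf hTc hV
  have hvS := hV.1 hv
  have hvT : ∀ x ∈ T, x⁻¹ * (v * x * v⁻¹) ∈ R := fun x hx => by
    refine Subgroup.mem_inf.2 ⟨mul_mem (inv_mem hx) (conj_mem_of_stronglyClosed hTc hvS hx), ?_⟩
    rw [show x⁻¹ * (v * x * v⁻¹) = (x⁻¹ * v * x⁻¹⁻¹) * v⁻¹ by group]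
    exact V.mul_mem (conj_mem_of_stronglyClosed hV (S.inv_mem (hTc.1 hx)) hv) (V.inv_mem hv)
  have hvN : v ∈ normalizerIn S P := by
    have := finite_of_le hPS
    refine mem_normalizerIn_of_conj hvS fun x hx => ?_
    simpa using mul_mem hx (hRP (hvT x (hPT hx)))
  set γ := normConj S P ⟨v, hvN⟩ with hγdef
  have hγ : γ ∈ F.autGroup P :=
    autInducedBy_le_autGroup F le_rfl hPS ((range_normConj S P).le ⟨_, rfl⟩)
  have hαF : α ∈ F.autGroup P := FusionNormal.autGroup_le_of_sub hC.1.2.2.1 hPT hα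
  have hfixR : ∀ x : P, (x : Ω) ∈ R → α x = x := fun x hx => Subtype.ext (by
    rw [← autFn_apply α x.2]
    obtain ⟨g, -, hge, hgR⟩ := fix_of_center hR ((mem_autGroup_iff hPT).1 hα)
    rw [← hge x x.2, hgR x hx])
  have hfixR' : ∀ x : P, (x : Ω) ∈ R → α⁻¹ x = x := fun x hx => by
    conv_lhs => rw [← hfixR x hx]
    simp
  let K : Subgroup (MulAut P) :=
    { carrier := {κ | κ ∈ F.autGroup P ∧ (∀ x : P, (x : Ω) ∈ R → κ x = x) ∧
        ∀ x : P, (x : Ω)⁻¹ * (κ x : P) ∈ R}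
      one_mem' := ⟨one_mem _, fun _ _ => rfl, fun x => by simp⟩
      mul_mem' := fun {b c} hb hc => ⟨mul_mem hb.1 hc.1,
        fun x hx => by rw [MulAut.mul_apply, hc.2.1 x hx, hb.2.1 x hx],
        fun x => by
          have e : (x : Ω)⁻¹ * ((b * c) x : P) =
              ((x : Ω)⁻¹ * (c x : P)) * (((c x : P) : Ω)⁻¹ * (b (c x) : P)) := by
            rw [MulAut.mul_apply]
            group
          exact e ▸ mul_mem (hc.2.2 x) (hb.2.2 _)⟩
      inv_mem' := fun {b} hb => ⟨inv_mem hb.1,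
        fun x hx => by
          conv_lhs => rw [← hb.2.1 x hx]
          simp,
        fun x => by
          have := R.inv_mem (hb.2.2 (b⁻¹ x))
          rw [MulAut.apply_inv_self] at this
          simpa using this⟩ }
  have hKp : IsPGroup p K := isPGroup_fixing (F := F) hS hRP hPS (fun κ hκ => hκ.1)
    (fun κ hκ x hx => by rw [autFn_apply κ (hRP hx), hκ.2.1 ⟨x, hRP hx⟩ hx])
    fun κ hκ x hx => by rw [autFn_apply κ hx]; exact hκ.2.2 ⟨x, hx⟩
  have hGR : ∀ b ∈ F.autGroup P, ∀ x : P, (x : Ω) ∈ R → ((b x : P) : Ω) ∈ R := fun b hb x hx => by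
    rw [← autFn_apply b x.2]
    exact autFn_mem_of_stronglyClosed hcR hPS hb x.2 hx
  have hKn : ∀ b ∈ F.autGroup P, ∀ κ ∈ K, b * κ * b⁻¹ ∈ K := by
    intro b hb κ hκ
    refine ⟨mul_mem (mul_mem hb hκ.1) (inv_mem hb), fun x hx => ?_, fun x => ?_⟩
    · rw [MulAut.mul_apply, MulAut.mul_apply, hκ.2.1 _ (hGR _ (inv_mem hb) x hx),
        MulAut.apply_inv_self]
    · have hd : (((b⁻¹ x)⁻¹ * κ (b⁻¹ x) : P) : Ω) ∈ R := hκ.2.2 _
      have h2 := hGR b hb _ hd
      rw [map_mul, map_inv, MulAut.apply_inv_self] at h2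
      exact h2
  -- the commutator of `α` and `γ` lies in the stabilizer
  have hmodγ : ∀ x : P, (x : Ω)⁻¹ * (γ x : P) ∈ R := fun x => hvT x (hPT x.2)
  have hcomm : α * γ * α⁻¹ * γ⁻¹ ∈ K := by
    refine ⟨mul_mem (mul_mem (mul_mem hαF hγ) (inv_mem hαF)) (inv_mem hγ), fun x hx => ?_, fun x => ?_⟩
    · have h1 := hGR _ (inv_mem hγ) x hx
      rw [MulAut.mul_apply, MulAut.mul_apply, MulAut.mul_apply, hfixR' _ h1, MulAut.apply_inv_self,
        hfixR x hx]
    · obtain ⟨y, hy⟩ : ∃ y : P, γ (α y) = x :=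
        ⟨α⁻¹ (γ⁻¹ x), by rw [MulAut.apply_inv_self, MulAut.apply_inv_self]⟩
      subst hy
      rw [MulAut.mul_apply, MulAut.mul_apply, MulAut.mul_apply, MulAut.inv_apply_self,
        MulAut.inv_apply_self]
      have h1 : ((y⁻¹ * γ y : P) : Ω) ∈ R := hmodγ y
      have h2 := congrArg Subtype.val (hfixR _ h1)
      rw [map_mul, map_inv] at h2
      push_cast at h2
      rw [show ((γ (α y) : P) : Ω)⁻¹ * (α (γ y) : P) = ((α y : Ω)⁻¹ * (γ (α y) : P))⁻¹ *
        ((α y : Ω)⁻¹ * (α (γ y) : P)) by group, h2]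
      exact mul_mem (R.inv_mem (hmodγ (α y))) (hmodγ y)
  have hKS : K ≤ autInducedBy S P := fun k hk => by
    obtain ⟨c, hc, hcK⟩ := (isFullyAutomized_iff.1
      (fullyAutomized_of_fullyNormalized hS hF hPn)).2.exists_conj_le hKp (fun κ hκ => hκ.1)
    have h := hcK _ (hKn c⁻¹ (inv_mem hc) k hk)
    simpa [mul_assoc] using h
  have hαγ : α * γ * α⁻¹ ∈ autInducedBy S P := by
    rw [show α * γ * α⁻¹ = (α * γ * α⁻¹ * γ⁻¹) * γ by group]
    exact mul_mem (hKS hcomm) ((range_normConj S P).le ⟨_, rfl⟩)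
  obtain ⟨σ, hσ, hσe⟩ := mem_autInducedBy_iff.1 hαγ
  have hvNx : v ∈ Nx S P (autFn α) := by
    refine mem_Nx.2 ⟨hvN, σ, hσ, fun z hz => ?_⟩
    have h1 := hσe (α ⟨z, hz⟩)
    rw [MulAut.mul_apply, MulAut.mul_apply, MulAut.inv_apply_self] at h1
    rw [autFn_apply α hz, autFn_apply α (normalizerIn_conj hvN hz), ← h1]
    rfl
  obtain ⟨ψ, hψ, hψe⟩ := (isReceptive_iff.1 (receptive_of_fullyNormalized hS hF hPn)).2 P _
    (isIso_autFn hPS hαF)
  have hψv : ψ v ∈ V := (stronglyClosed_iff.1 hV).2 _ ψ hψ v hvNx hv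
  set u := v⁻¹ * ψ v with hu
  have huV : u ∈ V := mul_mem (inv_mem hv) hψv
  set κ := γ⁻¹ * (α * γ * α⁻¹) with hκdef
  have hκe : ∀ x : P, ((κ x : P) : Ω) = u * x * u⁻¹ := by
    intro x
    obtain ⟨y, rfl⟩ : ∃ y : P, α y = x := α.surjective x
    have hγi : ∀ z : P, ((γ⁻¹ z : P) : Ω) = v⁻¹ * z * v := fun z => by
      obtain ⟨w, rfl⟩ : ∃ w : P, γ w = z := γ.surjective z
      rw [MulAut.inv_apply_self, hγdef, normConj_apply]
      group
    rw [hκdef, MulAut.mul_apply, MulAut.mul_apply, MulAut.mul_apply, MulAut.inv_apply_self, hγi, hu,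
      ← autFn_apply α (γ y).2, hγdef, normConj_apply, ← hψe _ (normalizerIn_conj hvN y.2),
      hψ.map_conj hvNx (le_Nx (isIso_autFn hPS hαF).1 y.2), hψe y y.2, autFn_apply α y.2]
    group
  have hκC : κ ∈ C.autGroup P := by
    rw [show κ = γ⁻¹ * α * γ⁻¹⁻¹ * α⁻¹ by rw [hκdef]; group]
    exact mul_mem (FusionNormal.conj_mem_autGroup hC.1.2.2 hPT (inv_mem hγ) hα) (inv_mem hα)
  have hκK : κ ∈ K := by
    rw [show κ = γ⁻¹ * (α * γ * α⁻¹ * γ⁻¹) * γ⁻¹⁻¹ by rw [hκdef]; group]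
    exact hKn _ (inv_mem hγ) _ hcomm
  obtain ⟨p₀, hp₀⟩ := hinn κ hκC hκK.2.1 hκK.2.2
  have hp₀e : ∀ x : P, ((κ x : P) : Ω) = p₀ * x * (p₀ : Ω)⁻¹ := fun x => by
    rw [← hp₀]
    rfl
  have huS : u ∈ S := hV.1 huV
  have huD : u ∈ Dom S P := by
    have hc : (p₀ : Ω)⁻¹ * u ∈ centralizerIn S P := mem_centralizerIn_of_conj
      (S.mul_mem (S.inv_mem (hPS p₀.2)) huS) fun x hx => by
        have := (hp₀e ⟨x, hx⟩).symm.trans (hκe ⟨x, hx⟩)
        calc (p₀ : Ω)⁻¹ * u * x * ((p₀ : Ω)⁻¹ * u)⁻¹ = (p₀ : Ω)⁻¹ * (u * x * u⁻¹) * p₀ := by group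
          _ = x := by rw [← this]; group
    have := mul_mem (le_dom S P p₀.2) (cen_le_dom S P hc)
    rwa [mul_inv_cancel_left] at this
  obtain ⟨f, L⟩ := exists_lift hS hF hC hPc hα
  have hr : u⁻¹ * f u ∈ R := Subgroup.mem_inf.2 ⟨hPT (L.modP u huD),
    mul_mem (inv_mem huV) ((stronglyClosed_iff.1 hV).2 _ f L.map u huD huV)⟩
  have hRc : ∀ x : P, (x : Ω) * (u⁻¹ * f u) = (u⁻¹ * f u) * x := fun x =>
    center_comm (hR hr) (hPT x.2)
  have hκα : κ * α = α * κ := by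
    refine MulEquiv.ext fun x => Subtype.ext ?_
    show ((κ (α x) : P) : Ω) = ((α (κ x) : P) : Ω)
    rw [← autFn_apply α (κ x).2, hκe x,
      ← L.eq _ (hκe x ▸ (κ x).2), L.map.map_conj huD (le_dom S P x.2), L.eq x x.2,
      autFn_apply α x.2, hκe (α x)]
    rw [show f u = u * (u⁻¹ * f u) by group]
    generalize hr' : u⁻¹ * f u = r
    have := hRc (α x)
    rw [hr'] at this
    rw [show u * r * (α x : Ω) * (u * r)⁻¹ = u * (r * (α x : Ω) * r⁻¹) * u⁻¹ by group, ← this,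
      mul_inv_cancel_right]
  have hord : orderOf (κ * α) = orderOf α := by
    rw [show κ * α = MulAut.conj γ⁻¹ α by rw [MulAut.conj_apply, hκdef]; group]
    exact (MulAut.conj γ⁻¹).orderOf_eq α
  have hκn : κ ^ orderOf α = 1 := by
    have h1 := pow_orderOf_eq_one (κ * α)
    rwa [hord, (show Commute κ α from hκα).mul_pow, pow_orderOf_eq_one, mul_one] at h1
  obtain ⟨k, hk⟩ := hKp ⟨κ, hκK⟩
  have hκ1 : κ = 1 := by
    have h := FusionNormal.pow_gcd_mem (H := (⊥ : Subgroup (MulAut P))) (Subgroup.mem_bot.2 hκn)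
      (congrArg Subtype.val hk : κ ^ p ^ k = 1)
    rwa [Nat.Coprime.gcd_eq_one (hn.pow_right k), pow_one, Subgroup.mem_bot] at h
  have hag : α * γ = γ * α := by
    have h := hκ1
    rw [hκdef, inv_mul_eq_one, eq_mul_inv_iff_mul_eq] at h
    exact h.symm
  intro x hx
  have := congrArg (fun e : MulAut P => ((e ⟨x, hx⟩ : P) : Ω)) hag
  simp only [MulAut.mul_apply] at this
  rw [autFn_apply α (normalizerIn_conj hvN hx), autFn_apply α hx]
  exact this

include hS hF hC hV hR in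
/-- `[T, V] = 1`. -/
theorem commute_of_perfect (hhyp : C.hyperfocalSubgroup p = T) {t v : Ω} (ht : t ∈ T) (hv : v ∈ V) :
    t * v = v * t := by
  have hTc : F.StronglyClosed T := hC.1.2.2.2.1
  have hTS := hTc.1
  have := finite_of_le hTS
  have hT : IsPGroup p T := hS.to_le hTS
  have hvS := hV.1 hv
  have hcR : F.StronglyClosed (T ⊓ V) := FusionInner.stronglyClosed_inf hTc hV
  have hRC : C.StronglyClosed (T ⊓ V) := stronglyClosed_iff.2 ⟨inf_le_left, fun P f hf x hx hxR =>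
    (stronglyClosed_iff.1 hcR).2 P f (FusionNormal.isMap_of_sub hC.1.2.2.1 hf) x hx hxR⟩
  set r : Ω → Ω := fun x => x⁻¹ * (v * x * v⁻¹) with hrdef
  have hmem : ∀ x ∈ T, r x ∈ T ⊓ V := fun x hx => by
    refine Subgroup.mem_inf.2 ⟨mul_mem (inv_mem hx) (conj_mem_of_stronglyClosed hTc hvS hx), ?_⟩
    show x⁻¹ * (v * x * v⁻¹) ∈ V
    rw [show x⁻¹ * (v * x * v⁻¹) = (x⁻¹ * v * x⁻¹⁻¹) * v⁻¹ by group]
    exact V.mul_mem (conj_mem_of_stronglyClosed hV (S.inv_mem (hTS hx)) hv) (V.inv_mem hv)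
  have hcen : ∀ x ∈ T, ∀ y ∈ T, y * r x = r x * y := fun x hx y hy => center_comm (hR (hmem x hx)) hy
  have h := (hom_const (R₀ := (⊥ : Subgroup Ω)) (r := r) hT hC.1.1 (fun x hx y hy => ?_)
    (fun x hx y hy => (hcen y hy _ (Subgroup.mem_inf.1 (hmem x hx)).1))
    (fun P hn hc hrad α hα hco x hx => ?_)).2 t (hhyp.symm ▸ ht)
  · have h' : t⁻¹ * (v * t * v⁻¹) = 1 := Subgroup.mem_bot.1 h
    rw [inv_mul_eq_one, eq_mul_inv_iff_mul_eq] at h'
    exact h'
  · have e : r (x * y) = y⁻¹ * r x * y * r y := by simp only [hrdef]; group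
    rw [e, mul_assoc (y⁻¹), ← hcen x hx y hy, inv_mul_cancel_left]
  -- the automizer of a centric radical subgroup
  have hPT := hc.1
  have hPS := hPT.trans hTS
  have hRP : T ⊓ V ≤ P := fun z hz => hc.2 P (isConj_refl C hPT)
    (mem_centralizerIn.2 ⟨(Subgroup.mem_inf.1 hz).1, fun y hy => (center_comm (hR hz) (hPT hy)).symm⟩)
  obtain ⟨P', g, hP', hg, hgi, -⟩ := exists_fullyNormalized_map hS hF hPS
  have hg0 : IsIso F P P' g := ⟨hg.mono (le_normalizerIn hPS), hgi⟩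
  have hP'c : C.IsCentric P' := centric_of_conj hC.1.2.2 hc (isConj_iff.2 ⟨g, hg0⟩)
  have hgR : img g (T ⊓ V) = T ⊓ V := img_strongly hcR hg0.1 hRP
  have hRP' : T ⊓ V ≤ P' := fun z hz => by
    rw [← hgR] at hz
    rw [← hgi]
    exact Subgroup.closure_mono (Set.image_mono hRP) hz
  obtain ⟨gi, hgi0, hgl, hgr⟩ := hg0.symm
  have hinn : ∀ κ ∈ C.autGroup P', (∀ z : P', (z : Ω) ∈ T ⊓ V → κ z = z) →
      (∀ z : P', (z : Ω)⁻¹ * (κ z : P') ∈ T ⊓ V) → κ ∈ Cfsg.Inn P' := by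
    intro κ hκ hfix hmod
    set κ' := MulAut.congr hgi0.equiv κ with hκ'
    have hκ'C : κ' ∈ C.autGroup P := FusionNormal.congr_mem_autGroup hC.1.2.2 hgi0 hP'c.1 hκ
    have hval : ∀ z : P', ((κ' (hgi0.equiv z) : P) : Ω) = gi (κ z : P') := fun z =>
      congr_apply_coe hgi0 κ z
    have hgiR : ∀ z : P', gi z ∈ T ⊓ V → (z : Ω) ∈ T ⊓ V := fun z hz => by
      have := (stronglyClosed_iff.1 hcR).2 _ g hg0.1 _ (hgi0.mem z.2) hz
      rwa [hgr z z.2] at this
    obtain ⟨m, hm⟩ := FusionNormalCent.inner_of_radical hT hRC hPT hrad hκ'C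
      (fun y hy => by
        obtain ⟨z, rfl⟩ : ∃ z, hgi0.equiv z = y := hgi0.equiv.surjective y
        refine Subtype.ext ?_
        rw [hval, hfix z (hgiR z hy)]
        rfl)
      (fun y => by
        obtain ⟨z, rfl⟩ : ∃ z, hgi0.equiv z = y := hgi0.equiv.surjective y
        rw [hval, IsIso.equiv_apply, ← hgi0.1.map_inv z.2,
          ← hgi0.1.map_mul (inv_mem z.2) (κ z).2]
        exact (stronglyClosed_iff.1 hcR).2 _ gi hgi0.1 _ (mul_mem (inv_mem z.2) (κ z).2) (hmod z))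
    refine ⟨⟨g m, hg0.mem m.2⟩, MulEquiv.ext fun z => Subtype.ext ?_⟩
    have h1 := hval z
    rw [← hm] at h1
    replace h1 := congrArg g h1
    rw [hgr _ (κ z).2] at h1
    refine Eq.trans ?_ h1
    show g m * (z : Ω) * (g m)⁻¹ = g ((m : Ω) * gi z * (m : Ω)⁻¹)
    rw [hg0.1.map_conj m.2 (hgi0.mem z.2), hgr z z.2]
  have hvN : v ∈ normalizerIn S P := by
    have := finite_of_le hPS
    refine mem_normalizerIn_of_conj hvS fun z hz => ?_
    have := mul_mem hz (hRP (hmem z (hPT hz)))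
    rwa [hrdef, mul_inv_cancel_left] at this
  have hα' := FusionNormal.congr_mem_autGroup hC.1.2.2 hg0 hPT hα
  have hco' : (orderOf (MulAut.congr hg0.equiv α)).Coprime p :=
    (MulEquiv.orderOf_eq (MulAut.congr hg0.equiv) α).symm ▸ hco
  have key := conj_const hS hF hC hV hR hP' hP'c hRP' hinn hα' hco'
    ((stronglyClosed_iff.1 hV).2 _ g hg v hvN hv) (g x) (hg0.mem hx)
  have hxN : x ∈ normalizerIn S P := le_normalizerIn hPS hx
  rw [← hg.map_conj hvN hxN, autFn_apply _ (hg0.mem (normalizerIn_conj hvN hx)),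
    show (⟨g (v * x * v⁻¹), hg0.mem (normalizerIn_conj hvN hx)⟩ : P') =
      hg0.equiv ⟨_, normalizerIn_conj hvN hx⟩ from rfl,
    congr_apply_coe, autFn_apply _ (hg0.mem hx),
    show (⟨g x, hg0.mem hx⟩ : P') = hg0.equiv ⟨x, hx⟩ from rfl, congr_apply_coe,
    ← hg.map_conj hvN (le_normalizerIn hPS (α ⟨x, hx⟩).2)] at key
  have key' := hg0.1.inj (α ⟨_, normalizerIn_conj hvN hx⟩).2
    (normalizerIn_conj hvN (α ⟨x, hx⟩).2) key
  -- `α` fixes the displacement
  have hrx : r x ∈ T ⊓ V := hmem x (hPT hx)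
  obtain ⟨h', -, hhe, hhR⟩ := fix_of_center hR ((mem_autGroup_iff hPT).1 hα)
  have hαr : autFn α (r x) = r x := (hhe _ (hRP hrx)).symm.trans (hhR _ hrx)
  rw [Subgroup.mem_bot, inv_mul_eq_one]
  have hm := (mem_autGroup_iff hPT).1 hα
  have e1 : v * x * v⁻¹ = x * r x := by simp only [hrdef]; group
  rw [← autFn_apply α (normalizerIn_conj hvN hx), ← autFn_apply α hx, e1,
    hm.map_mul hx (hRP hrx), hαr] at key'
  show r x = r (autFn α x)
  show r x = (autFn α x)⁻¹ * (v * autFn α x * v⁻¹)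
  rw [← key']
  group

include hS hF hC hV hR in
/-- A strongly closed subgroup meeting a perfect normal subsystem centrally centralizes it. -/
theorem centralizes_perfect (hhyp : C.hyperfocalSubgroup p = T) : Centralizes F C V :=
  centralizes_of_closed hS hF hC hV (fun v hv => mem_centralizerIn.2
    ⟨hV.1 hv, fun t ht => (commute_of_perfect hS hF hC hV hR hhyp ht hv).symm⟩) hR

include hS hF hC in
/-- A normal subsystem meeting a perfect normal subsystem centrally centralizes its group. -/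
theorem perfect_centralizes (hhyp : C.hyperfocalSubgroup p = T) {E : FusionSystem V}
    (hE : E.IsNormalIn F p) (hR : T ⊓ V ≤ C.center) : Centralizes F E T := by
  have hTc : F.StronglyClosed T := hC.1.2.2.2.1
  have hV : F.StronglyClosed V := hE.1.2.2.2.1
  have hTS := hTc.1
  have := finite_of_le hTS
  have hT : IsPGroup p T := hS.to_le hTS
  have hTV : T ≤ centralizerIn S V := fun t ht => mem_centralizerIn.2
    ⟨hTS ht, fun v hv => commute_of_perfect hS hF hC hV hR hhyp ht hv⟩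
  have hcR : F.StronglyClosed (T ⊓ V) := FusionInner.stronglyClosed_inf hTc hV
  have hRC : C.StronglyClosed (T ⊓ V) := stronglyClosed_iff.2 ⟨inf_le_left, fun P f hf x hx hxR =>
    (stronglyClosed_iff.1 hcR).2 P f (FusionNormal.isMap_of_sub hC.1.2.2.1 hf) x hx hxR⟩
  refine (cent_centralizes hE hS hF).mono fun x hx => ⟨hTV hx, fun a ha Q n f hf => ?_⟩
  have hy := (stronglyClosed_iff.1 hTc).2 _ a ha.1 x (cen_le_dom S V (hTV hx)) hx
  revert hy
  generalize a x = y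
  intro hy
  obtain ⟨-, hQc, hn, -, L, hper⟩ := hf
  have hTD : T ≤ Dom S Q := fun t ht => cen_le_dom_of_le hQc.1 (hTV ht)
  set r : Ω → Ω := fun t => t⁻¹ * f t with hrdef
  have hmem : ∀ t ∈ T, r t ∈ T ⊓ V := fun t ht => Subgroup.mem_inf.2
    ⟨mul_mem (inv_mem ht) ((stronglyClosed_iff.1 hTc).2 _ f L.map t (hTD ht) ht),
      hQc.1 (L.modP t (hTD ht))⟩
  have hcen : ∀ t ∈ T, ∀ z ∈ T, z * r t = r t * z := fun t ht z hz => center_comm (hR (hmem t ht)) hz
  have hmul : ∀ t ∈ T, ∀ z ∈ T, r (t * z) = r t * r z := fun t ht z hz => by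
    have e : r (t * z) = z⁻¹ * r t * z * r z := by
      simp only [hrdef]
      rw [L.map.map_mul (hTD ht) (hTD hz)]
      group
    rw [e, mul_assoc (z⁻¹), ← hcen t ht z hz, inv_mul_cancel_left]
  set R₀ := (T ⊓ V) ⊓ ⁅T, T⁆ with hR₀
  have hTd : ⁅T, T⁆ ≤ T := Subgroup.commutator_le_self T
  have hfc : ∀ c ∈ ⁅T, T⁆, f c = c := by
    let K : Subgroup Ω :=
      { carrier := {c | c ∈ Dom S Q ∧ f c = c}
        one_mem' := ⟨one_mem _, L.map.map_one⟩
        mul_mem' := fun {a b} ha hb => ⟨mul_mem ha.1 hb.1, by rw [L.map.map_mul ha.1 hb.1, ha.2, hb.2]⟩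
        inv_mem' := fun {a} ha => ⟨inv_mem ha.1, by rw [L.map.map_inv ha.1, ha.2]⟩ }
    suffices h : ⁅T, T⁆ ≤ K from fun c hc => (h hc).2
    refine Subgroup.commutator_le.2 fun a ha b hb => ?_
    have hab : ⁅a, b⁆ ∈ T := hTd (Subgroup.commutator_mem_commutator ha hb)
    refine ⟨hTD hab, ?_⟩
    have h1 : r ⁅a, b⁆ = 1 := by
      have hr1 : r 1 = 1 := by simp [hrdef, L.map.map_one]
      have hi : ∀ t ∈ T, r t⁻¹ = (r t)⁻¹ := fun t ht => eq_inv_of_mul_eq_one_left (by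
        rw [← hmul _ (inv_mem ht) _ ht, inv_mul_cancel, hr1])
      rw [commutatorElement_def, hmul _ (mul_mem (mul_mem ha hb) (inv_mem ha)) _ (inv_mem hb),
        hmul _ (mul_mem ha hb) _ (inv_mem ha), hmul _ ha _ hb, hi a ha, hi b hb,
        hcen b hb _ (Subgroup.mem_inf.1 (hmem a ha)).1, mul_inv_cancel_right, mul_inv_cancel]
    simp only [hrdef] at h1
    exact (inv_mul_eq_one.1 h1).symm
  have hall := (hom_const (R₀ := R₀) (r := r) hT hC.1.1 hmul
    (fun t ht z hz => hcen z hz _ (Subgroup.mem_inf.1 (hmem t ht)).1)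
    fun P _ hc hrad α hα _ x hx => ?_).2 y (hhyp.symm ▸ hy)
  · have hfix : f (r y) = r y := hfc _ (Subgroup.mem_inf.1 hall).2
    have hyD := hTD hy
    have hk := hper y hyD
    rw [iterate_twist L.map hyD (hTD (Subgroup.mem_inf.1 (hmem y hy)).1)
      (mul_inv_cancel_left y (f y)).symm hfix, mul_eq_left] at hk
    obtain ⟨k, hk'⟩ := hS ⟨r y, hTS (Subgroup.mem_inf.1 (hmem y hy)).1⟩
    have h1 := FusionNormal.pow_gcd_mem (H := (⊥ : Subgroup Ω)) (Subgroup.mem_bot.2 hk)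
      (congrArg Subtype.val hk' : r y ^ p ^ k = 1)
    rw [Nat.Coprime.gcd_eq_one (hn.pow_right k), pow_one, Subgroup.mem_bot] at h1
    exact (inv_mul_eq_one.1 h1).symm
  -- the automizer of a centric radical subgroup
  have hPT := hc.1
  have hPS := hPT.trans hTS
  have hRP : T ⊓ V ≤ P := fun z hz => hc.2 P (isConj_refl C hPT)
    (mem_centralizerIn.2 ⟨(Subgroup.mem_inf.1 hz).1, fun w hw => (center_comm (hR hz) (hPT hw)).symm⟩)
  have hfP : ∀ z ∈ P, f z ∈ P := fun z hz => by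
    rw [show f z = z * r z by simp [hrdef]]
    exact mul_mem hz (hRP (hmem z (hPT hz)))
  have hPD : P ≤ Dom S Q := hPT.trans hTD
  obtain ⟨η, hη, hηe⟩ := exists_aut_of_isIso (show IsIso F P P f from
    ⟨L.map.mono hPD, eq_of_le_of_card hPS (L.map.img_le hPD hfP) (L.map.card_img hPD).ge⟩)
  have hκC : η⁻¹ * α * η * α⁻¹ ∈ C.autGroup P := by
    have h1 := FusionNormal.conj_mem_autGroup hC.1.2.2 hPT (inv_mem hη) hα
    rw [inv_inv] at h1
    exact mul_mem h1 (inv_mem hα)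
  have hfixR : ∀ {b : MulAut P}, b ∈ C.autGroup P → ∀ z : P, (z : Ω) ∈ T ⊓ V → b z = z :=
    fun {b} hb z hz => Subtype.ext (by
      rw [← autFn_apply b z.2]
      obtain ⟨g, -, hge, hgR⟩ := fix_of_center hR ((mem_autGroup_iff hPT).1 hb)
      rw [← hge z z.2, hgR z hz])
  have hκmod : ∀ z : P, (z : Ω)⁻¹ * ((η⁻¹ * α * η * α⁻¹) z : P) ∈ T ⊓ V := fun z => by
    obtain ⟨w, rfl⟩ : ∃ w : P, α w = z := α.surjective z
    rw [MulAut.mul_apply, MulAut.mul_apply, MulAut.mul_apply, MulAut.inv_apply_self]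
    obtain ⟨q, hq⟩ : ∃ q : P, η q = α (η w) := η.surjective _
    rw [← hq, MulAut.inv_apply_self]
    have h1 : ((η q : P) : Ω) = q * r q := by rw [hηe, hrdef]; group
    have h2 : ((η w : P) : Ω) = w * r w := by rw [hηe, hrdef]; group
    have h3 : ((α (η w) : P) : Ω) = (α w : P) * r w := by
      have h4 : autFn α (w * r w) = autFn α w * r w := by
        rw [((mem_autGroup_iff hPT).1 hα).map_mul w.2 (hRP (hmem w (hPT w.2))),
          autFn_apply α (hRP (hmem w (hPT w.2))), hfixR hα _ (hmem w (hPT w.2))]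
      rw [← autFn_apply α (η w).2, h2, h4, autFn_apply α w.2]
    rw [← hq, h1] at h3
    rw [show ((α w : P) : Ω)⁻¹ * q = ((α w : P) : Ω)⁻¹ * ((q : Ω) * r q) * (r q)⁻¹ by group, h3]
    exact mul_mem (by rw [inv_mul_cancel_left]; exact hmem w (hPT w.2))
      (inv_mem (hmem q (hPT q.2)))
  obtain ⟨m, hm⟩ := FusionNormalCent.inner_of_radical hT hRC hPT hrad hκC
    (fun z hz => hfixR hκC z hz) hκmod
  have hαm := (mem_autGroup_iff hPT).1 hα
  have hk1 : ((m : Ω) * autFn α x * (m : Ω)⁻¹) = ((η⁻¹ (α (η ⟨x, hx⟩)) : P) : Ω) := by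
    have h := congrArg (fun e : MulAut P => ((e (α ⟨x, hx⟩) : P) : Ω)) hm
    simp only [MulAut.mul_apply, MulAut.inv_apply_self] at h
    rw [autFn_apply α hx]
    exact h
  set w := (m : Ω) * autFn α x * (m : Ω)⁻¹ with hw
  have hw' : f w = autFn α (x * r x) := by
    rw [hk1, ← hηe, MulAut.apply_inv_self, show x * r x = f x by simp [hrdef],
      autFn_apply α (hfP x hx)]
    exact congrArg (fun u : P => ((α u : P) : Ω)) (Subtype.ext (hηe ⟨x, hx⟩))
  have hmT := hPT m.2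
  have hαT := hPT (autFn_mem α hx)
  set s := (autFn α x)⁻¹ * w with hs
  have hsc : s ∈ ⁅T, T⁆ := by
    rw [hs, hw, show (autFn α x)⁻¹ * ((m : Ω) * autFn α x * (m : Ω)⁻¹) =
      ⁅(autFn α x)⁻¹, (m : Ω)⁆ by rw [commutatorElement_def]; group]
    exact Subgroup.commutator_mem_commutator (inv_mem hαT) hmT
  have hfw : f w = f (autFn α x) * s := by
    conv_lhs => rw [show w = autFn α x * s by rw [hs]; group]
    rw [L.map.map_mul (hTD hαT) (hTD (hTd hsc)), hfc s hsc]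
  have hx' := hmem x (hPT hx)
  have hαr : autFn α (x * r x) = autFn α x * r x := by
    rw [hαm.map_mul hx (hRP hx'), autFn_apply α (hRP hx'), hfixR hα _ hx']
  have hfα : f (autFn α x) = autFn α x * r (autFn α x) := by simp [hrdef]
  rw [hfw, hαr, hfα] at hw'
  have hd : (r x)⁻¹ * r (autFn α x) = s⁻¹ := by
    rw [show r x = r (autFn α x) * s from mul_left_cancel (a := autFn α x) ((mul_assoc _ _ _).symm.trans hw').symm]
    group
  exact Subgroup.mem_inf.2 ⟨mul_mem (inv_mem hx') (hmem _ hαT), hd ▸ inv_mem hsc⟩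

end Cfsg.Agent.FusionLayer
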