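import Cfsg.Agent.Lib.FusionLayer.Layer
import Cfsg.Agent.Lib.FusionLayer.Commute
import Cfsg.Agent.Lib.FusionNormalCent.Normal
import Cfsg.Agent.S5145
import Cfsg.Agent.S5146
import Cfsg.Agent.S5148

/-
Components centralize what they meet centrally.
Main results (namespace `Cfsg.Agent.FusionLayer`): `system_rec`, `exists_proper`, `component_centralizes`,
`component_pair`, `component_inf_le_center`, `layer_centralizes_core`.
-/

set_option autoImplicit false

namespace Cfsg.Agent.FusionLayer

open Cfsg Cfsg.Agent.Fusion Cfsg.Agent.FusionNormalCent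
open Cfsg.FusionSystem hiding inv_mem

variable {Ω : Type*} [Group Ω]

/-- Induction along normal subsystems with fewer maps. -/
theorem system_rec {p : ℕ} (P : ∀ (S : Subgroup Ω), FusionSystem S → Prop)
    (h : ∀ (S : Subgroup Ω) (F : FusionSystem S), Finite S →
      (∀ (U : Subgroup Ω) (D : FusionSystem U), D.IsNormalIn F p → ¬ F.IsSubsystemOf D → P U D) → P S F) :
    ∀ (S : Subgroup Ω) (F : FusionSystem S), Finite S → P S F := by
  suffices key : ∀ (n : ℕ) (S : Subgroup Ω) (F : FusionSystem S), (graphs F).ncard = n → Finite S → P S F from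
    fun S F => key _ S F rfl
  intro n
  induction n using Nat.strong_induction_on with
  | _ n ih =>
    intro S F hn hfin
    refine h S F hfin fun U D hD hne => ih _ (hn ▸ ?_) U D rfl (finite_of_le hD.1.2.2.2.1.1)
    refine Set.ncard_lt_ncard ⟨?_, fun hle => hne fun Q φ hφ => hom_of_graph (hle ⟨Q, φ, hφ, rfl⟩)⟩
      (graphs_finite F)
    rintro _ ⟨Q, φ, hφ, rfl⟩
    exact ⟨Q, φ, hD.1.2.2.1 Q hφ, rfl⟩

theorem sub_of_subnormal {T S : Subgroup Ω} {C : FusionSystem T} {F : FusionSystem S} {p : ℕ}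
    (hsub : C.IsSubnormalIn F p) : C.IsSubsystemOf F := by
  induction hsub with
  | refl => exact fun _ => subset_rfl
  | step _ hD ih => exact fun P φ hφ => hD.1.2.2.1 P (ih P hφ)

/-- A subnormal subsystem is everything or lies in a proper normal subsystem. -/
theorem exists_proper {T S : Subgroup Ω} {C : FusionSystem T} {F : FusionSystem S} {p : ℕ}
    (hsub : C.IsSubnormalIn F p) : F.IsSubsystemOf C ∨
      ∃ (U : Subgroup Ω) (D : FusionSystem U), D.IsNormalIn F p ∧ C.IsSubnormalIn D p ∧
        ¬ F.IsSubsystemOf D := by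
  induction hsub with
  | refl => exact Or.inl fun _ => subset_rfl
  | @step U S C D F p hCD hD ih =>
    by_cases hFD : F.IsSubsystemOf D
    swap
    · exact Or.inr ⟨U, D, hD, hCD, hFD⟩
    rcases ih with h | ⟨V, D', hD', hCD', hne⟩
    · exact Or.inl fun P φ hφ => h P (hFD P hφ)
    · obtain rfl : U = S := le_antisymm hD.1.2.2.2.1.1 (le_base_of_sub hFD)
      obtain rfl : D = F := ext_of_hom fun P => (hD.1.2.2.1 P).antisymm (hFD P)
      exact Or.inr ⟨V, D', hD', hCD', hne⟩

theorem centralizes_of_le {S T T' : Subgroup Ω} {F : FusionSystem S} {E : FusionSystem T}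
    {C : FusionSystem T'} {X : Subgroup Ω} (h : Centralizes F E X) (hCE : C.IsSubsystemOf E) :
    Centralizes F C X :=
  ⟨h.1.trans (cen_mono (le_base_of_sub hCE)), fun P f hf => h.2 P f (FusionNormal.isMap_of_sub hCE hf)⟩

theorem centralizes_lift {S U T : Subgroup Ω} {F : FusionSystem S} {D : FusionSystem U}
    {E : FusionSystem T} {X : Subgroup Ω} (hD : D.IsSubsystemOf F) (h : Centralizes D E X) :
    Centralizes F E X :=
  ⟨fun x hx => mem_centralizerIn.2 ⟨le_base_of_sub hD (mem_centralizerIn.1 (h.1 hx)).1,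
      (mem_centralizerIn.1 (h.1 hx)).2⟩,
    fun P f hf => let ⟨g, hg, h1, h2⟩ := h.2 P f hf
      ⟨g, FusionNormal.isMap_of_sub hD hg, h1, h2⟩⟩

variable {p : ℕ} [Fact p.Prime]

/-- Subsystems whose group meets `V` centrally. -/
def CentralMeet (V : Subgroup Ω) : ∀ T : Subgroup Ω, FusionSystem T → Prop :=
  fun T C => T ⊓ V ≤ C.center

omit [Fact p.Prime] in
theorem invPred_centralMeet {S V : Subgroup Ω} [Finite S] {F : FusionSystem S} (hV : F.StronglyClosed V) :
    InvPred (CentralMeet V) F := by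
  intro T C T' C' g hg hΦ y hy
  obtain ⟨hyT, hyV⟩ := Subgroup.mem_inf.1 hy
  have := finite_of_le hg.le
  have hT' : img g.toFun T = T' := (g.im_top : _)
  obtain ⟨gi, hgi, hl, -⟩ := IsIso.symm (f := g.toFun) (show IsIso F T T' g.toFun from ⟨hg, hT'⟩)
  have hxV := (stronglyClosed_iff.1 hV).2 _ gi hgi.1 y hyT hyV
  have hr := g.right y hyT
  have e : gi y = g.invFun y := by rw [← hl _ (g.mem' y hyT), hr]
  have hc := g.mem_im_of_mem (hΦ (Subgroup.mem_inf.2 ⟨g.mem' y hyT, e ▸ hxV⟩))
  rwa [g.im_center, hr] at hc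

theorem component_centralizes_aux : ∀ (S : Subgroup Ω) (F : FusionSystem S), Finite S →
    IsPGroup p S → ∀ (T : Subgroup Ω) (C : FusionSystem T), C.IsComponentIn F p →
      ∀ (V : Subgroup Ω) (E : FusionSystem V), E.IsNormalIn F p → T ⊓ V ≤ C.center →
        Centralizes F C V ∧ Centralizes F E T := by
  refine system_rec (p := p) (fun S F => IsPGroup p S → ∀ (T : Subgroup Ω) (C : FusionSystem T),
    C.IsComponentIn F p → ∀ (V : Subgroup Ω) (E : FusionSystem V), E.IsNormalIn F p → T ⊓ V ≤ C.center →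
      Centralizes F C V ∧ Centralizes F E T) fun S F hfin ih hS T C hC V E hE hVZ => ?_
  have hVS : V ≤ S := hE.1.2.2.2.1.1
  rcases exists_proper hC.1 with h | ⟨U, D, hD, hCD, hne⟩
  · obtain rfl : T = S := le_antisymm (component_le_S hC) (le_base_of_sub h)
    obtain rfl : C = F := ext_of_hom fun P => (sub_of_subnormal hC.1 P).antisymm (h P)
    have hVZ' : V ≤ C.center := (le_inf hVS le_rfl).trans hVZ
    refine ⟨⟨fun v hv => mem_centralizerIn.2 ⟨hVS hv, fun y hy =>
        (center_comm (hVZ' hv) hy).symm⟩, fun P f hf => fix_of_center hVZ' hf⟩,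
      fun t ht => mem_centralizerIn.2 ⟨ht, fun v hv => center_comm (hVZ' hv) ht⟩,
      fun P f hf => ⟨fun x => x, IsMap.id (sup_le (hf.le.trans hVS) le_rfl), fun x hx =>
        (fn_fix_center (FusionNormal.isMap_of_sub hE.1.2.2.1 hf) hx (hVZ' (hf.le hx))).symm,
        fun _ _ => rfl⟩⟩
  have hF := hD.1.2.1
  have hUS : U ≤ S := hD.1.2.2.2.1.1
  have := finite_of_le hUS
  have hUp := hS.to_le hUS
  obtain ⟨W, -, hWD, -⟩ := (Meet.mk hS hF hD hE).exists_normal
  have hDs := hD.1.1
  obtain ⟨R, L, hL⟩ := exists_subLayer hUp hDs (CentralMeet V)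
  have hinv := invPred_centralMeet (F := F) hE.1.2.2.2.1
  have hLF := subLayer_normal hS hinv hD hL
  have hCL : C.IsSubsystemOf L := hL.contains T C ⟨hCD, hC.2⟩ hVZ
  have hTR := le_base_of_sub hCL
  have hRU : R ≤ U := hL.normal.1.2.2.2.1.1
  have hRcen : R ≤ centralizerIn U (U ⊓ V) := by
    obtain ⟨D', hD', -⟩ := exists_normal_over_cent hUp hDs hWD
    refine le_trans (le_base_of_sub (hL.least _ _ hD' fun T₂ C₂ hC₂ hΦ => ?_)) (cent_le hWD)
    refine component_sub_of_le hUp hC₂ hD' (centralizes_le_cent hWD hUp hDs ?_)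
    exact (ih U D hD hne hUp T₂ C₂ hC₂ _ W hWD ((inf_le_inf_left _ inf_le_right).trans hΦ)).2
  have hR : R ⊓ V ≤ L.center := by
    have hle : R ⊓ V ≤ R ⊓ (U ⊓ V) := le_inf inf_le_left (le_inf (inf_le_left.trans hRU) inf_le_right)
    refine hle.trans (subLayer_fix hUp hL inf_le_left (fun t ht z hz => ?_)
      (FusionInner.stronglyClosed_inf hL.normal.1.2.2.2.1 hWD.1.2.2.2.1))
    exact (mem_centralizerIn.1 (hRcen ht)).2 z (Subgroup.mem_inf.1 hz).2
  have hhyp := subLayer_perfect hUp (hinv.of_sub hD.1.2.2.1) hL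
  exact ⟨centralizes_of_le (centralizes_perfect hS hF hLF hE.1.2.2.2.1 hR hhyp) hCL,
    (perfect_centralizes hS hF hLF hhyp hE hR).mono hTR⟩

variable {S T V T' : Subgroup Ω} {F : FusionSystem S} {C : FusionSystem T} {E : FusionSystem V}
  {C' : FusionSystem T'} [Finite S]

/-- A component and a normal subsystem meeting it centrally centralize each other. -/
theorem component_centralizes (hS : IsPGroup p S) (hC : C.IsComponentIn F p) (hE : E.IsNormalIn F p)
    (h : T ⊓ V ≤ C.center) : Centralizes F C V ∧ Centralizes F E T :=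
  component_centralizes_aux S F inferInstance hS T C hC V E hE h

/-- A component with abelian group does not exist. -/
theorem component_not_comm (hS : IsPGroup p S) (hC : C.IsComponentIn F p)
    (h : T ≤ centralizerIn S T) : False :=
  have := finite_of_le (component_le_S hC)
  S5148.result p (hS.to_le (component_le_S hC)) C hC.2
    ⟨⟨fun a b => Subtype.ext (show (a : Ω) * b = b * a from ((mem_centralizerIn.1 (h b.2)).2 a a.2).symm)⟩⟩

omit [Finite S] in
theorem component_pair_aux : ∀ (S : Subgroup Ω) (F : FusionSystem S), Finite S → IsPGroup p S →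
    ∀ (T : Subgroup Ω) (C : FusionSystem T) (T' : Subgroup Ω) (C' : FusionSystem T'),
      C.IsComponentIn F p → C'.IsComponentIn F p →
        (C.IsSubsystemOf C' ∧ C'.IsSubsystemOf C) ∨ (Centralizes F C T' ∧ Centralizes F C' T) := by
  refine system_rec (p := p) (fun S F => IsPGroup p S →
    ∀ (T : Subgroup Ω) (C : FusionSystem T) (T' : Subgroup Ω) (C' : FusionSystem T'),
      C.IsComponentIn F p → C'.IsComponentIn F p →
        (C.IsSubsystemOf C' ∧ C'.IsSubsystemOf C) ∨ (Centralizes F C T' ∧ Centralizes F C' T))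
    fun S F hfin ih hS T C T' C' hC hC' => ?_
  rcases exists_proper hC.1 with h | ⟨U, D, hD, hCD, hne⟩
  · obtain rfl : T = S := le_antisymm (component_le_S hC) (le_base_of_sub h)
    obtain rfl : C = F := ext_of_hom fun P => (sub_of_subnormal hC.1 P).antisymm (h P)
    rcases exists_proper hC'.1 with h' | ⟨U, D, hD, hCD, hne⟩
    · exact Or.inl ⟨h', sub_of_subnormal hC'.1⟩
    · exfalso
      rcases qs_normal hS hC.2 hD.1 with h2 | ⟨-, h2⟩
      · exact component_not_comm hS hC' fun x hx => mem_centralizerIn.2 ⟨component_le_S hC' hx,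
          fun y hy => center_comm (h2 (FusionIso.le_of_subnormal hCD hy)) (component_le_S hC' hx)⟩
      · exact hne h2
  have hTU := FusionIso.le_of_subnormal hCD
  have hUS : U ≤ S := hD.1.2.2.2.1.1
  rcases dichotomy hS hC' hD with h' | h'
  · rcases ih U D hD hne (hS.to_le hUS) T C T' C' ⟨hCD, hC.2⟩
      (component_of_normal hS hC' hD (le_base_of_sub h')) with e | ⟨e1, e2⟩
    · exact Or.inl e
    · exact Or.inr ⟨centralizes_lift hD.1.2.2.1 e1, centralizes_lift hD.1.2.2.1 e2⟩
  · obtain ⟨h1, h2⟩ := component_centralizes hS hC' hD h'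
    exact Or.inr ⟨centralizes_of_le h2 (sub_of_subnormal hCD), h1.mono hTU⟩

/-- Two components are equal or centralize each other. -/
theorem component_pair (hS : IsPGroup p S) (hC : C.IsComponentIn F p) (hC' : C'.IsComponentIn F p) :
    (C.IsSubsystemOf C' ∧ C'.IsSubsystemOf C) ∨ (Centralizes F C T' ∧ Centralizes F C' T) :=
  component_pair_aux S F inferInstance hS T C T' C' hC hC'

/-- What a component is centralized by meets it in its centre. -/
theorem component_inf_le_center (hS : IsPGroup p S) (hC : C.IsComponentIn F p) {X : Subgroup Ω}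
    (h : Centralizes F C X) : T ⊓ X ≤ C.center := by
  have hTS := component_le_S hC
  have := finite_of_le hTS
  have hT := hS.to_le hTS
  have hsub := sub_of_subnormal hC.1
  have hcl : C.StronglyClosed (T ⊓ X) := stronglyClosed_iff.2 ⟨inf_le_left, fun P f hf x hx hxR => by
    obtain ⟨g, -, hge, hgX⟩ := h.2 P f hf
    rw [← hge x hx, hgX x (Subgroup.mem_inf.1 hxR).2]
    exact hxR⟩
  obtain ⟨E', hE', hZ, hsub', -⟩ := exists_fixed_subsystem hT (isNormalIn_self hC.2.1) inf_le_left
    (fun t ht z hz => ((mem_centralizerIn.1 (h.1 (Subgroup.mem_inf.1 hz).2)).2 t ht).symm) hcl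
  rcases qs_normal hT hC.2 hE'.1 with h1 | ⟨-, h1⟩
  · exact absurd h1 (not_le_center hC.2)
  · obtain rfl : C = E' := ext_of_hom fun P => (h1 P).antisymm (hsub' P)
    exact hZ

/-- The layer centralizes the largest normal subgroup. -/
theorem layer_centralizes_core (hS : IsPGroup p S) (hF : F.IsSaturated p) {R : Subgroup Ω}
    {L : FusionSystem R} (hL : L.IsLayerOf F p) : Centralizes F L F.core := by
  have hQ : F.IsNormal F.core := S5145.result F
  have hI := FusionProduct.isNormalIn_inner hS hF hQ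
  have := finite_of_le hQ.1
  have hcon : (innerFusionSystem F.core).IsConstrained p := by
    refine ⟨hI.1.1, F.core, ⟨le_rfl, fun P φ hφ => ?_⟩, le_rfl, fun X hX => ?_⟩
    · obtain ⟨hP, g, hg, e⟩ := hφ
      refine ⟨conjHom (P ⊔ F.core) g, (innerFusionSystem F.core).conj_mem (sup_le hP le_rfl) hg,
        fun x => (e x).symm, le_antisymm ?_ fun y hy => ?_⟩
      · rintro _ ⟨x, hx, rfl⟩
        exact mul_mem (mul_mem hg hx) (inv_mem hg)
      · refine ⟨⟨g⁻¹ * y * g, Subgroup.mem_sup_right (mul_mem (mul_mem (inv_mem hg) hy) hg)⟩,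
          mul_mem (mul_mem (inv_mem hg) hy) hg, ?_⟩
        show g * (g⁻¹ * y * g) * g⁻¹ = y
        group
    · obtain ⟨f, hf⟩ := isConj_iff.1 hX
      have : X = F.core := eq_of_le_of_card le_rfl hf.le_right hf.card_eq.ge
      exact fun y hy => this.symm ▸ (mem_centralizerIn.1 hy).1
  have hno : ∀ (T : Subgroup Ω) (C : FusionSystem T), C.IsComponentIn F p → T ⊓ F.core ≤ C.center :=
    fun T C hC => (dichotomy hS hC hI).resolve_left fun h =>
      (S5146.result p (hS.to_le hQ.1) _ hI.1.1).1 hcon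
        ⟨T, C, component_of_normal hS hC hI (le_base_of_sub h)⟩
  obtain ⟨D', hD', -⟩ := exists_normal_over_cent hS hF hI
  have hRc : R ≤ centralizerIn S F.core := (le_base_of_sub (hL.2.2 _ _ hD' fun T C hC =>
    component_sub_of_le hS hC hD' (centralizes_le_cent hI hS hF
      (component_centralizes hS hC hI (hno T C hC)).2))).trans (cent_le hI)
  have hcl := Fusion.stronglyClosed_of_normal hQ
  have hR : R ⊓ F.core ≤ L.center := layer_fix hS hL inf_le_left
    (fun t ht z hz => (mem_centralizerIn.1 (hRc ht)).2 z (Subgroup.mem_inf.1 hz).2)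
    (FusionInner.stronglyClosed_inf hL.1.1.2.2.2.1 hcl)
  exact centralizes_perfect hS hF hL.1 hcl hR (layer_perfect hS hL)

end Cfsg.Agent.FusionLayer
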