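import Cfsg.Agent.Lib.FusionLayer.GFit

/-
Components are normal in the layer and in the generalized Fitting subsystem.
Main results (namespace `Cfsg.Agent.FusionLayer`): `layer_sub_layer`, `component_normal_layer`,
`component_normal_fitting`.
-/

set_option autoImplicit false

namespace Cfsg.Agent.FusionLayer

open Cfsg Cfsg.Agent.Fusion Cfsg.Agent.FusionNormalCent
open Cfsg.FusionSystem hiding inv_mem

variable {Ω : Type*} [Group Ω] {p : ℕ} [Fact p.Prime]

/-- Normality depends only on the maps. -/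
theorem isNormalIn_congr {T U U' : Subgroup Ω} {C : FusionSystem T} {D : FusionSystem U}
    {D' : FusionSystem U'} (h : D.IsSubsystemOf D') (h' : D'.IsSubsystemOf D) (hC : C.IsNormalIn D p) :
    C.IsNormalIn D' p := by
  obtain rfl : U = U' := le_antisymm (le_base_of_sub h) (le_base_of_sub h')
  obtain rfl : D = D' := ext_of_hom fun P => (h P).antisymm (h' P)
  exact hC

variable {S R U V : Subgroup Ω} {F : FusionSystem S} {L : FusionSystem R} {D : FusionSystem U}
  {K : FusionSystem V} [Finite S]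

/-- The layer of a normal subsystem is normal in the layer. -/
theorem layer_sub_layer (hS : IsPGroup p S) (hD : D.IsNormalIn F p) (hK : K.IsLayerOf D p)
    (hL : L.IsLayerOf F p) : K.IsNormalIn L p := by
  have hUS : U ≤ S := hD.1.2.2.2.1.1
  have hRS : R ≤ S := hL.1.1.2.2.2.1.1
  have := finite_of_le hUS
  have := finite_of_le hRS
  have hUp := hS.to_le hUS
  have hF := hD.1.2.1
  obtain ⟨M, hMF, hMD, hML⟩ := (Meet.mk hS hF hD hL.1).exists_normal
  have hle : U ⊓ R ≤ S := inf_le_left.trans hUS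
  have := finite_of_le hle
  obtain ⟨V', K', hK'⟩ := exists_layer (hS.to_le hle) hMF.1.1
  have hK'D := layer_normal hUp hMD hK'
  have hKK' : K.IsSubsystemOf K' := hK.2.2 _ _ hK'D fun T C hC =>
    hK'.2.1 T C (component_of_normal hUp hC hMD
      (le_inf (component_le_S hC) (le_base_of_sub (hL.2.1 T C (component_trans hC hD)))))
  have hK'K : K'.IsSubsystemOf K := by
    obtain ⟨W, -, hWM, hWK⟩ := (Meet.mk hUp hD.1.1 hMD hK.1).exists_normal
    intro P φ hφ
    refine hWK.1.2.2.1 P (hK'.2.2 _ _ hWM (fun T C hC => component_sub_of_le (hS.to_le hle) hC hWM ?_) P hφ)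
    exact le_inf (component_le_S hC) (le_base_of_sub (hK.2.1 T C (component_trans hC hMD)))
  obtain rfl : V = V' := le_antisymm (le_base_of_sub hKK') (le_base_of_sub hK'K)
  obtain rfl : K = K' := ext_of_hom fun P => (hKK' P).antisymm (hK'K P)
  exact layer_normal (hS.to_le hRS) hML hK'

omit [Finite S] in
theorem component_normal_layer_aux : ∀ (S : Subgroup Ω) (F : FusionSystem S), Finite S →
    IsPGroup p S → F.IsSaturated p → ∀ (T : Subgroup Ω) (C : FusionSystem T), C.IsComponentIn F p →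
      ∀ (R : Subgroup Ω) (L : FusionSystem R), L.IsLayerOf F p → C.IsNormalIn L p := by
  refine system_rec (p := p) (fun S F => IsPGroup p S → F.IsSaturated p →
    ∀ (T : Subgroup Ω) (C : FusionSystem T), C.IsComponentIn F p →
      ∀ (R : Subgroup Ω) (L : FusionSystem R), L.IsLayerOf F p → C.IsNormalIn L p)
    fun S F hfin ih hS hF T C hC R L hL => ?_
  have hRS : R ≤ S := hL.1.1.2.2.2.1.1
  have := finite_of_le hRS
  have hRp := hS.to_le hRS
  rcases exists_proper hC.1 with h | ⟨U, D, hD, hCD, hne⟩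
  · obtain rfl : T = S := le_antisymm (component_le_S hC) (le_base_of_sub h)
    obtain rfl : C = F := ext_of_hom fun P => (sub_of_subnormal hC.1 P).antisymm (h P)
    exact isNormalIn_congr (hL.2.1 _ _ hC) hL.1.1.2.2.1 (isNormalIn_self hF)
  have hUS : U ≤ S := hD.1.2.2.2.1.1
  have := finite_of_le hUS
  have hUp := hS.to_le hUS
  obtain ⟨V, K, hK⟩ := exists_layer hUp hD.1.1
  have hCK := ih U D hD hne hUp hD.1.1 T C ⟨hCD, hC.2⟩ V K hK
  have hKL := layer_sub_layer hS hD hK hL
  have hVR : V ≤ R := hKL.1.2.2.2.1.1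
  have := finite_of_le hVR
  have hLs := hL.1.1.1
  obtain ⟨X, hX, -⟩ := exists_normal_over_cent hRp hLs hKL
  set Y := cent L K p hKL.1.2.2 with hY
  have hYc : Y ≤ centralizerIn R V := cent_le hKL
  have hYR : Y ≤ R := hYc.trans inf_le_left
  have hVY : ∀ x ∈ V, ∀ y ∈ Y, x * y = y * x := fun x hx y hy => ((mem_centralizerIn.1 (hYc hy)).2 x hx).symm
  have hcl : L.StronglyClosed (V ⊓ Y) :=
    FusionInner.stronglyClosed_inf hKL.1.2.2.2.1 hX.1.2.2.2.1
  obtain ⟨X', hX', hZX', -, -⟩ := exists_fixed_subsystem hRp hX inf_le_right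
    (fun t ht z hz => (hVY z (Subgroup.mem_inf.1 hz).1 t ht).symm) hcl
  have hKK : K.IsLayerOf K p := layer_layer hUp hK
  have hclK : K.StronglyClosed (V ⊓ Y) := stronglyClosed_iff.2 ⟨inf_le_left, fun P f hf x hx hxR =>
    (stronglyClosed_iff.1 hcl).2 P f (FusionNormal.isMap_of_sub hKL.1.2.2.1 hf) x hx hxR⟩
  have hZK : V ⊓ Y ≤ K.center := layer_fix (hS.to_le (hVR.trans hRS)) hKK inf_le_left
    (fun t ht z hz => hVY t ht z (Subgroup.mem_inf.1 hz).2) hclK
  have hpair : Pair L p K X' := ⟨hLs, hKL, hX', hVY, hZK, hZX'⟩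
  obtain ⟨P₀, hP₀, -, hprod⟩ := exists_normal_product hRp hpair
  have hle : L.IsSubsystemOf P₀ := (layer_layer hS hL).2.2 _ _ hP₀ fun T₂ C₂ hC₂ => by
    refine component_sub_of_le hRp hC₂ hP₀ ?_
    rcases dichotomy hRp hC₂ hKL with h | h
    · exact (le_base_of_sub h).trans le_sup_left
    · exact (centralizes_le_cent hKL hRp hLs (component_centralizes hRp hC₂ hKL h).2).trans le_sup_right
  have := finite_of_le hYR
  exact isNormalIn_congr hP₀.1.2.2.1 hle
    (isNormalIn_of_factor hprod hP₀.1.1 hVY hZK hCK)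

/-- A component is normal in the layer. -/
theorem component_normal_layer (hS : IsPGroup p S) (hF : F.IsSaturated p) {T : Subgroup Ω}
    {C : FusionSystem T} (hC : C.IsComponentIn F p) (hL : L.IsLayerOf F p) : C.IsNormalIn L p :=
  component_normal_layer_aux S F inferInstance hS hF T C hC R L hL

omit [Fact p.Prime] [Finite S] in
/-- Products do not depend on the order. -/
theorem prod_swap_sub {T₁ T₂ : Subgroup Ω} {E₁ : FusionSystem T₁} {E₂ : FusionSystem T₂}
    {D₁ : FusionSystem (T₁ ⊔ T₂)} {D₂ : FusionSystem (T₂ ⊔ T₁)} (h₁ : IsProd D₁ E₁ E₂)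
    (h₂ : IsProd D₂ E₂ E₁) (hc : ∀ x ∈ T₁, ∀ y ∈ T₂, x * y = y * x) : D₁.IsSubsystemOf D₂ := by
  intro P φ hφ
  obtain ⟨A, B, f₁, f₂, hf₁, hf₂, hA, hB, hcov, he, -, -⟩ := h₁.elim (isMap_toFn hφ)
  refine mem_of_isMap (h₂.intro' hf₂ hf₁ (inf_comm T₁ T₂ ▸ hB) (inf_comm T₁ T₂ ▸ hA)
    (fun z hz => ?_) fun y hy x hx hyx => ?_) fun x => (toFn_coe φ x).symm
  · obtain ⟨x, hx, y, hy, rfl⟩ := hcov z hz
    exact ⟨y, hy, x, hx, hc x (hf₁.le hx) y (hf₂.le hy)⟩
  · rw [← hc x (hf₁.le hx) y (hf₂.le hy)] at hyx ⊢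
    rw [he x hx y hy hyx, hc _ (hf₁.mem hx) _ (hf₂.mem hy)]

/-- A component is normal in every generalized Fitting subsystem. -/
theorem component_normal_fitting (hS : IsPGroup p S) (hF : F.IsSaturated p) {T : Subgroup Ω}
    {C : FusionSystem T} (hC : C.IsComponentIn F p) (hD : D.IsGeneralizedFittingOf F p) :
    C.IsNormalIn D p := by
  obtain ⟨R', L', hL⟩ := exists_layer hS hF
  obtain ⟨-, -, D', hprod, -, h1, h2⟩ := fitting_data hS hF hL hD
  have hp := fitting_pair hS hF hL
  have hswap : Pair F p L' (innerFusionSystem F.core) :=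
    ⟨hF, hp.n2, hp.n1, fun x hx y hy => (hp.comm y hy x hx).symm, inf_comm F.core R' ▸ hp.z2,
      inf_comm F.core R' ▸ hp.z1⟩
  obtain ⟨D'', hD'', -, hprod'⟩ := exists_normal_product hS hswap
  have := finite_of_le hswap.c1.1
  have := finite_of_le hswap.c2.1
  have hCD := isNormalIn_of_factor hprod' hD''.1.1 hswap.comm hswap.z1
    (component_normal_layer hS hF hC hL)
  refine isNormalIn_congr (fun P φ hφ => h2 P (prod_swap_sub hprod' hprod hswap.comm P hφ))
    (fun P φ hφ => prod_swap_sub hprod hprod' hp.comm P (h1 P hφ)) hCD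

end Cfsg.Agent.FusionLayer
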