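import Cfsg.Agent.Lib.FusionLayer.MeetExt
import Cfsg.Agent.Lib.FusionCrit.NormalResidual
import Cfsg.Agent.Lib.FusionProduct.NormalTools

/-
Saturation and normality of the meet of two normal subsystems.
Main results (namespace `Cfsg.Agent.FusionLayer`): `Meet.isSaturated`, `Meet.isWeaklyNormalIn`,
`Meet.exists_normal`.
-/

set_option autoImplicit false

namespace Cfsg.Agent.FusionLayer

open Cfsg Cfsg.Agent.Fusion Cfsg.Agent.FusionNormalCent
open Cfsg.FusionSystem hiding inv_mem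
open Cfsg.Agent.FusionCrit (autFn_mul autFn_inv_self autFn_self_inv FAR Chain ClassHyp IsUniversal)

variable {Ω : Type*} [Group Ω] {S T₁ T₂ T : Subgroup Ω} {F : FusionSystem S} {p : ℕ}
  {E₁ : FusionSystem T₁} {E₂ : FusionSystem T₂}

namespace Meet

variable [Finite S] [Fact p.Prime] (h : Meet F p E₁ E₂)

include h

theorem far_top : FAR (meetSys h 0) p (T₁ ⊓ T₂) := by
  have hfR := h.finite_R
  set R := T₁ ⊓ T₂ with hR
  have hRfc : InFc F R R := h.inFc_self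
  have hRn : RFN F R R := by
    refine ⟨le_rfl, fun Q hQ => ?_⟩
    obtain ⟨f, hf⟩ := isConj_iff.1 hQ
    rw [normalizerIn_self R]
    exact Subgroup.card_le_of_le inf_le_left
  have hsmall : ∀ {P : Subgroup Ω} {f : Ω → Ω}, MGen F p E₁ E₂ (Nat.card R) P f →
      ∃ r ∈ R, ∀ x ∈ P, f x = r * x * r⁻¹ := by
    intro P f hf
    induction hf with
    | aut hc hk _ _ _ => exact absurd (Subgroup.card_le_of_le hc.1) (not_le.2 hk)
    | @conj P r _ hr => exact ⟨r, hr, fun x _ => rfl⟩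
    | @comp P f g h₁ _ ih₁ ih₂ =>
      obtain ⟨r, hr, e⟩ := ih₁
      obtain ⟨r', hr', e'⟩ := ih₂
      refine ⟨r' * r, mul_mem hr' hr, fun x hx => ?_⟩
      show g (f x) = _
      rw [e' _ ((h₁.isMap (amb_F h)).mem_img hx), e x hx]
      group
    | @congr P f g _ e ih =>
      obtain ⟨r, hr, e'⟩ := ih
      exact ⟨r, hr, fun x hx => (e x hx).symm.trans (e' x hx)⟩
  have haut : (meetSys h 0).autGroup R = BP p E₁ E₂ R := by
    refine le_antisymm (fun α hα => ?_) (h.BP_le_aut hRfc)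
    obtain ⟨g, hg, n, hn, he⟩ := h.mgen_split _ ((isMap_meetSys h).1 ((mem_autGroup_iff le_rfl).1 hα)) rfl
    obtain ⟨r, hr, hre⟩ := hsmall hg
    have hrN : r ∈ normalizerIn R R := (normalizerIn_self R).symm ▸ hr
    have e : α = normConj R R ⟨r, hrN⟩ * n := MulEquiv.ext fun x => Subtype.ext (by
      rw [← autFn_apply α x.2, MulAut.mul_apply, normConj_apply, he x x.2,
        hre _ (autFn_mem n x.2), autFn_apply n x.2])
    rw [e]
    exact mul_mem (Subgroup.mem_sup_right ((range_normConj R R).le ⟨_, rfl⟩)) (Subgroup.mem_sup_left hn)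
  refine ⟨isFullyAutomized_iff.2 ⟨le_rfl, haut ▸ h.sylow_BP hRn⟩, isReceptive_iff.2 ⟨le_rfl, fun Q φ hφ => ?_⟩⟩
  have hQR : Q = R := eq_of_le_of_card le_rfl hφ.le_left hφ.card_eq.le
  refine ⟨φ, hφ.1.mono ?_, fun x _ => rfl⟩
  exact ((Nx_le_normalizerIn R Q φ).trans inf_le_left).trans hQR.ge

theorem far_class {P : Subgroup Ω} (hlt : P < T₁ ⊓ T₂) (hP : InFc F (T₁ ⊓ T₂) P)
    (hfar : ∀ W : Subgroup Ω, W ≤ T₁ ⊓ T₂ → Nat.card P < Nat.card W →
      ∃ W', (meetSys h 0).IsConj W W' ∧ FAR (meetSys h 0) p W') :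
    ∃ Q, (meetSys h 0).IsConj P Q ∧ FAR (meetSys h 0) p Q := by
  have hfR := h.finite_R
  set R := T₁ ⊓ T₂
  set k := Nat.card P
  have hne : ∀ Q : Subgroup Ω, F.IsConj P Q → InFc F R Q → ¬ k < Nat.card Q := fun Q hQ _ => by
    obtain ⟨g, hg⟩ := isConj_iff.1 hQ
    rw [hg.card_eq]
    exact lt_irrefl _
  have hcls : ClassHyp (meetSys h k) p P := by
    refine ⟨h.pgroup_R, hlt, fun W hW hk => ?_, fun Q f hQ hf => ?_⟩
    · obtain ⟨W', hc, hW'⟩ := hfar W hW hk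
      obtain ⟨a, ha⟩ := isConj_iff.1 hc
      exact ⟨W', isConj_iff.2 ⟨a, h.isMap_agree ha.1 hk, ha.2⟩, h.far_weaken (ha.card_eq.symm ▸ hk) hW'⟩
    · exact h.chain_of_gen hlt hne ((isMap_meetSys h).1 hf) (h.isConj_F hQ)
  obtain ⟨U, hU⟩ := hcls.exists_universal
  obtain ⟨M, hPM, hMn⟩ := h.exists_member_RFN hP.1
  obtain ⟨uM, huM, huMe⟩ := hU.2 M hPM
  have hUR : U ≤ R := (isConj_le hU.1).2
  have hUc : InFc F R U := by
    obtain ⟨g, hg⟩ := isConj_iff.1 (h.isConj_F hU.1)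
    exact inFc_of_iso hP hg h.cR
  have hUr : RFN F R U := by
    refine ⟨hUR, fun Q hQ => ?_⟩
    have h1 := hMn.2 Q (isConj_trans (isConj_symm (h.isConj_F hPM)) (isConj_trans (h.isConj_F hU.1) hQ))
    refine h1.trans ?_
    rw [← huM.card_img le_rfl]
    have := finite_of_le (S := R) (P := normalizerIn R U) inf_le_left
    exact Subgroup.card_le_of_le (huM.img_le le_rfl fun x hx =>
      map_normalizerIn huM (le_normalizerIn hMn.1) huMe hx hx)
  have haut : (meetSys h 0).autGroup U = BP p E₁ E₂ U :=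
    le_antisymm (h.autGroup_le_BP hlt hU hUr hfar) (h.BP_le_aut hUc)
  have hPU : (meetSys h 0).IsConj P U := by
    obtain ⟨g, hg⟩ := isConj_iff.1 hU.1
    exact isConj_iff.2 ⟨g, h.isMap_weaken hg.1, hg.2⟩
  refine ⟨U, hPU, isFullyAutomized_iff.2 ⟨hUR, haut ▸ h.sylow_BP hUr⟩,
    isReceptive_iff.2 ⟨hUR, fun Q φ hφ => ?_⟩⟩
  have hQR := hφ.le_left
  -- `Q` is a member of the restricted class
  obtain ⟨ψ, hψ⟩ := isConj_iff.1 (isConj_trans hPU (isConj_symm (isConj_iff.2 ⟨φ, hφ⟩)))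
  obtain ⟨g, hg, n, -, he⟩ := h.mgen_split k ((isMap_meetSys h).1 hψ.1) rfl
  have hQc : (meetSys h k).IsConj P Q := by
    refine isConj_iff.2 ⟨g, (isMap_meetSys h).2 hg, ?_⟩
    refine IsIso.img_eq_of (hg.isMap (amb_F h)) le_rfl (fun y hy => ?_) fun z hz => ?_
    · have h1 := hψ.mem (autFn_mem n⁻¹ hy)
      rwa [he _ (autFn_mem n⁻¹ hy), autFn_self_inv n hy] at h1
    · obtain ⟨x, hx, rfl⟩ := hψ.exists_eq hz
      exact ⟨autFn n x, autFn_mem n hx, (he x hx).symm⟩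
  obtain ⟨u, hu, huQ⟩ := hU.2 Q hQc
  have hQN : Q ≤ normalizerIn R Q := le_normalizerIn hQR
  have hu0 : IsMap (meetSys h 0) (normalizerIn R Q) u := h.isMap_weaken hu
  have huQI : IsIso (meetSys h 0) Q U u := ⟨hu0.mono hQN, huQ⟩
  obtain ⟨ui, hui, huil, -⟩ := huQI.symm
  obtain ⟨b, hb, hbe⟩ := exists_aut_of_isIso (hui.trans hφ)
  rw [haut] at hb
  have hbu : ∀ x ∈ Q, autFn b (u x) = φ x := fun x hx => by
    rw [autFn_apply b (huQI.mem hx), hbe]
    show φ (ui (u x)) = φ x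
    rw [huil x hx]
  set N := Nx R Q φ
  have hNN : N ≤ normalizerIn R Q := Nx_le_normalizerIn R Q φ
  set Z := autInducedBy (img u N) U with hZdef
  have huN : ∀ g ∈ N, u g ∈ normalizerIn R U := fun g hg =>
    map_normalizerIn hu0 hQN huQ (hNN hg) (hNN hg)
  have hNR : img u N ≤ R := hu0.img_le hNN fun g hg => (huN g hg).1
  have hZ : Z ≤ autInducedBy R U := autInducedBy_le_of_le hNR
  have hbZ : ∀ z ∈ Z, b * z * b⁻¹ ∈ autInducedBy R U := fun z hz => by
    obtain ⟨_, hy, hze⟩ := mem_autInducedBy_iff.1 hz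
    obtain ⟨g, hg, rfl⟩ := (hu0.mem_img_iff hNN).1 hy
    obtain ⟨-, t, ht, hte⟩ := mem_Nx.1 hg
    refine mem_autInducedBy_iff.2 ⟨t, ht, fun w => ?_⟩
    obtain ⟨x, hx, hxw⟩ := hφ.exists_eq w.2
    have hbx : b ⟨u x, huQI.mem hx⟩ = w :=
      Subtype.ext ((autFn_apply b (huQI.mem hx)).symm.trans ((hbu x hx).trans hxw))
    have e2 : z ⟨u x, huQI.mem hx⟩ = ⟨u (g * x * g⁻¹), huQI.mem (normalizerIn_conj (hNN hg) hx)⟩ :=
      Subtype.ext ((hze _).trans (hu0.map_conj (hNN hg) (hQN hx)).symm)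
    rw [← hbx, MulAut.mul_apply, MulAut.mul_apply, MulAut.inv_apply_self, e2,
      ← autFn_apply b (huQI.mem (normalizerIn_conj (hNN hg) hx)), hbu _ (normalizerIn_conj (hNN hg) hx),
      hte x hx, hbx, ← hxw]
  obtain ⟨g₁, hg₁, hg₁e⟩ := h.good_ext hUr hUc hZ hb hbZ
  have hmap : ∀ g ∈ N, u g ∈ U ⊔ NK R U Z := fun g hg => Subgroup.mem_sup_right (mem_NK.2
    ⟨(huN g hg).1, normConj R U ⟨u g, huN g hg⟩,
      mem_autInducedBy_iff.2 ⟨u g, hu0.mem_img hg, fun w => normConj_apply _ _⟩,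
      fun w => normConj_apply _ _⟩)
  refine ⟨fun x => g₁ (u x), (hu0.mono hNN).comp ((isMap_meetSys h).2 hg₁) hmap, fun x hx => ?_⟩
  show g₁ (u x) = φ x
  rw [hg₁e _ (huQI.mem hx), hbu x hx]

theorem isSaturated : (meetSys h 0).IsSaturated p := by
  have hfR := h.finite_R
  set R := T₁ ⊓ T₂ with hR
  have hcR : ∀ {Q : Subgroup Ω}, Q ≤ R → Nat.card Q ≤ Nat.card R := fun hQ => Subgroup.card_le_of_le hQ
  suffices H : ∀ n, ∀ P : Subgroup Ω, P ≤ R → Nat.card R - Nat.card P = n →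
      ∃ Q, (meetSys h 0).IsConj P Q ∧ FAR (meetSys h 0) p Q from fun P hP => H _ P hP rfl
  intro n
  induction n using Nat.strong_induction_on with
  | _ n ih =>
  intro P hPR hn
  rcases eq_or_lt_of_le hPR with rfl | hlt
  · exact ⟨R, isConj_refl _ le_rfl, h.far_top⟩
  have hfar : ∀ W : Subgroup Ω, W ≤ R → Nat.card P < Nat.card W →
      ∃ W', (meetSys h 0).IsConj W W' ∧ FAR (meetSys h 0) p W' := fun W hW hk =>
    ih _ (by have := hcR hW; omega) W hW rfl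
  by_cases hP : InFc F R P
  · exact h.far_class hlt hP hfar
  have hne : ∀ Q : Subgroup Ω, F.IsConj P Q → InFc F R Q → ¬ 0 < Nat.card Q := fun Q hQ hQc _ => by
    obtain ⟨g, hg⟩ := isConj_iff.1 (isConj_symm hQ)
    exact hP (inFc_of_iso hQc hg h.cR)
  refine FusionCrit.exists_FAR_of_class ⟨h.pgroup_R, hlt, hfar,
    fun Q f hQ hf => h.chain_of_gen hlt hne ((isMap_meetSys h).1 hf) (h.isConj_F hQ)⟩ fun hc => ?_
  exact absurd (h.inFc_of_gen hPR fun g hg =>
    hc.2 _ (isConj_iff.2 ⟨g, (isMap_meetSys h).2 hg, rfl⟩)) hP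

/-- The meet is weakly normal in every intermediate saturated system. -/
theorem isWeaklyNormalIn {U : FusionSystem T} (hU : Amb F p E₁ E₂ U) :
    (meetSys h 0).IsWeaklyNormalIn U p := by
  refine ⟨h.isSaturated, hU.sat, FusionProduct.isInvariantIn_of_fn (fun P φ hφ => ?_) ⟨hU.le, ?_⟩ ?_ ?_⟩
  · exact mem_of_isMap (MGen.isMap hU hφ) fun x => (toFn_coe φ x).symm
  · intro P hP φ hφ x
    have := FusionChain.isMap_mem_of_stronglyClosed h.cR
      (FusionNormal.isMap_of_sub hU.sub (isMap_toFn hφ)) x.2 (hP x.2)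
    rwa [toFn_coe] at this
  · intro P f hP hf α hα
    have hαF := FusionNormal.autGroup_le_of_sub hU.sub hU.le hα
    refine ⟨fun y => autFn α (f (autFn α⁻¹ y)), (isMap_meetSys h).2
      (h.transport hαF ((isMap_meetSys h).1 hf) _ fun x hx => ?_), fun x hx => ?_⟩ <;>
    · show autFn α (f (autFn α⁻¹ (autFn α x))) = _
      rw [autFn_inv_self α (hP hx)]
  · intro P f hP hf
    obtain ⟨α, hα, g, hg, he⟩ := h.frattini_amb hU hP hf
    exact ⟨α, hα, g, (isMap_meetSys h).2 hg, he⟩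

/-- The meet: a subsystem over `T₁ ⊓ T₂` normal in `F`, `E₁` and `E₂`, together with its maps. -/
theorem exists_normal :
    ∃ D : FusionSystem (T₁ ⊓ T₂), D.IsNormalIn F p ∧ D.IsNormalIn E₁ p ∧ D.IsNormalIn E₂ p := by
  have hfR := h.finite_R
  have hR := h.pgroup_R
  refine ⟨FusionCrit.genSys (meetSys h 0) p (FusionCrit.resA (meetSys h 0) p)
    (FusionCrit.resA_le_autGroup _ p), FusionCrit.isNormalIn_genSys h.pgroup (h.isWeaklyNormalIn (amb_F h)),
    ?_, ?_⟩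
  · have := finite_of_le (S := S) h.i1.2.1.1
    exact FusionCrit.isNormalIn_genSys (h.pgroup.to_le h.i1.2.1.1) (h.isWeaklyNormalIn (amb_E₁ h))
  · have := finite_of_le (S := S) h.i2.2.1.1
    exact FusionCrit.isNormalIn_genSys (h.pgroup.to_le h.i2.2.1.1) (h.isWeaklyNormalIn (amb_E₂ h))

end Meet

end Cfsg.Agent.FusionLayer
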