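import Cfsg.Agent.Lib.FusionLayer.QSimple
import Cfsg.Agent.Lib.FusionLayer.MeetSat
import Cfsg.Agent.Lib.FusionIso.ComponentConj

/-
Components and normal subsystems.
Main results (namespace `Cfsg.Agent.FusionLayer`): `le_of_sub`, `dichotomy`, `component_sub_of_le`,
`component_of_normal`, `component_le_S`.
-/

set_option autoImplicit false

namespace Cfsg.Agent.FusionLayer

open Cfsg Cfsg.Agent.Fusion Cfsg.Agent.FusionNormalCent
open Cfsg.FusionSystem hiding inv_mem

variable {Ω : Type*} [Group Ω]

/-- A subsystem lives over a subgroup. -/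
theorem le_base_of_sub {T V : Subgroup Ω} {C : FusionSystem T} {E : FusionSystem V}
    (h : C.IsSubsystemOf E) : T ≤ V :=
  (E.le_of_mem (h T (C.conj_mem le_rfl T.one_mem))).1

theorem dichotomy_aux {T S : Subgroup Ω} {C : FusionSystem T} {F : FusionSystem S} {p : ℕ}
    (hsub : C.IsSubnormalIn F p) : Fact p.Prime → Finite S → IsPGroup p S → C.Quasisimple p →
      ∀ (V : Subgroup Ω) (E : FusionSystem V), E.IsNormalIn F p →
        C.IsSubsystemOf E ∨ T ⊓ V ≤ C.center := by
  induction hsub with
  | @refl F p =>
    intro _ _ hS hC V E hE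
    rcases qs_normal hS hC hE.1 with h | ⟨-, h⟩
    · exact Or.inr (inf_le_right.trans h)
    · exact Or.inl h
  | @step U S C D F p hCD hD ih =>
    intro _ _ hS hC V E hE
    have := finite_of_le hD.1.2.2.2.1.1
    obtain ⟨W, -, hWD, hWE⟩ := (Meet.mk hS hD.1.2.1 hD hE).exists_normal
    rcases ih inferInstance inferInstance (hS.to_le hD.1.2.2.2.1.1) hC _ W hWD with h | h
    · exact Or.inl fun P φ hφ => hWE.1.2.2.1 P (h P hφ)
    · refine Or.inr (le_trans ?_ h)
      exact le_inf inf_le_left (le_inf (inf_le_left.trans (FusionIso.le_of_subnormal hCD)) inf_le_right)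

theorem component_of_normal_aux {T S : Subgroup Ω} {C : FusionSystem T} {F : FusionSystem S} {p : ℕ}
    (hsub : C.IsSubnormalIn F p) : Fact p.Prime → Finite S → IsPGroup p S →
    C.Quasisimple p → ∀ (V : Subgroup Ω) (N : FusionSystem V), N.IsNormalIn F p → C.IsSubsystemOf N →
      C.IsSubnormalIn N p := by
  induction hsub with
  | @refl F p =>
    intro _ _ hS hC V N hN hCN
    obtain rfl : V = T := le_antisymm hN.1.2.2.2.1.1 (le_base_of_sub hCN)
    obtain rfl : N = F := ext_of_hom fun P => (hN.1.2.2.1 P).antisymm (hCN P)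
    exact .refl N p
  | @step U S C D F p hCD hD ih =>
    intro _ _ hS hC V N hN hCN
    have hUS := hD.1.2.2.2.1.1
    have := finite_of_le hUS
    obtain ⟨W, -, hWD, hWN⟩ := (Meet.mk hS hD.1.2.1 hD hN).exists_normal
    have hCW : C.IsSubsystemOf W := (dichotomy_aux hCD inferInstance inferInstance (hS.to_le hUS) hC
      _ W hWD).resolve_right fun h => have := finite_of_le ((FusionIso.le_of_subnormal hCD).trans hUS)
      not_le_center hC ((le_inf le_rfl (le_inf (FusionIso.le_of_subnormal hCD) (le_base_of_sub hCN))).trans h)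
    exact .step (ih inferInstance inferInstance (hS.to_le hUS) hC _ W hWD hCW) hWN

variable {S T V : Subgroup Ω} {F : FusionSystem S} {C : FusionSystem T} {E : FusionSystem V} {p : ℕ}
  [Finite S] [Fact p.Prime]

/-- A component lies in a normal subsystem or meets it centrally. -/
theorem dichotomy (hS : IsPGroup p S) (hC : C.IsComponentIn F p) (hE : E.IsNormalIn F p) :
    C.IsSubsystemOf E ∨ T ⊓ V ≤ C.center :=
  dichotomy_aux hC.1 inferInstance inferInstance hS hC.2 V E hE

omit [Fact p.Prime] [Finite S] in
theorem component_le_S (hC : C.IsComponentIn F p) : T ≤ S := FusionIso.le_of_subnormal hC.1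

omit [Fact p.Prime] in
theorem component_not_le_center (hC : C.IsComponentIn F p) : ¬ T ≤ C.center :=
  have := finite_of_le (component_le_S hC)
  not_le_center hC.2

/-- A component over a subgroup of the group of a normal subsystem lies in it. -/
theorem component_sub_of_le (hS : IsPGroup p S) (hC : C.IsComponentIn F p) (hE : E.IsNormalIn F p)
    (hTV : T ≤ V) : C.IsSubsystemOf E :=
  (dichotomy hS hC hE).resolve_right fun h =>
    component_not_le_center hC ((le_inf le_rfl hTV).trans h)

/-- A component inside a normal subsystem is one of its components. -/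
theorem component_of_normal (hS : IsPGroup p S) (hC : C.IsComponentIn F p) (hE : E.IsNormalIn F p)
    (hTV : T ≤ V) : C.IsComponentIn E p :=
  ⟨component_of_normal_aux hC.1 inferInstance inferInstance hS hC.2 V E hE
    (component_sub_of_le hS hC hE hTV), hC.2⟩

omit [Fact p.Prime] [Finite S] in
/-- A component of a normal subsystem is a component. -/
theorem component_trans {U : Subgroup Ω} {D : FusionSystem U} (hC : C.IsComponentIn D p)
    (hD : D.IsNormalIn F p) : C.IsComponentIn F p :=
  ⟨.step hC.1 hD, hC.2⟩

end Cfsg.Agent.FusionLayer
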