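import Cfsg.Agent.Lib.FusionLayer.Dichotomy
import Cfsg.Agent.Lib.Fusion.Induction
import Cfsg.Agent.Lib.FusionNormal.Generation
import Cfsg.Agent.S5120
import Cfsg.Agent.S5124
import Cfsg.Agent.Lib.FusionPIndex.Existence

/-
The layer.
Main results (namespace `Cfsg.Agent.FusionLayer`): `SubLayer`, `InvPred`, `exists_subLayer`, `exists_layer`,
`layer_unique`, `layer_normal`, `layer_layer`, `layer_perfect`, `layer_fix`.
-/

set_option autoImplicit false

namespace Cfsg.Agent.FusionLayer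

open Cfsg Cfsg.Agent.Fusion Cfsg.Agent.FusionNormalCent
open Cfsg.FusionSystem hiding inv_mem

variable {Ω : Type*} [Group Ω] {S R U : Subgroup Ω} {F : FusionSystem S} {L : FusionSystem R}
  {D : FusionSystem U} {p : ℕ} [Finite S] [Fact p.Prime]

omit [Fact p.Prime] in
theorem isNormalIn_self (hF : F.IsSaturated p) : F.IsNormalIn F p := by
  refine FusionProduct.isNormalIn_of_fn (FusionProduct.isWeaklyNormalIn_self hF) fun α hα => ?_
  have hm : IsMap F S (autFn α) := (mem_autGroup_iff le_rfl).1 hα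
  refine ⟨autFn α, hm.mono (sup_le le_rfl inf_le_left), fun x _ => rfl, fun c hc => ?_⟩
  have hcS := (mem_centralizerIn.1 hc).1
  refine Subgroup.mem_inf.2 ⟨mul_mem (inv_mem hcS) (autFn_mem α hcS), mul_mem (inv_mem
    (Subgroup.mem_centralizer_iff.2 fun y hy => ((mem_centralizerIn.1 hc).2 y hy).symm)) ?_⟩
  refine Subgroup.mem_centralizer_iff.2 fun y hy => ?_
  obtain ⟨x, hx, rfl⟩ := (isIso_autFn le_rfl hα).exists_eq hy
  rw [← hm.map_mul hx hcS, ← hm.map_mul hcS hx, (mem_centralizerIn.1 hc).2 x hx]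

/-- The least normal subsystem with all components of a given kind. -/
structure SubLayer (Φ : ∀ T : Subgroup Ω, FusionSystem T → Prop) (L : FusionSystem R) (F : FusionSystem S)
    (p : ℕ) : Prop where
  normal : L.IsNormalIn F p
  contains : ∀ (T : Subgroup Ω) (C : FusionSystem T), C.IsComponentIn F p → Φ T C → C.IsSubsystemOf L
  least : ∀ (V : Subgroup Ω) (N : FusionSystem V), N.IsNormalIn F p →
    (∀ (T : Subgroup Ω) (C : FusionSystem T), C.IsComponentIn F p → Φ T C → C.IsSubsystemOf N) →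
      L.IsSubsystemOf N

/-- A kind of subsystem preserved by the maps of `F`. -/
def InvPred (Φ : ∀ T : Subgroup Ω, FusionSystem T → Prop) (F : FusionSystem S) : Prop :=
  ∀ (T : Subgroup Ω) (C : FusionSystem T) (T' : Subgroup Ω) (C' : FusionSystem T')
    (g : FusionIso.FIso C C'), IsMap F T g.toFun → Φ T C → Φ T' C'

/-- The predicate of all components. -/
abbrev AllComp (Ω : Type*) [Group Ω] : ∀ T : Subgroup Ω, FusionSystem T → Prop := fun _ _ => True

omit [Finite S] [Fact p.Prime] in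
theorem invPred_all : InvPred (AllComp Ω) F := fun _ _ _ _ _ _ _ => trivial

omit [Finite S] [Fact p.Prime] in
theorem isLayerOf_iff : L.IsLayerOf F p ↔ SubLayer (AllComp Ω) L F p :=
  ⟨fun h => ⟨h.1, fun T C hC _ => h.2.1 T C hC,
      fun V N hN hNc => h.2.2 V N hN fun T C hC => hNc T C hC trivial⟩,
    fun h => ⟨h.normal, fun T C hC => h.contains T C hC trivial,
      fun V N hN hNc => h.least V N hN fun T C hC _ => hNc T C hC⟩⟩

/-- The least normal subsystem with all components of a given kind exists. -/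
theorem exists_subLayer (hS : IsPGroup p S) (hF : F.IsSaturated p)
    (Φ : ∀ T : Subgroup Ω, FusionSystem T → Prop) :
    ∃ (T : Subgroup Ω) (E : FusionSystem T), SubLayer Φ E F p := by
  classical
  have hex : ∃ (k : ℕ) (V : Subgroup Ω) (N : FusionSystem V), N.IsNormalIn F p ∧
      (∀ (T : Subgroup Ω) (C : FusionSystem T), C.IsComponentIn F p → Φ T C → C.IsSubsystemOf N) ∧
      (graphs N).ncard = k := by
    refine ⟨_, S, F, isNormalIn_self hF, fun T C hC _ => ?_, rfl⟩
    exact component_sub_of_le hS hC (isNormalIn_self hF) (component_le_S hC)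
  obtain ⟨V, N, hN, hNc, hk⟩ := Nat.find_spec hex
  refine ⟨V, N, hN, hNc, fun R N' hN' hN'c => ?_⟩
  obtain ⟨W, hW, hWN, hWN'⟩ := (Meet.mk hS hF hN hN').exists_normal
  have hWc : ∀ (T : Subgroup Ω) (C : FusionSystem T), C.IsComponentIn F p → Φ T C → C.IsSubsystemOf W :=
    fun T C hC hΦ => component_sub_of_le hS hC hW
      (le_inf (le_base_of_sub (hNc T C hC hΦ)) (le_base_of_sub (hN'c T C hC hΦ)))
  have hsub : W.IsSubsystemOf N := hWN.1.2.2.1
  intro P φ hφ
  refine hWN'.1.2.2.1 P ?_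
  have := finite_of_le hN.1.2.2.2.1.1
  have hgle : graphs W ⊆ graphs N := by
    rintro _ ⟨Q, ψ, hψ, rfl⟩
    exact ⟨Q, ψ, hsub Q hψ, rfl⟩
  have heq : graphs W = graphs N := Set.eq_of_subset_of_ncard_le hgle
    (hk ▸ Nat.find_min' hex ⟨_, W, hW, hWc, rfl⟩) (graphs_finite N)
  exact hom_of_graph (heq ▸ (⟨P, φ, hφ, rfl⟩ : _ ∈ graphs N))

/-- The layer exists. -/
theorem exists_layer (hS : IsPGroup p S) (hF : F.IsSaturated p) :
    ∃ (T : Subgroup Ω) (E : FusionSystem T), E.IsLayerOf F p :=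
  let ⟨T, E, h⟩ := exists_subLayer hS hF (AllComp Ω)
  ⟨T, E, isLayerOf_iff.2 h⟩

omit [Finite S] [Fact p.Prime] in
/-- Two layers have the same group and maps. -/
theorem layer_unique {R' : Subgroup Ω} {L' : FusionSystem R'} (hL : L.IsLayerOf F p)
    (hL' : L'.IsLayerOf F p) : R = R' ∧ L.IsSubsystemOf L' ∧ L'.IsSubsystemOf L :=
  ⟨le_antisymm (le_base_of_sub (hL.2.2 _ _ hL'.1 hL'.2.1)) (le_base_of_sub (hL'.2.2 _ _ hL.1 hL.2.1)),
    hL.2.2 _ _ hL'.1 hL'.2.1, hL'.2.2 _ _ hL.1 hL.2.1⟩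

variable {Φ : ∀ T : Subgroup Ω, FusionSystem T → Prop}

omit [Fact p.Prime] in
/-- The automorphisms of a normal subsystem in the system preserve its layer. -/
theorem subLayer_image (hΦ : InvPred Φ F) (hD : D.IsNormalIn F p) (hL : SubLayer Φ L D p)
    {α : MulAut U} (hα : α ∈ F.autGroup U) :
    (∀ x ∈ R, autFn α x ∈ R) ∧ ∀ P f, IsMap L P f →
      ∃ g, IsMap L (img (autFn α) P) g ∧ ∀ x ∈ P, g (autFn α x) = autFn α (f x) := by
  have hDs := hD.1.1
  have hRU : R ≤ U := hL.normal.1.2.2.2.1.1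
  have := finite_of_le hD.1.2.2.2.1.1
  let e := FusionIso.invariantAutIso hD.1.2.2 hα
  set T₀ := e.symm.im R with hT₀
  have hT₀U : T₀ ≤ U := e.symm.im_le hRU
  have hR : R = e.im T₀ := (e.im_symm_im hRU).symm
  have hn := e.isNormalIn_pullSub hT₀U hR hDs hL.normal
  have hsub : L.IsSubsystemOf (e.pullSub hT₀U hR L) := by
    refine hL.least _ _ hn fun T C hC hΦC => ?_
    obtain ⟨T', C', g, hg, hgi, hC'⟩ := FusionIso.exists_component hC e hDs
    have hsub' := hL.contains _ _ hC' (hΦ T C T' C' g (by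
      rw [hg]
      exact ((mem_autGroup_iff hD.1.2.2.2.1.1).1 hα).mono (component_le_S hC)) hΦC)
    have hT'R : T' ≤ R := le_base_of_sub hsub'
    have hTU : T ≤ U := component_le_S hC
    have hmemT : ∀ x ∈ T, x ∈ T₀ := fun x hx => by
      have h1 : e.toFun x ∈ R := hT'R (hg ▸ g.mem x hx)
      have h2 := e.symm.mem_im_of_mem h1
      rwa [show e.symm.toFun (e.toFun x) = x from e.left x (hTU hx)] at h2
    intro P φ hφ
    have hm := isMap_toFn hφ
    refine mem_of_isMap ((e.isMap_pullSub_iff hT₀U hR L (fun x hx => hmemT x (hm.le hx))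
      fun x hx => hmemT _ (hm.mem hx)).2 ?_) fun x => (toFn_coe φ x).symm
    have h1 := FusionNormal.isMap_of_sub hsub' (g.isMap_fn hm)
    rw [show g.im P = e.im P from congrArg (fun k => FusionIso.imT k P) hg] at h1
    refine h1.congr fun y hy => ?_
    show g.toFun (toFn φ (g.invFun y)) = e.toFun (toFn φ (e.invFun y))
    rw [hg, hgi]
  have hRT₀ : R = T₀ := eq_of_le_of_card hT₀U (le_base_of_sub hsub) (by
    rw [hT₀, e.symm.card_im hRU])
  have hpres : ∀ x ∈ R, autFn α x ∈ R := fun x hx => by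
    have := e.mem_im_of_mem (hRT₀ ▸ hx : x ∈ T₀)
    rwa [← hR] at this
  refine ⟨hpres, fun P f hf => ?_⟩
  have h1 := (e.isMap_pullSub_iff hT₀U hR L (hf.le.trans hRT₀.le)
    fun x hx => hRT₀.le (hf.mem hx)).1 (FusionNormal.isMap_of_sub hsub hf)
  exact ⟨e.fn f, h1, fun x hx => e.fn_apply f (hRU (hf.le hx))⟩

/-- The layer of a normal subsystem is normal. -/
theorem subLayer_normal (hS : IsPGroup p S) (hΦ : InvPred Φ F) (hD : D.IsNormalIn F p)
    (hL : SubLayer Φ L D p) :
    L.IsNormalIn F p := by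
  have hUS : U ≤ S := hD.1.2.2.2.1.1
  have hRU : R ≤ U := hL.normal.1.2.2.2.1.1
  have hRS := hRU.trans hUS
  have := finite_of_le hUS
  have := finite_of_le hRS
  have hi := hD.1.2.2
  have hiL := hL.normal.1.2.2
  have hres : ∀ α ∈ F.autGroup U, ∃ a ∈ F.autGroup R, ∀ x ∈ R, autFn a x = autFn α x := fun α hα => by
    have hαm : IsMap F U (autFn α) := (mem_autGroup_iff hUS).1 hα
    obtain ⟨hpres, -⟩ := subLayer_image hΦ hD hL hα
    obtain ⟨a, ha, hae⟩ := exists_aut_of_isIso (F := F) (P := R) (f := autFn α)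
      ⟨hαm.mono hRU, eq_of_le_of_card hRS (hαm.img_le hRU hpres) (hαm.card_img hRU).ge⟩
    exact ⟨a, ha, fun x hx => (autFn_apply a hx).trans (hae ⟨x, hx⟩)⟩
  have hfr : ∀ (P : Subgroup Ω) (f : Ω → Ω), P ≤ R → IsMap F P f →
      ∃ α ∈ F.autGroup U, ∃ γ ∈ D.autGroup R, ∃ f₁, IsMap L P f₁ ∧
        ∀ x ∈ P, f x = autFn α (autFn γ (f₁ x)) := fun P f hP hf => by
    obtain ⟨α, hα, f₀, hf₀, he⟩ := FusionNormal.frattini_map hi (hP.trans hRU) hf
    obtain ⟨γ, hγ, f₁, hf₁, he₁⟩ := FusionNormal.frattini_map hiL hP hf₀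
    exact ⟨α, hα, γ, hγ, f₁, hf₁, fun x hx => by rw [he x hx, he₁ x hx]⟩
  have hw : L.IsWeaklyNormalIn F p := by
    refine ⟨hL.normal.1.1, hD.1.2.1, FusionProduct.isInvariantIn_of_fn
      (fun P φ hφ => hi.1 P (hiL.1 P hφ)) ⟨hRS, fun P hP φ hφ x => ?_⟩ ?_ ?_⟩
    · obtain ⟨α, hα, γ, -, f₁, hf₁, he⟩ := hfr P _ hP (isMap_toFn hφ)
      rw [← toFn_coe φ x, he x x.2]
      exact (subLayer_image hΦ hD hL hα).1 _ (autFn_mem γ (hf₁.mem x.2))
    · intro P f hP hf β hβ
      obtain ⟨α, hα, γ, hγ, f₁, hf₁, he⟩ := hfr R _ le_rfl ((mem_autGroup_iff hRS).1 hβ)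
      have hf₁I : IsIso L R R f₁ :=
        ⟨hf₁, eq_of_le_of_card hRS hf₁.img_le_S (hf₁.card_img le_rfl).ge⟩
      obtain ⟨η, hη, hηe⟩ := exists_aut_of_isIso hf₁I
      have hηm : IsMap L R (autFn η) := (mem_autGroup_iff le_rfl).1 hη
      have hηD : η ∈ D.autGroup R := FusionNormal.autGroup_le_of_sub hiL.1 le_rfl hη
      have hγη : γ * η ∈ D.autGroup R := mul_mem hγ hηD
      obtain ⟨g₁, hg₁, hge₁⟩ := FusionNormal.transport_map hiL hP hf hγη
      obtain ⟨g, hg, hge⟩ := (subLayer_image hΦ hD hL hα).2 _ _ hg₁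
      have key : ∀ x ∈ R, autFn β x = autFn α (autFn (γ * η) x) := fun x hx => by
        rw [he x hx, FusionCrit.autFn_mul _ _ hx, autFn_apply η hx, hηe]
      refine ⟨g, hg.mono ?_, fun x hx => ?_⟩
      · refine ((mem_autGroup_iff hRS).1 hβ).img_le hP fun x hx => ?_
        rw [key x (hP hx)]
        exact Subgroup.subset_closure ⟨_, Subgroup.subset_closure ⟨x, hx, rfl⟩, rfl⟩
      · rw [key x (hP hx), hge _ (Subgroup.subset_closure ⟨x, hx, rfl⟩), hge₁ x hx,
          key _ (hf.mem hx)]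
    · intro P f hP hf
      obtain ⟨α, hα, γ, hγ, f₁, hf₁, he⟩ := hfr P f hP hf
      obtain ⟨a, ha, hae⟩ := hres α hα
      refine ⟨a * γ, mul_mem ha (FusionNormal.autGroup_le_of_sub hi.1 hRU hγ), f₁, hf₁, fun x hx => ?_⟩
      rw [FusionCrit.autFn_mul _ _ (hf₁.mem hx), hae _ (autFn_mem γ (hf₁.mem hx)), he x hx]
  have hr := FusionCrit.isNormalIn_genSys hS hw
  have hrD := FusionCrit.isNormalIn_genSys (hS.to_le hUS) hL.1.1
  set L₁ := FusionCrit.genSys L p (FusionCrit.resA L p) (FusionCrit.resA_le_autGroup L p)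
  have hle : L.IsSubsystemOf L₁ := hL.least _ _ hrD fun T C hC hΦC =>
    component_sub_of_le (hS.to_le hUS) hC hrD (le_base_of_sub (hL.contains T C hC hΦC))
  have heq : L = L₁ := ext_of_hom fun P => (hle P).antisymm fun φ hφ => mem_of_isMap
    (FusionCrit.TGen.isMap (FusionCrit.resA_le_autGroup L p)
      (FusionCrit.isMap_genSys.1 (isMap_toFn hφ))) fun x => (toFn_coe φ x).symm
  exact Eq.mpr (congrArg (fun X : FusionSystem R => X.IsNormalIn F p) heq) hr

omit [Finite S] [Fact p.Prime] in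
/-- Invariance passes to subsystems. -/
theorem InvPred.of_sub (hΦ : InvPred Φ F) (h : D.IsSubsystemOf F) : InvPred Φ D :=
  fun T C T' C' g hg => hΦ T C T' C' g (FusionNormal.isMap_of_sub h hg)

/-- The layer of a normal subsystem is normal. -/
theorem layer_normal (hS : IsPGroup p S) (hD : D.IsNormalIn F p) (hL : L.IsLayerOf D p) :
    L.IsNormalIn F p :=
  subLayer_normal hS invPred_all hD (isLayerOf_iff.1 hL)

/-- The least subsystem with the components of a kind is its own. -/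
theorem subLayer_self (hS : IsPGroup p S) (hΦ : InvPred Φ F) (hL : SubLayer Φ L F p) :
    SubLayer Φ L L p := by
  have hRS : R ≤ S := hL.normal.1.2.2.2.1.1
  have := finite_of_le hRS
  have hRp := hS.to_le hRS
  refine ⟨isNormalIn_self hL.normal.1.1,
    fun T C hC hΦC => hL.contains T C (component_trans hC hL.normal) hΦC, fun V N hN hNc => ?_⟩
  obtain ⟨W, M, hM⟩ := exists_subLayer hRp hL.normal.1.1 Φ
  have h1 : L.IsSubsystemOf M := hL.least _ _ (subLayer_normal hS hΦ hL.normal hM) fun T C hC hΦC =>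
    hM.contains T C (component_of_normal hS hC hL.normal (le_base_of_sub (hL.contains T C hC hΦC))) hΦC
  intro P φ hφ
  exact hM.least _ _ hN hNc P (h1 P hφ)

/-- The layer is its own layer. -/
theorem layer_layer (hS : IsPGroup p S) (hL : L.IsLayerOf F p) : L.IsLayerOf L p :=
  isLayerOf_iff.2 (subLayer_self hS invPred_all (isLayerOf_iff.1 hL))

/-- The least subsystem with the components of a kind is perfect. -/
theorem subLayer_perfect (hS : IsPGroup p S) (hΦ : InvPred Φ F) (hL : SubLayer Φ L F p) :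
    L.hyperfocalSubgroup p = R := by
  have hRS : R ≤ S := hL.normal.1.2.2.2.1.1
  have := finite_of_le hRS
  have hRp := hS.to_le hRS
  have hLs := hL.normal.1.1
  have hle : L.hyperfocalSubgroup p ≤ R := FusionNormal.hyperfocal_le L
  refine le_antisymm hle ?_
  obtain ⟨D, hDs, hDi⟩ := FusionPIndex.exists_pPowerIndex hRp hLs hle le_rfl
  have := finite_of_le hle
  have hn : D.IsNormalIn L p := S5120.result p hRp L hLs _ hle
    ((Subgroup.normal_subgroupOf_iff_le_normalizer hle).2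
      (normalizes_of_stronglyClosed (S5124.result p hRp L hLs))) le_rfl D hDs hDi
  refine le_base_of_sub ((subLayer_self hS hΦ hL).least _ _ hn fun T C hC _ =>
    component_sub_of_le hRp hC hn ?_)
  rw [← hC.2.2.1]
  exact FusionNormal.hyperfocal_mono
    (component_sub_of_le hRp hC (isNormalIn_self hLs) (component_le_S hC)) (component_le_S hC)

/-- The layer is perfect. -/
theorem layer_perfect (hS : IsPGroup p S) (hL : L.IsLayerOf F p) : L.hyperfocalSubgroup p = R :=
  subLayer_perfect hS invPred_all (isLayerOf_iff.1 hL)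

/-- A strongly closed subgroup in the centre of the group of a sublayer is in the centre. -/
theorem subLayer_fix (hS : IsPGroup p S) (hL : SubLayer Φ L F p) {Z : Subgroup Ω} (hZR : Z ≤ R)
    (hcen : ∀ t ∈ R, ∀ z ∈ Z, t * z = z * t) (hZ : F.StronglyClosed Z) : Z ≤ L.center := by
  obtain ⟨E', hE', hZE', hsub, -⟩ := exists_fixed_subsystem hS hL.normal hZR hcen hZ
  have h := hL.least _ _ hE' fun T C hC hΦC =>
    component_sub_of_le hS hC hE' (le_base_of_sub (hL.contains T C hC hΦC))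
  obtain rfl : L = E' := ext_of_hom fun P => (h P).antisymm (hsub P)
  exact hZE'

/-- A strongly closed subgroup in the centre of the group of the layer is in its centre. -/
theorem layer_fix (hS : IsPGroup p S) (hL : L.IsLayerOf F p) {Z : Subgroup Ω} (hZR : Z ≤ R)
    (hcen : ∀ t ∈ R, ∀ z ∈ Z, t * z = z * t) (hZ : F.StronglyClosed Z) : Z ≤ L.center :=
  subLayer_fix hS (isLayerOf_iff.1 hL) hZR hcen hZ

end Cfsg.Agent.FusionLayer
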