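import Cfsg.Agent.Lib.FusionCrit.Pairs
import Cfsg.Agent.Lib.FusionNormalCent.Existence
import Cfsg.Agent.Lib.FusionInner.Basic
import Cfsg.Agent.Lib.FusionProduct.Extend

/-
The meet of two normal subsystems: automizer groups, stabilisers inside receptive subgroups, the
centric completion `P C_T(P)` and automorphisms of order prime to `p` on it.
Main results (namespace `Cfsg.Agent.FusionLayer`): `Meet`, `A12`, `NP`, `BP`, `stab_receptive`,
`cdom_normalized`, `centric_cdom`, `exists_cdom_lift`.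
-/

set_option autoImplicit false

namespace Cfsg.Agent.FusionLayer

open Cfsg Cfsg.Agent.Fusion Cfsg.Agent.FusionNormalCent
open Cfsg.FusionSystem hiding inv_mem
open Cfsg.Agent.FusionCrit (stab mem_stab autFn_mul autFn_inv_self autFn_self_inv)

variable {Ω : Type*} [Group Ω] {S T T₁ T₂ : Subgroup Ω} {p : ℕ}

/-- Two normal subsystems of a saturated system. -/
structure Meet (F : FusionSystem S) (p : ℕ) (E₁ : FusionSystem T₁) (E₂ : FusionSystem T₂) : Prop where
  pgroup : IsPGroup p S
  sat : F.IsSaturated p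
  n1 : E₁.IsNormalIn F p
  n2 : E₂.IsNormalIn F p

/-- The common automorphisms of two systems. -/
def A12 (E₁ : FusionSystem T₁) (E₂ : FusionSystem T₂) (P : Subgroup Ω) : Subgroup (MulAut P) :=
  E₁.autGroup P ⊓ E₂.autGroup P

/-- The group generated by the common automorphisms of order prime to `p`. -/
def NP (p : ℕ) (E₁ : FusionSystem T₁) (E₂ : FusionSystem T₂) (P : Subgroup Ω) : Subgroup (MulAut P) :=
  Subgroup.closure {a | a ∈ A12 E₁ E₂ P ∧ (orderOf a).Coprime p}

/-- The automizer of the meet: the elements of order prime to `p` and conjugations by `T₁ ⊓ T₂`. -/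
def BP (p : ℕ) (E₁ : FusionSystem T₁) (E₂ : FusionSystem T₂) (P : Subgroup Ω) : Subgroup (MulAut P) :=
  NP p E₁ E₂ P ⊔ autInducedBy (T₁ ⊓ T₂) P

/-- A subgroup normalised by the normalizer of a fully normalised subgroup of it is receptive, and the
conjugations stabilising the smaller subgroup form a Sylow subgroup. -/
theorem stab_receptive [Finite S] [Fact p.Prime] (hS : IsPGroup p S) {F : FusionSystem S}
    (hF : F.IsSaturated p) {P W : Subgroup Ω} (hP : F.IsFullyNormalized P) (hPW : P ≤ W) (hW : W ≤ S)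
    (hN : ∀ g ∈ normalizerIn S P, g ∈ normalizerIn S W) :
    F.IsReceptive W ∧
      IsSylowIn p (autInducedBy S W ⊓ stab W P) (F.autGroup W ⊓ stab W P) := by
  refine fullyK_spec hS hF ⟨hW, fun W' φ hφ => ?_⟩
  have := finite_of_le (S := S) (P := normalizerIn S P) inf_le_left
  have := finite_of_le (S := S) (P := NK S W (stab W P)) (NK_le _ _ _)
  have h1 : normalizerIn S P ≤ NK S W (stab W P) := fun g hg => by
    refine mem_NK.2 ⟨hg.1, normConj S W ⟨g, hN g hg⟩, fun x => ?_, fun x => rfl⟩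
    rw [normConj_apply]
    exact ((mem_normalizerIn.1 hg).2 _).symm
  have hconj : F.IsConj P (img φ P) := isConj_iff.2 ⟨φ, hφ.mono hPW⟩
  have := finite_of_le (S := S) (P := normalizerIn S (img φ P)) inf_le_left
  have := finite_of_le (S := S) (P := img φ P) (hφ.mono hPW).le_right
  have h2 : NK S W' (transK hφ (stab W P)) ≤ normalizerIn S (img φ P) := fun g hg => by
    obtain ⟨hgS, β, hβ, hge⟩ := mem_NK.1 hg
    obtain ⟨α, hα, hαe⟩ := mem_transK.1 hβ
    refine mem_normalizerIn_of_conj hgS fun y hy => ?_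
    obtain ⟨x, hx, rfl⟩ := (hφ.1.mem_img_iff hPW).1 hy
    have h := hge (hφ.equiv ⟨x, hPW hx⟩)
    rw [IsIso.equiv_apply, hαe] at h
    rw [← h]
    exact hφ.1.mem_img ((hα _).2 hx)
  exact (Subgroup.card_le_of_le h2).trans ((hP.2 _ hconj).trans (Subgroup.card_le_of_le h1))

theorem cdom_normalized [Finite S] (hT : T ≤ S) (hTn : ∀ s ∈ S, ∀ t ∈ T, s * t * s⁻¹ ∈ T)
    {P : Subgroup Ω} (hP : P ≤ T) {g : Ω} (hg : g ∈ normalizerIn S P) :
    g ∈ normalizerIn S (Dom T P) := by
  have hDS : Dom T P ≤ S := (dom_le hP).trans hT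
  have := finite_of_le hDS
  refine mem_normalizerIn_of_conj hg.1 fun x hx => ?_
  refine (IsMap.conj hDS hg.1 : IsMap (innerFusionSystem S) _ _).forall_mem_sup le_sup_left le_sup_right
    (fun y hy => le_dom T P (normalizerIn_conj hg hy)) (fun y hy => cen_le_dom T P ?_) hx
  exact ⟨hTn g hg.1 y hy.1,
    (FusionProduct.conj_mem_centralizerIn hg (⟨hT hy.1, hy.2⟩ : y ∈ centralizerIn S P)).2⟩

/-- `P C_T(P)` is centric, for `P` fully centralised. -/
theorem centric_cdom [Finite T] {E : FusionSystem T} {P : Subgroup Ω} (hP : E.IsFullyCentralized P) :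
    E.IsCentric (Dom T P) := by
  refine ⟨dom_le hP.1, fun W hW => ?_⟩
  obtain ⟨w, hw⟩ := isConj_iff.1 hW
  have hP' : E.IsConj P (img w P) := isConj_iff.2 ⟨w, hw.mono (le_dom T P)⟩
  have h1 : img w (centralizerIn T P) = centralizerIn T (img w P) := by
    refine eq_of_le_of_card inf_le_left (hw.1.img_le (cen_le_dom T P) fun g hg =>
      map_centralizerIn hw.1 (le_dom T P) rfl (cen_le_dom T P hg) hg) ?_
    rw [hw.1.card_img (cen_le_dom T P)]
    exact hP.2 _ hP'
  intro g hg
  have hsub : img w P ≤ W := hw.1.img_le (le_dom T P) fun x hx => hw.mem (le_dom T P hx)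
  have h2 : g ∈ centralizerIn T (img w P) := ⟨hg.1, fun x hx => hg.2 x (hsub hx)⟩
  rw [← h1] at h2
  obtain ⟨c, hc, rfl⟩ := (hw.1.mem_img_iff (cen_le_dom T P)).1 h2
  exact hw.mem (cen_le_dom T P hc)

/-- An automorphism of a fully normalised `P` extends to `P C_T(P)`. -/
theorem exists_cdom_lift [Finite T] [Fact p.Prime] (hT : IsPGroup p T) {E : FusionSystem T}
    (hE : E.IsSaturated p) {P : Subgroup Ω} (hP : E.IsFullyNormalized P) {n : MulAut P}
    (hn : n ∈ E.autGroup P) :
    ∃ d ∈ E.autGroup (Dom T P) ⊓ stab (Dom T P) P, ∀ x ∈ P, autFn d x = autFn n x := by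
  have hPT := hP.1
  obtain ⟨g, hg, hgn⟩ := FusionChain.exists_extension (receptive_of_fullyNormalized hT hE hP) hn
    (centralizerIn_le_normalizerIn T P) fun c hc => by
    rw [(normConj_eq_one_iff (⟨c, centralizerIn_le_normalizerIn T P hc⟩ : normalizerIn T P)).2 hc,
      mul_one, mul_inv_cancel]
    exact one_mem _
  have hgP : img g P = P := (img_congr hgn).trans (isIso_autFn hPT hn).2
  have hgD : IsIso E (Dom T P) (Dom T P) g := by
    refine ⟨hg, eq_of_le_of_card (dom_le hPT) (hg.img_le le_rfl fun x hx => ?_) (hg.card_img le_rfl).ge⟩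
    exact hg.forall_mem_sup le_sup_left le_sup_right
      (fun y hy => le_dom T P (hgn y hy ▸ autFn_mem n hy))
      (fun y hy => cen_le_dom T P (map_centralizerIn hg le_sup_left hgP (Subgroup.mem_sup_right hy) hy)) hx
  obtain ⟨d, hd, hde⟩ := exists_aut_of_isIso hgD
  refine ⟨d, ⟨hd, fun x => ?_⟩, fun x hx => ?_⟩
  · rw [hde]
    refine ⟨fun h => ?_, fun h => hgn _ h ▸ autFn_mem n h⟩
    obtain ⟨y, hy, e⟩ := (hg.mem_img_iff le_sup_left).1 (hgP.symm ▸ h : g x ∈ img g P)
    exact hg.inj (le_dom T P hy) x.2 e ▸ hy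
  · rw [autFn_apply d (le_dom T P hx), hde, hgn x hx]

end Cfsg.Agent.FusionLayer
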