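import Cfsg.Agent.Lib.FusionLayer.MeetSys
import Cfsg.Agent.Lib.FusionCrit.Basic

/-
The automizer of a universal member of a conjugacy class in the generated system of the meet.
Main results (namespace `Cfsg.Agent.FusionLayer`): `Meet.mgen_split`, `Meet.mgen_agree`, `Meet.chain_of_gen`,
`Meet.far_weaken`, `Meet.autGroup_le_BP`, `Meet.exists_member_RFN`.
-/

set_option autoImplicit false

namespace Cfsg.Agent.FusionLayer

open Cfsg Cfsg.Agent.Fusion Cfsg.Agent.FusionNormalCent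
open Cfsg.FusionSystem hiding inv_mem
open Cfsg.Agent.FusionCrit (stab mem_stab restr restr_apply autFn_mul autFn_inv_self autFn_self_inv
  FAR Chain ClassHyp IsUniversal)

variable {Ω : Type*} [Group Ω] {S T₁ T₂ : Subgroup Ω} {F : FusionSystem S} {p : ℕ}
  {E₁ : FusionSystem T₁} {E₂ : FusionSystem T₂}

theorem autFn_one_apply {P : Subgroup Ω} {x : Ω} (hx : x ∈ P) : autFn (1 : MulAut P) x = x := by
  rw [autFn_apply _ hx]
  rfl

namespace Meet

variable [Finite S] [Fact p.Prime] (h : Meet F p E₁ E₂)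

include h

omit [Fact p.Prime] in
theorem finite_R : Finite ↥(T₁ ⊓ T₂) := finite_of_le h.R_le

omit [Fact p.Prime] in
theorem pgroup_R : IsPGroup p ↥(T₁ ⊓ T₂) := h.pgroup.to_le h.R_le

omit [Fact p.Prime] in
/-- A generated map factors through pieces of larger order and an element of `NP`. -/
theorem mgen_split (k : ℕ) {P : Subgroup Ω} {f : Ω → Ω} (hf : MGen F p E₁ E₂ 0 P f)
    (hk : Nat.card P = k) :
    ∃ g, MGen F p E₁ E₂ k P g ∧ ∃ n ∈ NP p E₁ E₂ P, ∀ x ∈ P, f x = g (autFn n x) := by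
  induction hf with
  | @aut P Q n hc _ hn hp hPQ =>
    rcases Nat.lt_or_ge k (Nat.card Q) with hlt | hge
    · exact ⟨autFn n, MGen.aut hc hlt hn hp hPQ, 1, one_mem _, fun x hx => by rw [autFn_one_apply hx]⟩
    · obtain rfl : P = Q := eq_of_le_of_card (hc.1.trans h.R_le) hPQ (by omega)
      exact ⟨fun x => x, MGen.id hc.1, n, Subgroup.subset_closure ⟨hn, hp⟩, fun _ _ => rfl⟩
  | @conj P r hP hr =>
    exact ⟨_, MGen.conj hP hr, 1, one_mem _, fun x hx => by rw [autFn_one_apply hx]⟩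
  | @comp P f₁ f₂ h₁ h₂ ih₁ ih₂ =>
    have hF := amb_F h
    have hm₁ := h₁.isMap hF
    obtain ⟨g₁, hg₁, n₁, hn₁, e₁⟩ := ih₁ hk
    obtain ⟨g₂, hg₂, n₂, hn₂, e₂⟩ := ih₂ (by rw [hm₁.card_img le_rfl, hk])
    have hgm := hg₁.isMap hF
    have himg : img g₁ P = img f₁ P := by
      refine IsIso.img_eq_of hgm le_rfl (fun y hy => ?_) fun z hz => ?_
      · have h := hm₁.mem_img (Q := P) (autFn_mem n₁⁻¹ hy)
        rwa [e₁ _ (autFn_mem n₁⁻¹ hy), autFn_self_inv n₁ hy] at h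
      · obtain ⟨x, hx, rfl⟩ := (hm₁.mem_img_iff le_rfl).1 hz
        exact ⟨autFn n₁ x, autFn_mem n₁ hx, (e₁ x hx).symm⟩
    have hiso : IsIso F P (img f₁ P) g₁ := ⟨hgm, himg⟩
    obtain ⟨n₃, hn₃, hn₃e⟩ := (h.NP_congr hiso h₁.le).ge hn₂
    refine ⟨fun x => g₂ (g₁ x), MGen.comp hg₁ (himg.symm ▸ hg₂), n₃ * n₁, mul_mem hn₃ hn₁, fun x hx => ?_⟩
    show f₂ (f₁ x) = g₂ (g₁ (autFn (n₃ * n₁) x))
    have hn₁x := autFn_mem n₁ hx
    rw [e₂ _ (hm₁.mem_img hx), e₁ x hx, autFn_mul _ _ hx, autFn_apply n₃ hn₁x,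
      autFn_apply n₂ (hiso.mem hn₁x), ← hn₃e]
    exact congrArg g₂ (congr_apply_coe hiso n₃ ⟨_, hn₁x⟩)
  | @congr P f₁ f₂ _ e ih =>
    obtain ⟨g, hg, n, hn, he⟩ := ih hk
    exact ⟨g, hg, n, hn, fun x hx => (e x hx).symm.trans (he x hx)⟩

omit [Fact p.Prime] in
/-- On subgroups of order greater than `k` the pieces of order greater than `k` suffice. -/
theorem mgen_agree (k : ℕ) {P : Subgroup Ω} {f : Ω → Ω} (hf : MGen F p E₁ E₂ 0 P f)
    (hk : k < Nat.card P) : MGen F p E₁ E₂ k P f := by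
  induction hf with
  | @aut P Q n hc _ hn hp hPQ =>
    have := finite_of_le (S := S) (hc.1.trans h.R_le)
    exact MGen.aut hc (hk.trans_le (Subgroup.card_le_of_le hPQ)) hn hp hPQ
  | conj hP hr => exact MGen.conj hP hr
  | @comp P f₁ f₂ h₁ h₂ ih₁ ih₂ =>
    exact MGen.comp (ih₁ hk) (ih₂ (by rwa [(h₁.isMap (amb_F h)).card_img le_rfl]))
  | congr _ e ih => exact (ih hk).congr e

theorem isMap_weaken {k : ℕ} {P : Subgroup Ω} {f : Ω → Ω} (hf : IsMap (meetSys h k) P f) :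
    IsMap (meetSys h 0) P f :=
  (isMap_meetSys h).2 (((isMap_meetSys h).1 hf).weaken (Nat.zero_le k))

omit [Fact p.Prime] in
theorem isMap_agree {k : ℕ} {P : Subgroup Ω} {f : Ω → Ω} (hf : IsMap (meetSys h 0) P f)
    (hk : k < Nat.card P) : IsMap (meetSys h k) P f :=
  (isMap_meetSys h).2 (h.mgen_agree k ((isMap_meetSys h).1 hf) hk)

omit [Fact p.Prime] in
theorem isMap_F {k : ℕ} {P : Subgroup Ω} {f : Ω → Ω} (hf : IsMap (meetSys h k) P f) : IsMap F P f :=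
  ((isMap_meetSys h).1 hf).isMap (amb_F h)

omit [Fact p.Prime] in
theorem isConj_F {k : ℕ} {P Q : Subgroup Ω} (hc : (meetSys h k).IsConj P Q) : F.IsConj P Q := by
  obtain ⟨f, hf⟩ := isConj_iff.1 hc
  exact isConj_iff.2 ⟨f, h.isMap_F hf.1, hf.2⟩

omit [Fact p.Prime] in
theorem aut_le_A12 {k : ℕ} {P : Subgroup Ω} (hP : P ≤ T₁ ⊓ T₂) :
    (meetSys h k).autGroup P ≤ A12 E₁ E₂ P := fun α hα => by
  have hg := (isMap_meetSys h).1 ((mem_autGroup_iff hP).1 hα)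
  exact Subgroup.mem_inf.2 ⟨(mem_autGroup_iff (hP.trans inf_le_left)).2 (hg.isMap (amb_E₁ h)),
    (mem_autGroup_iff (hP.trans inf_le_right)).2 (hg.isMap (amb_E₂ h))⟩

omit [Fact p.Prime] in
/-- A map all of whose pieces are larger than the member is a chain. -/
theorem chain_of_gen {k : ℕ} {P : Subgroup Ω} (hlt : P < T₁ ⊓ T₂)
    (hne : ∀ Q : Subgroup Ω, F.IsConj P Q → InFc F (T₁ ⊓ T₂) Q → ¬ k < Nat.card Q)
    {M : Subgroup Ω} {f : Ω → Ω} (hf : MGen F p E₁ E₂ k M f) :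
    F.IsConj P M → Chain (meetSys h k) M f := by
  induction hf with
  | @aut M Q n hc hk hn hp hMQ =>
    intro hM
    exact Chain.step ((isMap_meetSys h).2 (MGen.aut hc hk hn hp le_rfl))
      (lt_of_le_of_ne hMQ fun e => hne M hM (e ▸ hc) (e ▸ hk))
  | @conj M r hM' hr =>
    intro hM
    refine Chain.step ((isMap_meetSys h).2 (MGen.conj le_rfl hr)) (lt_of_le_of_ne hM' fun e => ?_)
    obtain ⟨g, hg⟩ := isConj_iff.1 hM
    exact hlt.ne (eq_of_le_of_card h.R_le hlt.le (by rw [← hg.card_eq, e]))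
  | @comp M f₁ f₂ h₁ h₂ ih₁ ih₂ =>
    intro hM
    exact Chain.comp (ih₁ hM)
      (ih₂ (isConj_trans hM (isConj_iff.2 ⟨f₁, (h₁.isMap (amb_F h)).isIso⟩)))
  | @congr M f₁ f₂ _ e ih => exact fun hM => Chain.congr (ih hM) e

/-- A good member of the full system stays good in the restricted one, for larger subgroups. -/
theorem far_weaken {k : ℕ} {W : Subgroup Ω} (hk : k < Nat.card W)
    (hW : FAR (meetSys h 0) p W) : FAR (meetSys h k) p W := by
  have := h.finite_R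
  have hWR : W ≤ T₁ ⊓ T₂ := hW.2.1
  have haut : (meetSys h k).autGroup W = (meetSys h 0).autGroup W :=
    Subgroup.ext fun α => ⟨fun hα => (mem_autGroup_iff hWR).2 (h.isMap_weaken ((mem_autGroup_iff hWR).1 hα)),
      fun hα => (mem_autGroup_iff hWR).2 (h.isMap_agree ((mem_autGroup_iff hWR).1 hα) hk)⟩
  refine ⟨isFullyAutomized_iff.2 ⟨hWR, ?_⟩, isReceptive_iff.2 ⟨hWR, fun P φ hφ => ?_⟩⟩
  · rw [haut]
    exact (isFullyAutomized_iff.1 hW.1).2
  · obtain ⟨f', hf', he⟩ := (isReceptive_iff.1 hW.2).2 P φ ⟨h.isMap_weaken hφ.1, hφ.2⟩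
    refine ⟨f', h.isMap_agree hf' (hk.trans_le ?_), he⟩
    rw [hφ.card_eq]
    have := finite_of_le (S := T₁ ⊓ T₂) (P := Nx (T₁ ⊓ T₂) P φ) hf'.le
    exact Subgroup.card_le_of_le (le_Nx hφ.1)

/-- Change of the isomorphism onto a member with maximal normalizer. -/
theorem congr_change {M U : Subgroup Ω} (hU : RFN F (T₁ ⊓ T₂) U) {v w : Ω → Ω} (hv : IsIso F M U v)
    (hw : IsIso F M U w) {α : MulAut M} (hα : MulAut.congr hw.equiv α ∈ BP p E₁ E₂ U) :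
    MulAut.congr hv.equiv α ∈ BP p E₁ E₂ U := by
  obtain ⟨wi, hwi, hwil, -⟩ := hw.symm
  obtain ⟨ε, hε, hεe⟩ := exists_aut_of_isIso (hwi.trans hv)
  have he : ∀ x : M, ε (hw.equiv x) = hv.equiv x := fun x => Subtype.ext (by
    rw [hεe, IsIso.equiv_apply, IsIso.equiv_apply]
    show v (wi (w x)) = v x
    rw [hwil x x.2])
  suffices e : MulAut.congr hv.equiv α = ε * MulAut.congr hw.equiv α * ε⁻¹ by
    rw [e]
    exact h.BP_normal hU hε hα
  refine eq_mul_inv_of_mul_eq (MulEquiv.ext fun y => ?_)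
  obtain ⟨x, rfl⟩ := hw.equiv.surjective y
  rw [MulAut.mul_apply, MulAut.mul_apply, he]
  have h1 : MulAut.congr hw.equiv α (hw.equiv x) = hw.equiv (α x) :=
    Subtype.ext ((congr_apply_coe hw α x).trans (hw.equiv_apply _).symm)
  have h2 : MulAut.congr hv.equiv α (hv.equiv x) = hv.equiv (α x) :=
    Subtype.ext ((congr_apply_coe hv α x).trans (hv.equiv_apply _).symm)
  rw [h1, h2, he]

/-- Restrictions to a member of automorphisms of a larger subgroup land in `BP`. -/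
theorem stab_res {P U : Subgroup Ω} (hU : IsUniversal (meetSys h (Nat.card P)) P U)
    (hUr : RFN F (T₁ ⊓ T₂) U) {W M : Subgroup Ω} (hMW : M ≤ W) (hW : W ≤ T₁ ⊓ T₂)
    (hk : Nat.card P < Nat.card W) (hM : (meetSys h (Nat.card P)).IsConj P M)
    (hfar : ∃ W', (meetSys h 0).IsConj W W' ∧ FAR (meetSys h 0) p W') {χ : MulAut W}
    (hχ : χ ∈ (meetSys h 0).autGroup W) (hχs : χ ∈ stab W M) {v : Ω → Ω} (hv : IsIso F M U v) :
    MulAut.congr hv.equiv (restr hMW ⟨χ, hχs⟩) ∈ BP p E₁ E₂ U := by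
  have hfR := h.finite_R
  have := finite_mulAut (S := T₁ ⊓ T₂) hW
  have hMR : M ≤ T₁ ⊓ T₂ := hMW.trans hW
  let st := stab W M
  let G : Subgroup st := ((meetSys h 0).autGroup W).subgroupOf st
  let H : Subgroup st :=
    (BP p E₁ E₂ U).comap ((MulAut.congr hv.equiv).toMonoidHom.comp (restr hMW))
  suffices hle : G ≤ H from hle (show (⟨χ, hχs⟩ : st) ∈ G from hχ)
  obtain ⟨B, hB⟩ := exists_isSylowIn p G
  refine FusionNormal.autGroup_le_of_sylow_pResidual hB (fun b hb => ?_) fun g hg hgc => ?_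
  · -- `p`-elements
    obtain ⟨W', hc, hfar'⟩ := hfar
    obtain ⟨a, ha⟩ := isConj_iff.1 hc
    have hW' : W' ≤ T₁ ⊓ T₂ := hfar'.2.1
    have := finite_mulAut (S := T₁ ⊓ T₂) hW'
    have hBp : IsPGroup p ((B.map st.subtype).map (MulAut.congr ha.equiv).toMonoidHom) :=
      (hB.isPGroup.map _).map _
    obtain ⟨d, hd, hdB⟩ := (isFullyAutomized_iff.1 hfar'.1).2.exists_conj_le hBp (by
      rintro _ ⟨_, ⟨c, hc', rfl⟩, rfl⟩
      exact Fusion.congr_mem_autGroup ha (hB.le hc'))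
    obtain ⟨r, hr, hre⟩ := mem_autInducedBy_iff.1 (hdB _ ⟨_, ⟨b, hb, rfl⟩, rfl⟩)
    have hj : IsIso (meetSys h 0) W W' (fun x => autFn d (a x)) := ha.trans (isIso_autFn hW' hd)
    set j := fun x => autFn d (a x)
    set M₂ := img j M
    have hjM : IsMap (meetSys h (Nat.card P)) W j := h.isMap_agree hj.1 hk
    have hM₂ : (meetSys h (Nat.card P)).IsConj P M₂ :=
      isConj_trans hM (isConj_iff.2 ⟨j, hjM.mono hMW, rfl⟩)
    obtain ⟨u, hu, huM⟩ := hU.2 M₂ hM₂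
    have hM₂R : M₂ ≤ T₁ ⊓ T₂ := (isConj_le hM₂).2
    have := finite_of_le (S := T₁ ⊓ T₂) hM₂R
    have hM₂N : M₂ ≤ normalizerIn (T₁ ⊓ T₂) M₂ := le_normalizerIn hM₂R
    have hw : IsIso F M U (fun x => u (j x)) := by
      have h1 : IsIso F M M₂ j := ⟨(h.isMap_F hjM).mono hMW, rfl⟩
      exact h1.trans ⟨(h.isMap_F hu).mono hM₂N, huM⟩
    have hjb : ∀ x : W, j ((b : MulAut W) x : W) = r * j x * r⁻¹ := fun x => by
      show autFn d (a _) = r * autFn d (a x) * r⁻¹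
      have h1 := hre (d (ha.equiv x))
      rw [MulAut.mul_apply, MulAut.mul_apply, MulAut.inv_apply_self] at h1
      rw [autFn_apply d (ha.mem x.2), autFn_apply d (ha.mem ((b : MulAut W) x).2)]
      refine Eq.trans ?_ h1
      exact congrArg (fun y : W' => ((d y : W') : Ω))
        (Subtype.ext (congr_apply_coe ha (b : MulAut W) x).symm)
    have hrN : r ∈ normalizerIn (T₁ ⊓ T₂) M₂ := by
      refine mem_normalizerIn_of_conj hr fun y hy => ?_
      obtain ⟨x, hx, rfl⟩ := (hjM.mem_img_iff hMW).1 hy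
      rw [← hjb ⟨x, hMW hx⟩]
      exact hjM.mem_img ((b.2 _).2 hx)
    refine h.congr_change hUr hv hw (Subgroup.mem_sup_right (mem_autInducedBy_iff.2
      ⟨u r, hu.mem hrN, fun y => ?_⟩))
    obtain ⟨x, rfl⟩ := hw.equiv.surjective y
    rw [congr_apply_coe, IsIso.equiv_apply, restr_apply, hjb ⟨x, hMW x.2⟩,
      hu.map_conj hrN (hM₂N (hjM.mem_img x.2))]
  · -- elements of order prime to `p`
    have hg12 := h.aut_le_A12 hW hg
    have hr : restr hMW g ∈ A12 E₁ E₂ M := by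
      have key : ∀ {T : Subgroup Ω} {E : FusionSystem T}, W ≤ T → (g : MulAut W) ∈ E.autGroup W →
          restr hMW g ∈ E.autGroup M := fun {T E} hWT hgE => by
        refine (mem_autGroup_iff (hMW.trans hWT)).2 ((((mem_autGroup_iff hWT).1 hgE).mono hMW).congr
          fun x hx => ?_)
        rw [autFn_apply _ (hMW hx), autFn_apply _ hx, restr_apply]
      exact Subgroup.mem_inf.2 ⟨key (hW.trans inf_le_left) hg12.1, key (hW.trans inf_le_right) hg12.2⟩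
    exact Subgroup.mem_sup_left ((h.NP_congr hv hMR).le ⟨_, Subgroup.subset_closure
      ⟨hr, Nat.Coprime.coprime_dvd_left (orderOf_map_dvd _ g) hgc⟩, rfl⟩)

/-- Automorphisms of a universal member made of larger pieces lie in `BP`. -/
theorem step_BP {P U : Subgroup Ω} (hU : IsUniversal (meetSys h (Nat.card P)) P U)
    (hUr : RFN F (T₁ ⊓ T₂) U)
    (hfar : ∀ W : Subgroup Ω, W ≤ T₁ ⊓ T₂ → Nat.card P < Nat.card W →
      ∃ W', (meetSys h 0).IsConj W W' ∧ FAR (meetSys h 0) p W')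
    {W : Subgroup Ω} {ψ : Ω → Ω} (hψ : IsMap (meetSys h (Nat.card P)) W ψ) (hUW : U < W)
    (hWN : W ≤ normalizerIn (T₁ ⊓ T₂) U) (hψU : img ψ U = U) :
    ∃ β ∈ BP p E₁ E₂ U, ∀ x ∈ U, ψ x = autFn β x := by
  have hfR := h.finite_R
  set k := Nat.card P
  set R := T₁ ⊓ T₂
  set N := normalizerIn R U
  have hcN : ∀ {X : Subgroup Ω}, X ≤ N → Nat.card X ≤ Nat.card N := fun hX => by
    have := finite_of_le (S := R) (P := N) inf_le_left
    exact Subgroup.card_le_of_le hX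
  induction hd : Nat.card N - Nat.card W using Nat.strong_induction_on generalizing W ψ with
  | _ d ih =>
  have hWR : W ≤ R := hψ.le
  have hkW : k < Nat.card W := ClassHyp.card_lt_of_lt hU.1 hWR hUW
  set W₂ := img ψ W
  have hW₂N : W₂ ≤ N := FusionCrit.img_le_normalizerIn hψ hUW.le hWN hψU
  have hW₂c : Nat.card W₂ = Nat.card W := hψ.card_img le_rfl
  have hUW₂ : U < W₂ := hψU ▸ FusionCrit.lt_img_of_lt hψ hUW
  have hUU : IsIso F U U (fun x => x) := IsIso.refl (hUr.1.trans h.R_le)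
  by_cases hWN' : W = N
  · subst hWN'
    have heq : W₂ = N := eq_of_le_of_card inf_le_left hW₂N hW₂c.ge
    obtain ⟨χ, hχ, hχe⟩ := exists_aut_of_isIso (show IsIso (meetSys h k) N N ψ from ⟨hψ, heq⟩)
    have hχs : χ ∈ stab N U := fun x => by
      rw [hχe]
      refine ⟨fun hx => ?_, fun hx => hψU ▸ hψ.mem_img hx⟩
      obtain ⟨y, hy, e⟩ := (hψ.mem_img_iff hUW.le).1 (hψU.symm ▸ hx : ψ x ∈ img ψ U)
      exact hψ.inj (hUW.le hy) x.2 e ▸ hy
    have h1 := h.stab_res hU hUr hUW.le hWR hkW hU.1 (hfar _ hWR hkW)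
      ((mem_autGroup_iff hWR).2 (h.isMap_weaken ((mem_autGroup_iff hWR).1 hχ))) hχs hUU
    refine ⟨_, h1, fun x hx => ?_⟩
    rw [autFn_apply _ hx]
    have h2 := congr_apply_coe hUU (restr hUW.le ⟨χ, hχs⟩) ⟨x, hx⟩
    rw [show hUU.equiv ⟨x, hx⟩ = (⟨x, hx⟩ : U) from Subtype.ext (hUU.equiv_apply _)] at h2
    exact ((hχe _).symm.trans (restr_apply hUW.le ⟨χ, hχs⟩ ⟨x, hx⟩).symm).trans h2.symm
  have hlt : W < N := lt_of_le_of_ne hWN hWN'
  have hlt₂ : W₂ < N := lt_of_le_of_ne hW₂N fun e => hWN'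
    (eq_of_le_of_card inf_le_left hWN (by rw [← hW₂c, e]))
  obtain ⟨W₀, hW₀c, hW₀⟩ := hfar W hWR hkW
  have hW₀k : k < Nat.card W₀ := by
    obtain ⟨a, ha⟩ := isConj_iff.1 hW₀c
    rwa [ha.card_eq]
  have hconj : (meetSys h k).IsConj W W₀ := by
    obtain ⟨a, ha⟩ := isConj_iff.1 hW₀c
    exact isConj_iff.2 ⟨a, h.isMap_agree ha.1 hkW, ha.2⟩
  obtain ⟨Ws, Us, f, ht, hf, hfU⟩ :=
    FusionCrit.exists_pair_target h.pgroup_R hUW.le (h.far_weaken hW₀k hW₀) hconj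
  obtain ⟨h₁, hh₁, hh₁W, hh₁U, hh₁N⟩ := FusionCrit.pair_extension h.pgroup_R ht hf hUW.le hfU hWN
  obtain ⟨ψi, hψi, hψil, -⟩ := hψ.isIso.symm
  have hψiU : img ψi U = U := by
    refine IsIso.img_eq_of hψi.1 hUW₂.le (fun y hy => ?_) fun x hx => ⟨ψ x, hψU ▸ hψ.mem_img hx,
      hψil x (hUW.le hx)⟩
    obtain ⟨x, hx, rfl⟩ := (hψ.mem_img_iff hUW.le).1 (hψU.symm ▸ hy : y ∈ img ψ U)
    rwa [hψil x (hUW.le hx)]
  have hfψ : img (fun x => f (ψi x)) U = Us := by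
    refine IsIso.img_eq_of (hψi.trans hf).1 hUW₂.le (fun y hy => hfU ▸ hf.1.mem_img
      (hψiU ▸ hψi.1.mem_img hy)) fun z hz => ?_
    obtain ⟨x, hx, rfl⟩ := (hf.1.mem_img_iff hUW.le).1 (hfU.symm ▸ hz : z ∈ img f U)
    obtain ⟨y, hy, rfl⟩ := (hψi.1.mem_img_iff hUW₂.le).1 (hψiU.symm ▸ hx : x ∈ img ψi U)
    exact ⟨y, hy, rfl⟩
  obtain ⟨h₂, hh₂, hh₂W, hh₂U, hh₂N⟩ :=
    FusionCrit.pair_extension h.pgroup_R ht (hψi.trans hf) hUW₂.le hfψ hW₂N
  set NN₁ := FusionCrit.NN R W U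
  set NN₂ := FusionCrit.NN R W₂ U
  have hlt₁' : W < NN₁ := FusionCrit.lt_NN h.pgroup_R hlt
  have hlt₂' : W₂ < NN₂ := FusionCrit.lt_NN h.pgroup_R hlt₂
  have hUs : (meetSys h k).IsConj P Us := isConj_trans hU.1
    (isConj_iff.2 ⟨f, hf.1.mono hUW.le, hfU⟩)
  obtain ⟨v, hv, hvU⟩ := hU.2 Us hUs
  have hUsR : Us ≤ R := (isConj_le hUs).2
  have hUsN : Us ≤ normalizerIn R Us := le_normalizerIn hUsR
  -- the two outer maps
  have houter : ∀ (X : Subgroup Ω) (hX : Ω → Ω), IsMap (meetSys h k) (FusionCrit.NN R X U) hX →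
      img hX U = Us → (∀ y ∈ FusionCrit.NN R X U, hX y ∈ FusionCrit.NN R Ws Us) →
      X < FusionCrit.NN R X U → U < X → Nat.card X = Nat.card W →
      ∃ β ∈ BP p E₁ E₂ U, ∀ x ∈ U, v (hX x) = autFn β x := by
    intro X hX hm hUe hmem hXlt hUX hXc
    have hUNN : U < FusionCrit.NN R X U := hUX.trans hXlt
    have hm' : IsMap (meetSys h k) (FusionCrit.NN R X U) (fun x => v (hX x)) :=
      hm.comp hv fun y hy => (hmem y hy).2
    refine ih _ ?_ hUNN ?_ hm' inf_le_right rfl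
    · have h1 := FusionCrit.card_lt (S := R) hm.le hXlt
      have h2 : Nat.card (FusionCrit.NN R X U) ≤ Nat.card N := hcN inf_le_right
      omega
    · rw [FusionCrit.img_comp (hm.mono hUNN.le) (hv.mono (by rw [hUe]; exact hUsN)), hUe, hvU]
  obtain ⟨β₁, hβ₁, e₁⟩ := houter W h₁ hh₁ hh₁U hh₁N hlt₁' hUW rfl
  obtain ⟨β₂, hβ₂, e₂⟩ := houter W₂ h₂ hh₂ hh₂U hh₂N hlt₂' hUW₂ hW₂c
  -- the middle automorphism
  have hi₁ : IsIso (meetSys h k) W Ws h₁ := ⟨hh₁.mono hlt₁'.le, hh₁W⟩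
  have hi₂ : IsIso (meetSys h k) W₂ Ws h₂ := ⟨hh₂.mono hlt₂'.le, hh₂W⟩
  obtain ⟨i₁, hi₁', hi₁l, -⟩ := hi₁.symm
  obtain ⟨χ, hχ, hχe⟩ := exists_aut_of_isIso ((hi₁'.trans hψ.isIso).trans hi₂)
  have hWsR : Ws ≤ R := hi₁.le_right
  have hWsk : k < Nat.card Ws := by rw [hi₁.card_eq]; exact hkW
  have hχh : ∀ x (hx : x ∈ W), ((χ ⟨h₁ x, hi₁.mem hx⟩ : Ws) : Ω) = h₂ (ψ x) := fun x hx => by
    rw [hχe]
    show h₂ (ψ (i₁ (h₁ x))) = _
    rw [hi₁l x hx]
  have hχs : χ ∈ stab Ws Us := fun y => by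
    obtain ⟨x, hx, hxy⟩ := hi₁.exists_eq y.2
    have hy : y = ⟨h₁ x, hi₁.mem hx⟩ := Subtype.ext hxy.symm
    rw [hy, hχh x hx]
    show h₂ (ψ x) ∈ Us ↔ h₁ x ∈ Us
    have k1 : h₁ x ∈ Us ↔ x ∈ U := by
      rw [← hh₁U, (hh₁.mono hlt₁'.le).mem_img_iff hUW.le]
      exact ⟨fun ⟨z, hz, e⟩ => hi₁.1.inj (hUW.le hz) hx e ▸ hz, fun hz => ⟨x, hz, rfl⟩⟩
    have hψx : ψ x ∈ W₂ := hψ.mem_img hx
    have k2 : h₂ (ψ x) ∈ Us ↔ ψ x ∈ U := by
      rw [← hh₂U, (hh₂.mono hlt₂'.le).mem_img_iff hUW₂.le]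
      exact ⟨fun ⟨z, hz, e⟩ => hi₂.1.inj (hUW₂.le hz) hψx e ▸ hz, fun hz => ⟨_, hz, rfl⟩⟩
    have k3 : ψ x ∈ U ↔ x ∈ U := by
      refine ⟨fun hz => ?_, fun hz => hψU ▸ hψ.mem_img hz⟩
      obtain ⟨z, hz, e⟩ := (hψ.mem_img_iff hUW.le).1 (hψU.symm ▸ hz : ψ x ∈ img ψ U)
      exact hψ.inj (hUW.le hz) hx e ▸ hz
    rw [k1, k2, k3]
  have hUsW : Us ≤ Ws := ht.2.1
  have hvi : IsIso F Us U v := ⟨(h.isMap_F hv).mono hUsN, hvU⟩
  have h3 := h.stab_res hU hUr hUsW hWsR hWsk hUs (hfar _ hWsR hWsk)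
    ((mem_autGroup_iff hWsR).2 (h.isMap_weaken ((mem_autGroup_iff hWsR).1 hχ))) hχs hvi
  set β₃ := MulAut.congr hvi.equiv (restr hUsW ⟨χ, hχs⟩)
  refine ⟨β₂⁻¹ * β₃ * β₁, mul_mem (mul_mem (inv_mem hβ₂) h3) hβ₁, fun x hx => ?_⟩
  have hxW := hUW.le hx
  have hψx : ψ x ∈ U := hψU ▸ hψ.mem_img hx
  have hh₁x : h₁ x ∈ Us := hh₁U ▸ hh₁.mem_img hx
  have h4 : autFn β₃ (v (h₁ x)) = v (h₂ (ψ x)) := by
    rw [autFn_apply _ (hvi.mem hh₁x)]
    refine (congr_apply_coe hvi (restr hUsW ⟨χ, hχs⟩) ⟨h₁ x, hh₁x⟩).trans ?_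
    rw [restr_apply]
    exact congrArg v (hχh x hxW)
  rw [autFn_mul _ _ hx, autFn_mul _ _ (autFn_mem β₁ hx), ← e₁ x hx, h4, e₂ _ hψx,
    autFn_inv_self β₂ hψx]

/-- The automizer of a universal member with maximal normalizer. -/
theorem autGroup_le_BP {P U : Subgroup Ω} (hlt : P < T₁ ⊓ T₂)
    (hU : IsUniversal (meetSys h (Nat.card P)) P U) (hUr : RFN F (T₁ ⊓ T₂) U)
    (hfar : ∀ W : Subgroup Ω, W ≤ T₁ ⊓ T₂ → Nat.card P < Nat.card W →
      ∃ W', (meetSys h 0).IsConj W W' ∧ FAR (meetSys h 0) p W') :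
    (meetSys h 0).autGroup U ≤ BP p E₁ E₂ U := by
  have hfR := h.finite_R
  set k := Nat.card P
  set R := T₁ ⊓ T₂
  have hne : ∀ Q : Subgroup Ω, F.IsConj P Q → InFc F R Q → ¬ k < Nat.card Q := fun Q hQ _ => by
    obtain ⟨g, hg⟩ := isConj_iff.1 hQ
    rw [hg.card_eq]
    exact lt_irrefl _
  -- chains between members
  have hchain : ∀ {M : Subgroup Ω} {f : Ω → Ω}, Chain (meetSys h k) M f →
      (meetSys h k).IsConj P M → ∀ u u' : Ω → Ω, IsMap (meetSys h k) (normalizerIn R M) u →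
        img u M = U → IsMap (meetSys h k) (normalizerIn R (img f M)) u' → img u' (img f M) = U →
        ∃ β ∈ BP p E₁ E₂ U, ∀ x ∈ M, u' (f x) = autFn β (u x) := by
    intro M f hc
    induction hc with
    | @step M X f hf hMX =>
      intro hM u u' hu huM hu' hu'M
      set X' := normalizerIn X M
      have hXR : X ≤ R := hf.le
      have hMX' : M < X' := lt_normalizerIn h.pgroup_R hXR hMX
      have hX'N : X' ≤ normalizerIn R M := inf_le_inf_right _ hXR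
      have hfX : IsMap (meetSys h k) X' f := hf.mono inf_le_left
      have hMN : M ≤ normalizerIn R M := hMX'.le.trans hX'N
      have huX := hu.mono hX'N
      obtain ⟨i, hi, hil, -⟩ := huX.isIso.symm
      have hfN : ∀ y ∈ X', f y ∈ normalizerIn R (img f M) := fun y hy =>
        map_normalizerIn hfX hMX'.le rfl hy (hX'N hy)
      have hψ : IsMap (meetSys h k) (img u X') (fun y => u' (f (i y))) :=
        (hi.trans hfX.isIso).1.comp hu' fun y hy => hfN _ (hi.mem hy)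
      have hUX : U < img u X' := huM ▸ FusionCrit.lt_img_of_lt huX hMX'
      have hψU : img (fun y => u' (f (i y))) U = U := by
        refine IsIso.img_eq_of hψ hUX.le (fun y hy => ?_) fun z hz => ?_
        · obtain ⟨x, hx, rfl⟩ := (hu.mem_img_iff hMN).1 (huM.symm ▸ hy : y ∈ img u M)
          rw [hil x (hMX'.le hx), ← hu'M]
          exact hu'.mem_img (hf.mem_img hx)
        · obtain ⟨w, hw, rfl⟩ := (hu'.mem_img_iff (le_normalizerIn
            ((hf.mono hMX.le).img_le_S))).1 (hu'M.symm ▸ hz : z ∈ img u' (img f M))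
          obtain ⟨x, hx, rfl⟩ := (hf.mem_img_iff hMX.le).1 hw
          exact ⟨u x, huM ▸ hu.mem_img hx, by rw [hil x (hMX'.le hx)]⟩
      obtain ⟨β, hβ, e⟩ := h.step_BP hU hUr hfar hψ hUX
        (FusionCrit.img_le_normalizerIn huX hMX'.le hX'N huM) hψU
      refine ⟨β, hβ, fun x hx => ?_⟩
      rw [← e (u x) (huM ▸ hu.mem_img hx), hil x (hMX'.le hx)]
    | @comp M f g h₁ h₂ ih₁ ih₂ =>
      intro hM u u' hu huM hu' hu'M
      have hc₁ : (meetSys h k).IsConj P (img f M) :=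
        isConj_trans hM (isConj_iff.2 ⟨f, h₁.isMap.isIso⟩)
      obtain ⟨w, hw, hwM⟩ := hU.2 _ hc₁
      rw [FusionCrit.img_comp h₁.isMap h₂.isMap] at hu' hu'M
      obtain ⟨β₁, hβ₁, e₁⟩ := ih₁ hM u w hu huM hw hwM
      obtain ⟨β₂, hβ₂, e₂⟩ := ih₂ hc₁ w u' hw hwM hu' hu'M
      refine ⟨β₂ * β₁, mul_mem hβ₂ hβ₁, fun x hx => ?_⟩
      show u' (g (f x)) = _
      rw [e₂ _ (h₁.isMap.mem_img hx), e₁ x hx, ← autFn_mul _ _ (huM ▸ hu.mem_img hx)]
    | @congr M f g _ e ih =>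
      intro hM u u' hu huM hu' hu'M
      rw [← img_congr e] at hu' hu'M
      obtain ⟨β, hβ, e'⟩ := ih hM u u' hu huM hu' hu'M
      exact ⟨β, hβ, fun x hx => by rw [← e x hx]; exact e' x hx⟩
  intro α hα
  have hUR := hUr.1
  obtain ⟨g, hg, n, hn, he⟩ :=
    h.mgen_split k ((isMap_meetSys h).1 ((mem_autGroup_iff hUR).1 hα)) (ClassHyp.card_eq hU.1)
  have hgm := hg.isMap (amb_F h)
  have hgU : img g U = U := by
    refine IsIso.img_eq_of hgm le_rfl (fun y hy => ?_) fun z hz => ?_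
    · have h1 := he _ (autFn_mem n⁻¹ hy)
      rw [autFn_self_inv n hy] at h1
      exact h1 ▸ autFn_mem α (autFn_mem n⁻¹ hy)
    · refine ⟨autFn n (autFn α⁻¹ z), autFn_mem n (autFn_mem _ hz), ?_⟩
      rw [← he _ (autFn_mem _ hz), autFn_self_inv α hz]
  have hid : IsMap (meetSys h k) (normalizerIn R U) (fun x => x) := Fusion.IsMap.id inf_le_left
  have hidU : img (fun x : Ω => x) U = U := by rw [img, Set.image_id', Subgroup.closure_eq]
  obtain ⟨β, hβ, e⟩ := hchain (h.chain_of_gen hlt hne hg (h.isConj_F hU.1)) hU.1 (fun x => x)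
    (fun x => x) hid hidU (by rwa [hgU]) (by rwa [hgU])
  suffices e' : α = β * n by
    rw [e']
    exact mul_mem hβ (Subgroup.mem_sup_left hn)
  refine MulEquiv.ext fun x => Subtype.ext ?_
  rw [← autFn_apply α x.2, ← autFn_apply (β * n) x.2, autFn_mul _ _ x.2, he x x.2]
  exact e _ (autFn_mem n x.2)

omit [Finite S] [Fact p.Prime] in
theorem autR_le_aut {k : ℕ} {P : Subgroup Ω} (hP : P ≤ T₁ ⊓ T₂) :
    autInducedBy (T₁ ⊓ T₂) P ≤ (meetSys h k).autGroup P :=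
  autInducedBy_le_autGroup _ le_rfl hP

omit [Fact p.Prime] in
theorem BP_le_aut {U : Subgroup Ω} (hU : InFc F (T₁ ⊓ T₂) U) :
    BP p E₁ E₂ U ≤ (meetSys h 0).autGroup U := by
  refine sup_le ((Subgroup.closure_le _).2 fun n hn => (mem_autGroup_iff hU.1).2
    ((isMap_meetSys h).2 (MGen.aut hU ?_ hn.1 hn.2 le_rfl))) (h.autR_le_aut hU.1)
  have := finite_of_le (S := S) (hU.1.trans h.R_le)
  exact Nat.card_pos

/-- A class has a member with maximal normalizer, inside the restricted system. -/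
theorem exists_member_RFN {P : Subgroup Ω} (hP : P ≤ T₁ ⊓ T₂) :
    ∃ M, (meetSys h (Nat.card P)).IsConj P M ∧ RFN F (T₁ ⊓ T₂) M := by
  have hfR := h.finite_R
  obtain ⟨P₀, hc, hP₀⟩ := exists_fullyNormalized F (hP.trans h.R_le)
  obtain ⟨f, hf⟩ := isConj_iff.1 hc
  obtain ⟨α, hα, g, hg, he⟩ := h.frattini hP hf.1
  obtain ⟨g', hg', n, hn, he'⟩ := h.mgen_split (Nat.card P) hg rfl
  have hgm := hg'.isMap (amb_F h)
  have hgR : img g' P ≤ T₁ ⊓ T₂ := hgm.img_le le_rfl (hg'.mem (amb_F h))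
  refine ⟨img g' P, isConj_iff.2 ⟨g', (isMap_meetSys h).2 hg', rfl⟩, hgR, fun Q hQ => ?_⟩
  have hm : IsMap F (T₁ ⊓ T₂) (autFn α) := (mem_autGroup_iff h.R_le).1 hα
  have hP₀R := h.iso_le hf hP
  have himg : img (autFn α) (img g' P) = P₀ := by
    refine IsIso.img_eq_of hm hgR (fun y hy => ?_) fun z hz => ?_
    · obtain ⟨x, hx, rfl⟩ := (hgm.mem_img_iff le_rfl).1 hy
      have h1 := he _ (autFn_mem n⁻¹ hx)
      rw [he' _ (autFn_mem n⁻¹ hx), autFn_self_inv n hx] at h1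
      exact h1 ▸ hf.mem (autFn_mem n⁻¹ hx)
    · obtain ⟨x, hx, rfl⟩ := hf.exists_eq hz
      exact ⟨g' (autFn n x), hgm.mem_img (autFn_mem n hx), by rw [← he' x hx, ← he x hx]⟩
  have hconj : F.IsConj (img g' P) P₀ := isConj_iff.2 ⟨autFn α, hm.mono hgR, himg⟩
  refine ((h.rfn_of_fn hP₀R hP₀).2 Q (isConj_trans (isConj_symm hconj) hQ)).trans ?_
  obtain ⟨i, hi, hil, -⟩ := hm.isIso.symm
  have hR' : img (autFn α) (T₁ ⊓ T₂) = T₁ ⊓ T₂ := (isIso_autFn h.R_le hα).2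
  rw [hR'] at hi
  have hle : normalizerIn (T₁ ⊓ T₂) P₀ ≤ T₁ ⊓ T₂ := inf_le_left
  rw [← hi.1.card_img hle]
  have := finite_of_le (S := S) (P := normalizerIn (T₁ ⊓ T₂) (img g' P)) (inf_le_left.trans h.R_le)
  refine Subgroup.card_le_of_le (hi.1.img_le hle fun y hy => ?_)
  have hiP : img i P₀ = img g' P := by
    refine IsIso.img_eq_of hi.1 hP₀R (fun z hz => ?_) fun x hx => ⟨autFn α x, himg ▸ hm.mem_img hx, hil x (hgR hx)⟩
    obtain ⟨x, hx, rfl⟩ := (hm.mem_img_iff hgR).1 (himg.symm ▸ hz : z ∈ img (autFn α) (img g' P))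
    rwa [hil x (hgR hx)]
  exact ⟨hi.mem hy.1, (map_normalizerIn hi.1 hP₀R hiP hy.1 ⟨h.R_le hy.1, hy.2⟩).2⟩

end Meet

end Cfsg.Agent.FusionLayer
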