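import Cfsg.Agent.Lib.Fusion.Group
import Cfsg.Agent.Lib.FusionChain.Alperin
import Cfsg.Agent.Lib.FusionProduct.Extend
import Cfsg.Agent.Lib.FusionProduct.Transfer

/-
A focal argument: a Sylow subgroup on which elements of order prime to `p` act trivially modulo a normal
subgroup lies in it, when these elements generate.
Main result (namespace `Cfsg.Agent.FusionLayer`): `sylow_le_of_coprime_comm`.
-/

set_option autoImplicit false

namespace Cfsg.Agent.FusionLayer

open Cfsg Cfsg.Agent.Fusion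
open scoped commutatorElement Pointwise

variable {G : Type*} [Group G] [Finite G] {p : ℕ} [Fact p.Prime]

/-- In a nilpotent group a subgroup covering the commutator quotient is everything. -/
theorem le_of_le_sup_commutator {Y X : Subgroup G} (hY : IsPGroup p Y) (hXY : X ≤ Y)
    (hXn : ∀ y ∈ Y, ∀ x ∈ X, y * x * y⁻¹ ∈ X) (h : Y ≤ X ⊔ ⁅Y, Y⁆) : Y ≤ X := by
  set X' := X.subgroupOf Y
  have : X'.Normal := ⟨fun n hn g => hXn g g.2 n hn⟩
  set π := QuotientGroup.mk' X'
  have hmap : (⁅Y, Y⁆).subgroupOf Y ≤ commutator Y := by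
    intro y hy
    have e : ⁅Y, Y⁆ = (commutator Y).map Y.subtype := by
      rw [commutator_def, Subgroup.map_commutator, ← MonoidHom.range_eq_map, Subgroup.range_subtype]
    have hy' : (y : G) ∈ (commutator Y).map Y.subtype := e ▸ hy
    obtain ⟨z, hz, hze⟩ := hy'
    rwa [← Subtype.ext (show (z : G) = y from hze)]
  have htop : commutator (Y ⧸ X') = ⊤ := by
    refine eq_top_iff.2 fun q _ => ?_
    obtain ⟨y, rfl⟩ := QuotientGroup.mk'_surjective X' q
    have hnorm : ⁅Y, Y⁆ ≤ Subgroup.normalizer (X : Set G) := Subgroup.commutator_le.2 fun a ha b hb => by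
      have hm : ∀ g ∈ Y, g ∈ Subgroup.normalizer (X : Set G) := fun g hg => Subgroup.mem_normalizer_iff.2
        fun x => ⟨hXn g hg x, fun h => by simpa [mul_assoc] using hXn g⁻¹ (inv_mem hg) _ h⟩
      rw [commutatorElement_def]
      exact mul_mem (mul_mem (mul_mem (hm a ha) (hm b hb)) (inv_mem (hm a ha))) (inv_mem (hm b hb))
    have hy : (y : G) ∈ (X : Set G) * ((⁅Y, Y⁆ : Subgroup G) : Set G) := by
      rw [← Subgroup.coe_mul_of_right_le_normalizer_left X _ hnorm]
      exact h y.2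
    obtain ⟨x, hx, c, hc, e⟩ := hy
    have hcY : c ∈ Y := by
      have : c = x⁻¹ * (y : G) := by rw [← e]; group
      exact this ▸ mul_mem (inv_mem (hXY hx)) y.2
    have hy' : y = (⟨x, hXY hx⟩ : Y) * ⟨c, hcY⟩ := Subtype.ext e.symm
    rw [hy', map_mul, show π ⟨x, hXY hx⟩ = 1 from (QuotientGroup.eq_one_iff _).2 hx, one_mul]
    have hm : π ⟨c, hcY⟩ ∈ (commutator Y).map π :=
      Subgroup.mem_map_of_mem π (hmap (show (⟨c, hcY⟩ : Y) ∈ (⁅Y, Y⁆).subgroupOf Y from hc))
    rwa [commutator_def, Subgroup.map_commutator, Subgroup.map_top_of_surjective π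
      (QuotientGroup.mk'_surjective X'), ← commutator_def] at hm
  have : Group.IsNilpotent Y := hY.isNilpotent
  by_contra hne
  obtain ⟨y, hy, hyX⟩ := SetLike.not_le_iff_exists.1 hne
  have : Nontrivial (Y ⧸ X') := ⟨⟨π ⟨y, hy⟩, 1, fun e => hyX ((QuotientGroup.eq_one_iff (N := X') (⟨y, hy⟩ : Y)).1 e)⟩⟩
  exact (Group.IsSolvable.commutator_lt_top_of_nontrivial (Y ⧸ X')).ne htop

/-- The focal argument. -/
theorem sylow_le_of_coprime_comm {Y X : Subgroup G} (hY : IsSylowIn p Y (⊤ : Subgroup G)) (hXY : X ≤ Y)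
    (hXn : ∀ y ∈ Y, ∀ x ∈ X, y * x * y⁻¹ ∈ X)
    (hgen : Subgroup.closure {g : G | (orderOf g).Coprime p} = ⊤)
    (hcomm : ∀ Q : Subgroup G, Q ≤ Y → ∀ n : G, (orderOf n).Coprime p →
      (∀ q ∈ Q, n * q * n⁻¹ ∈ Q) → ∀ q ∈ Q, q⁻¹ * (n * q * n⁻¹) ∈ X) : Y ≤ X := by
  let T : Sylow p G := ⟨Y, hY.2.1, fun hQ hle => hY.2.2 _ hle le_top hQ⟩
  refine le_of_le_sup_commutator hY.isPGroup hXY hXn ?_
  set A := X ⊔ ⁅Y, Y⁆
  have hcY : ⁅Y, Y⁆ ≤ Y := Subgroup.commutator_le_self Y
  have hc : ∀ x ∈ Y, ∀ y ∈ Y, x * y * x⁻¹ * y⁻¹ ∈ A := fun x hx y hy => by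
    rw [← commutatorElement_def]
    exact Subgroup.mem_sup_right (Subgroup.commutator_mem_commutator hx hy)
  have hAY : A ≤ Y := sup_le hXY hcY
  have hAn : ∀ x ∈ Y, ∀ a ∈ A, x * a * x⁻¹ ∈ A := fun x hx a ha => by
    have h := mul_mem (hc x hx a (hAY ha)) ha
    rwa [inv_mul_cancel_right] at h
  have key : ∀ P f, IsMap (groupFusionSystem Y) P f → ∀ x ∈ P, x⁻¹ * f x ∈ A := by
    intro P f hf
    refine FusionChain.alperin_induction hY.isPGroup (isSaturated_group T)
      (fun P f => ∀ x ∈ P, x⁻¹ * f x ∈ A) ?_ ?_ ?_ ?_ hf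
    · intro P f g _ h he x hx
      exact he x hx ▸ h x hx
    · exact fun P P' f _ hle h x hx => h x (hle hx)
    · intro P P' f g _ _ hfP h h' x hx
      rw [show x⁻¹ * g (f x) = (x⁻¹ * f x) * ((f x)⁻¹ * g (f x)) by group]
      exact mul_mem (h x hx) (h' _ (hfP x hx))
    intro R hR _ _ α hα _ x hx
    have := finite_mulAut (S := Y) hR.1
    let H : Subgroup (MulAut R) :=
      { carrier := {a | ∀ x : R, (x : G)⁻¹ * (a x : R) ∈ A}
        one_mem' := fun x => by simp
        mul_mem' := fun {a b} ha hb x => by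
          rw [MulAut.mul_apply, show (x : G)⁻¹ * (a (b x) : R) =
            ((x : G)⁻¹ * (b x : R)) * (((b x : R) : G)⁻¹ * (a (b x) : R)) by group]
          exact mul_mem (hb x) (ha _)
        inv_mem' := fun {a} ha x => by
          have h := ha (a⁻¹ x)
          rw [MulAut.apply_inv_self] at h
          simpa using inv_mem h }
    have hle : (groupFusionSystem Y).autGroup R ≤ H := by
      refine FusionNormal.autGroup_le_of_sylow_pResidual (isFullyAutomized_iff.1
        (fullyAutomized_of_fullyNormalized hY.isPGroup (isSaturated_group T) hR)).2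
        (fun a ha x => ?_) fun a ha hac x => ?_
      · obtain ⟨y, hy, hye⟩ := mem_autInducedBy_iff.1 ha
        rw [hye, show (x : G)⁻¹ * (y * x * y⁻¹) = (x : G)⁻¹ * y * (x : G)⁻¹⁻¹ * y⁻¹ by group]
        exact hc _ (inv_mem (hR.1 x.2)) _ hy
      · rw [autGroup_group hR.1] at ha
        obtain ⟨g, -, hge⟩ := mem_autInducedBy_iff.1 ha
        obtain ⟨m, hm, hmp⟩ := FusionProduct.exists_pow_coprime_modEq g hac
        have hpow : ∀ (k : ℕ) (y : R), ((((a ^ k) y) : R) : G) = g ^ k * y * (g ^ k)⁻¹ := by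
          intro k
          induction k with
          | zero => intro y; simp
          | succ k ih =>
            intro y
            rw [pow_succ' a, MulAut.mul_apply, hge, ih, pow_succ']
            group
        have hgm : ∀ y : R, ((a y : R) : G) = g ^ m * y * (g ^ m)⁻¹ := fun y => by
          rw [← hpow, FusionProduct.pow_eq_self_of_modEq hm]
        have h := hcomm R hR.1 (g ^ m) hmp (fun q hq => hgm ⟨q, hq⟩ ▸ (a ⟨q, hq⟩).2) x x.2
        rw [← hgm] at h
        exact Subgroup.mem_sup_left h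
    have h := hle hα ⟨x, hx⟩
    rwa [← autFn_apply α hx] at h
  have hcong : ∀ (g : G), ∀ a ∈ Y, g * a * g⁻¹ ∈ Y → a⁻¹ * (g * a * g⁻¹) ∈ A := by
    intro g a ha hga
    refine key (Subgroup.zpowers a) (fun x => g * x * g⁻¹) (isMap_group_iff.2
      ⟨Subgroup.zpowers_le.2 ha, g, fun x hx => ⟨?_, rfl⟩⟩) a (Subgroup.mem_zpowers a)
    obtain ⟨k, rfl⟩ := Subgroup.mem_zpowers_iff.1 hx
    have e : g * a ^ k * g⁻¹ = (g * a * g⁻¹) ^ k := by
      rw [← MulAut.conj_apply, map_zpow, MulAut.conj_apply]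
    exact e ▸ Subgroup.zpow_mem _ hga k
  intro z hz
  refine FusionProduct.mem_of_transfer (p := p) Y A hY.isPGroup ?_ hAY hAn (fun x hx y hy => ?_)
    (fun g a ha hga => ?_) hz (fun g k hk => ?_) ?_
  · exact ((Fact.out : p.Prime).coprime_iff_not_dvd.2 T.not_dvd_index).symm
  · rw [show (y * x)⁻¹ * (x * y) = x⁻¹ * y⁻¹ * x⁻¹⁻¹ * y⁻¹⁻¹ by group]
    exact hc _ (inv_mem hx) _ (inv_mem hy)
  · have h := mul_mem ha (hcong g a (hAY ha) hga)
    rwa [mul_inv_cancel_left] at h
  · have h := hcong g⁻¹ (z ^ k) (pow_mem hz k) (by rwa [inv_inv])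
    rwa [inv_inv] at h
  · rw [hgen]
    exact Subgroup.mem_sup_left (Subgroup.mem_top z)

end Cfsg.Agent.FusionLayer
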