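import Cfsg.Agent.Lib.FusionLayer.MeetL2
import Cfsg.Agent.Lib.FusionLayer.MeetFocal

/-
The automizers of the meet of two normal subsystems over `R = T₁ ⊓ T₂`.
Main results (namespace `Cfsg.Agent.FusionLayer`): `RFN`, `Meet.A12_congr`, `Meet.sylow_BP`, `Meet.BP_normal`,
`Meet.exists_ext_coprime`.
-/

set_option autoImplicit false

namespace Cfsg.Agent.FusionLayer

open Cfsg Cfsg.Agent.Fusion Cfsg.Agent.FusionNormalCent
open Cfsg.FusionSystem hiding inv_mem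
open Cfsg.Agent.FusionCrit (autFn_mul autFn_inv_self autFn_self_inv)

variable {Ω : Type*} [Group Ω] {S T₁ T₂ : Subgroup Ω} {p : ℕ} {F : FusionSystem S}
  {E₁ : FusionSystem T₁} {E₂ : FusionSystem T₂}

/-- The normalizer in `R` has maximal order in the class. -/
def RFN (F : FusionSystem S) (R P : Subgroup Ω) : Prop :=
  P ≤ R ∧ ∀ Q : Subgroup Ω, F.IsConj P Q → Nat.card (normalizerIn R Q) ≤ Nat.card (normalizerIn R P)

theorem NP_le_A12 (P : Subgroup Ω) : NP p E₁ E₂ P ≤ A12 E₁ E₂ P :=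
  (Subgroup.closure_le _).2 fun _ h => h.1

theorem autR_le_A12 {P : Subgroup Ω} (hP : P ≤ T₁ ⊓ T₂) :
    autInducedBy (T₁ ⊓ T₂) P ≤ A12 E₁ E₂ P :=
  le_inf (autInducedBy_le_autGroup E₁ inf_le_left (hP.trans inf_le_left))
    (autInducedBy_le_autGroup E₂ inf_le_right (hP.trans inf_le_right))

theorem BP_le_A12 {P : Subgroup Ω} (hP : P ≤ T₁ ⊓ T₂) : BP p E₁ E₂ P ≤ A12 E₁ E₂ P :=
  sup_le (NP_le_A12 P) (autR_le_A12 hP)

/-- An element of order prime to `p` of `BP` lies in `NP`. -/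
theorem mem_NP_of_coprime {P : Subgroup Ω} (hP : P ≤ T₁ ⊓ T₂) {g : MulAut P} (hg : g ∈ BP p E₁ E₂ P)
    (hc : (orderOf g).Coprime p) : g ∈ NP p E₁ E₂ P :=
  Subgroup.subset_closure ⟨BP_le_A12 hP hg, hc⟩

namespace Meet

variable [Finite S] [Fact p.Prime] (h : Meet F p E₁ E₂)

include h

omit [Finite S] [Fact p.Prime] in
theorem i1 : E₁.IsInvariantIn F := h.n1.1.2.2

omit [Finite S] [Fact p.Prime] in
theorem i2 : E₂.IsInvariantIn F := h.n2.1.2.2

omit [Finite S] [Fact p.Prime] in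
theorem cR : F.StronglyClosed (T₁ ⊓ T₂) :=
  FusionInner.stronglyClosed_inf h.i1.2.1 h.i2.2.1

omit [Finite S] [Fact p.Prime] in
theorem R_le : T₁ ⊓ T₂ ≤ S := h.cR.1

omit [Finite S] [Fact p.Prime] in
theorem A12_le {P : Subgroup Ω} (hP : P ≤ T₁ ⊓ T₂) : A12 E₁ E₂ P ≤ F.autGroup P :=
  inf_le_left.trans (FusionNormal.autGroup_le_of_sub h.i1.1 (hP.trans inf_le_left))

omit [Finite S] [Fact p.Prime] in
theorem iso_le {P Q : Subgroup Ω} {f : Ω → Ω} (hf : IsIso F P Q f) (hP : P ≤ T₁ ⊓ T₂) :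
    Q ≤ T₁ ⊓ T₂ := fun y hy => by
  obtain ⟨x, hx, rfl⟩ := hf.exists_eq hy
  exact FusionChain.isMap_mem_of_stronglyClosed h.cR hf.1 hx (hP hx)

omit [Finite S] [Fact p.Prime] in
theorem A12_congr {P Q : Subgroup Ω} {f : Ω → Ω} (hf : IsIso F P Q f) (hP : P ≤ T₁ ⊓ T₂)
    {α : MulAut P} (hα : α ∈ A12 E₁ E₂ P) : MulAut.congr hf.equiv α ∈ A12 E₁ E₂ Q :=
  Subgroup.mem_inf.2 ⟨FusionNormal.congr_mem_autGroup h.i1 hf (hP.trans inf_le_left) hα.1,
    FusionNormal.congr_mem_autGroup h.i2 hf (hP.trans inf_le_right) hα.2⟩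

omit [Finite S] [Fact p.Prime] in
theorem A12_congr_iff {P Q : Subgroup Ω} {f : Ω → Ω} (hf : IsIso F P Q f) (hP : P ≤ T₁ ⊓ T₂)
    {α : MulAut P} : MulAut.congr hf.equiv α ∈ A12 E₁ E₂ Q ↔ α ∈ A12 E₁ E₂ P :=
  ⟨fun hα => Subgroup.mem_inf.2
      ⟨(FusionNormal.congr_mem_autGroup_iff h.i1 hf (hP.trans inf_le_left)).1 hα.1,
        (FusionNormal.congr_mem_autGroup_iff h.i2 hf (hP.trans inf_le_right)).1 hα.2⟩,
    h.A12_congr hf hP⟩

omit [Finite S] [Fact p.Prime] in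
theorem NP_congr {P Q : Subgroup Ω} {f : Ω → Ω} (hf : IsIso F P Q f) (hP : P ≤ T₁ ⊓ T₂) :
    (NP p E₁ E₂ P).map (MulAut.congr hf.equiv).toMonoidHom = NP p E₁ E₂ Q := by
  rw [NP, MonoidHom.map_closure, NP]
  congr 1
  ext β
  constructor
  · rintro ⟨α, ⟨hα, hc⟩, rfl⟩
    exact ⟨h.A12_congr hf hP hα, ((MulAut.congr hf.equiv).orderOf_eq α).symm ▸ hc⟩
  · rintro ⟨hβ, hc⟩
    obtain ⟨α, rfl⟩ := (MulAut.congr hf.equiv).surjective β
    exact ⟨α, ⟨(h.A12_congr_iff hf hP).1 hβ, (MulAut.congr hf.equiv).orderOf_eq α ▸ hc⟩, rfl⟩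

omit [Finite S] [Fact p.Prime] in
theorem A12_normal {P : Subgroup Ω} (hP : P ≤ T₁ ⊓ T₂) {g a : MulAut P} (hg : g ∈ F.autGroup P)
    (ha : a ∈ A12 E₁ E₂ P) : g * a * g⁻¹ ∈ A12 E₁ E₂ P :=
  Subgroup.mem_inf.2 ⟨FusionNormal.conj_mem_autGroup h.i1 (hP.trans inf_le_left) hg ha.1,
    FusionNormal.conj_mem_autGroup h.i2 (hP.trans inf_le_right) hg ha.2⟩

omit [Finite S] [Fact p.Prime] in
theorem NP_normal {P : Subgroup Ω} (hP : P ≤ T₁ ⊓ T₂) {g a : MulAut P} (hg : g ∈ F.autGroup P)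
    (ha : a ∈ NP p E₁ E₂ P) : g * a * g⁻¹ ∈ NP p E₁ E₂ P := by
  have hle : (NP p E₁ E₂ P).map (MulAut.conj g).toMonoidHom ≤ NP p E₁ E₂ P := by
    rw [NP, MonoidHom.map_closure, Subgroup.closure_le]
    rintro _ ⟨b, ⟨hb, hc⟩, rfl⟩
    exact Subgroup.subset_closure ⟨h.A12_normal hP hg hb, ((MulAut.conj g).orderOf_eq b).symm ▸ hc⟩
  exact hle ⟨a, ha, rfl⟩

theorem autS_inf_le {T : Subgroup Ω} {E : FusionSystem T} (hE : E.IsWeaklyNormalIn F p)
    {P : Subgroup Ω} (hP : P ≤ T) (hPn : F.IsFullyNormalized P) :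
    autInducedBy S P ⊓ E.autGroup P ≤ autInducedBy T P := by
  obtain ⟨hEs, -, hi⟩ := hE
  have hT : IsPGroup p T := h.pgroup.to_le hi.2.1.1
  have := finite_of_le (S := S) hi.2.1.1
  have hA := (isFullyAutomized_iff.1 (fullyAutomized_of_fullyNormalized hT hEs
    (fullyNormalized_sub h.pgroup h.sat hi hP hPn))).2
  exact (hA.2.2 _ (le_inf (autInducedBy_le_of_le hi.2.1.1) hA.le) inf_le_right
    (isPGroup_autInducedBy h.pgroup).to_inf_left).le

theorem sylow_NP {P : Subgroup Ω} (hP : P ≤ T₁ ⊓ T₂) (hPn : F.IsFullyNormalized P) :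
    IsSylowIn p (autInducedBy S P ⊓ NP p E₁ E₂ P) (NP p E₁ E₂ P) := by
  have := finite_mulAut (S := S) hPn.1
  exact (isFullyAutomized_iff.1 (fullyAutomized_of_fullyNormalized h.pgroup h.sat hPn)).2.inf_normal
    ((NP_le_A12 P).trans (h.A12_le hP)) fun g hg a ha => h.NP_normal hP hg ha

theorem autS_inf_NP_le {P : Subgroup Ω} (hP : P ≤ T₁ ⊓ T₂) (hPn : F.IsFullyNormalized P) :
    autInducedBy S P ⊓ NP p E₁ E₂ P ≤ autInducedBy (T₁ ⊓ T₂) P := by
  have := finite_mulAut (S := S) hPn.1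
  set N := NP p E₁ E₂ P with hN
  set Y := (autInducedBy S P).subgroupOf N
  set X := (autInducedBy (T₁ ⊓ T₂) P).subgroupOf N
  have hY : IsSylowIn p Y (⊤ : Subgroup N) := by
    have h1 := (h.sylow_NP hP hPn).subgroupOf (W := N) le_rfl
    rwa [Subgroup.inf_subgroupOf_right, Subgroup.subgroupOf_self] at h1
  have hRn : ∀ y ∈ Y, ∀ x ∈ X, y * x * y⁻¹ ∈ X := by
    intro y hy x hx
    obtain ⟨s, hs, hse⟩ := mem_autInducedBy_iff.1 (hy : (y : MulAut P) ∈ autInducedBy S P)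
    obtain ⟨r, hr, hre⟩ := mem_autInducedBy_iff.1 (hx : (x : MulAut P) ∈ autInducedBy (T₁ ⊓ T₂) P)
    refine mem_autInducedBy_iff.2 ⟨s * r * s⁻¹, FusionChain.conj_mem_of_stronglyClosed h.cR hs hr,
      fun z => ?_⟩
    obtain ⟨w, rfl⟩ := (y : MulAut P).surjective z
    simp only [Subgroup.subtype_apply] at hse hre
    show ((((y : MulAut P) * (x : MulAut P) * (y : MulAut P)⁻¹) ((y : MulAut P) w) : P) : Ω) = _
    rw [MulAut.mul_apply, MulAut.mul_apply, MulAut.inv_apply_self, hse, hre, hse]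
    group
  have hgen : Subgroup.closure {g : N | (orderOf g).Coprime p} = ⊤ := by
    refine Subgroup.map_injective N.subtype_injective ?_
    rw [MonoidHom.map_closure, ← MonoidHom.range_eq_map, Subgroup.range_subtype, hN, NP]
    congr 1
    ext a
    constructor
    · rintro ⟨g, hg, rfl⟩
      exact ⟨NP_le_A12 P g.2, by simpa [Subgroup.orderOf_coe] using hg⟩
    · rintro ⟨ha, hc⟩
      refine ⟨⟨a, Subgroup.subset_closure ⟨ha, hc⟩⟩, ?_, rfl⟩
      show (orderOf (⟨a, _⟩ : N)).Coprime p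
      rwa [← Subgroup.orderOf_coe]
  have hmain : Y ≤ X := by
    refine sylow_le_of_coprime_comm hY (fun x hx => autInducedBy_le_of_le h.R_le hx) hRn hgen
      fun Q hQ n hn hnQ q hq => ?_
    have hT : ∀ r : N, r ∈ Y → (r : MulAut P) ∈ autInducedBy T₁ P ∧ (r : MulAut P) ∈ autInducedBy T₂ P :=
      fun r hr => ⟨h.autS_inf_le h.n1.1 (hP.trans inf_le_left) hPn
          (Subgroup.mem_inf.2 ⟨hr, (NP_le_A12 P r.2).1⟩),
        h.autS_inf_le h.n2.1 (hP.trans inf_le_right) hPn (Subgroup.mem_inf.2 ⟨hr, (NP_le_A12 P r.2).2⟩)⟩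
    obtain ⟨t, ht, hte⟩ := mem_autInducedBy_iff.1 (hT q (hQ hq)).2
    have htS : t ∈ S := h.i2.2.1.1 ht
    have htN : t ∈ normalizerIn S P := mem_normalizerIn_of_aut htS hte
    have e : normConj S P ⟨t, htN⟩ = (q : MulAut P) :=
      MulEquiv.ext fun x => Subtype.ext (hte x).symm
    have key := comm_mem h.pgroup h.sat h.n1 h.i2.2.1 (hP.trans inf_le_left) hPn (NP_le_A12 P n.2).1
      (by rwa [Subgroup.orderOf_coe]) (Q := Q.map N.subtype)
      (by rintro _ ⟨r, hr, rfl⟩; exact (hT r (hQ hr)).1)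
      (by rintro _ ⟨r, hr, rfl⟩; exact ⟨n * r * n⁻¹, hnQ r hr, rfl⟩) ht htN ⟨q, hq, e.symm⟩
    rw [e] at key
    exact key
  intro a ha
  exact hmain (show (⟨a, ha.2⟩ : N) ∈ Y from ha.1)

theorem sylow_BP_fn {P : Subgroup Ω} (hP : P ≤ T₁ ⊓ T₂) (hPn : F.IsFullyNormalized P) :
    IsSylowIn p (autInducedBy (T₁ ⊓ T₂) P) (BP p E₁ E₂ P) := by
  have := finite_mulAut (S := S) hPn.1
  have hRS : autInducedBy (T₁ ⊓ T₂) P ≤ autInducedBy S P := autInducedBy_le_of_le h.R_le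
  refine ⟨le_sup_right, (isPGroup_autInducedBy h.pgroup).to_le hRS,
    fun C hle hC hCp => le_antisymm (fun c hc => ?_) hle⟩
  have hnorm : autInducedBy (T₁ ⊓ T₂) P ≤
      Subgroup.normalizer (NP p E₁ E₂ P : Set (MulAut P)) := fun r hr => by
    have hrF := autInducedBy_le_autGroup F h.R_le hPn.1 hr
    exact Subgroup.mem_normalizer_iff.2 fun a => ⟨fun ha => h.NP_normal hP hrF ha,
      fun ha => by simpa [mul_assoc] using h.NP_normal hP (inv_mem hrF) ha⟩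
  obtain ⟨n, hn, r, hr, rfl⟩ : ∃ n ∈ NP p E₁ E₂ P, ∃ r ∈ autInducedBy (T₁ ⊓ T₂) P, n * r = c := by
    have := hC hc
    rw [BP, ← SetLike.mem_coe, Subgroup.coe_mul_of_right_le_normalizer_left _ _ hnorm] at this
    exact this
  have hnC : n ∈ C := by simpa using mul_mem hc (inv_mem (hle hr))
  have h1 := (h.sylow_NP hP hPn).2.2 (C ⊓ NP p E₁ E₂ P)
    (fun x hx => Subgroup.mem_inf.2 ⟨hle (h.autS_inf_NP_le hP hPn hx), hx.2⟩) inf_le_right hCp.to_inf_left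
  exact mul_mem (h.autS_inf_NP_le hP hPn (h1 ▸ Subgroup.mem_inf.2 ⟨hnC, hn⟩)) hr

theorem BP_normal_fn {P : Subgroup Ω} (hP : P ≤ T₁ ⊓ T₂) (hPn : F.IsFullyNormalized P)
    {g b : MulAut P} (hg : g ∈ F.autGroup P) (hb : b ∈ BP p E₁ E₂ P) :
    g * b * g⁻¹ ∈ BP p E₁ E₂ P := by
  have := finite_mulAut (S := S) hPn.1
  have := finite_of_le hPn.1
  set A := A12 E₁ E₂ P
  have hSyl : IsSylowIn p (autInducedBy S P ⊓ A) A :=
    (isFullyAutomized_iff.1 (fullyAutomized_of_fullyNormalized h.pgroup h.sat hPn)).2.inf_normal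
      (h.A12_le hP) fun g hg a ha => h.A12_normal hP hg ha
  set Z := autInducedBy S P ⊓ A
  -- Frattini
  have hle : Z.map (MulAut.conj g).toMonoidHom ≤ A := by
    rintro _ ⟨z, hz, rfl⟩
    exact h.A12_normal hP hg hz.2
  obtain ⟨a, ha, haZ⟩ := hSyl.exists_conj_le (hSyl.isPGroup.map _) hle
  have hagZ : ∀ z ∈ Z, a * g * z * (a * g)⁻¹ ∈ Z := fun z hz => by
    have := haZ _ ⟨z, hz, rfl⟩
    simpa [mul_assoc] using this
  have hagF : a * g ∈ F.autGroup P := mul_mem (h.A12_le hP ha) hg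
  -- `a * g` normalises `Aut_R(P)`
  obtain ⟨f, hf, hfe, hfN⟩ := FusionChain.exists_extension_NK
    (receptive_of_fullyNormalized h.pgroup h.sat hPn) hagF A fun k hk => hagZ k hk
  have hag : ∀ r ∈ autInducedBy (T₁ ⊓ T₂) P, a * g * r * (a * g)⁻¹ ∈ autInducedBy (T₁ ⊓ T₂) P := by
    intro r hr
    set c := a * g with hc
    obtain ⟨s, hs, hse⟩ := mem_autInducedBy_iff.1 hr
    have hsS := h.R_le hs
    have hsK : s ∈ NK S P A := mem_NK.2 ⟨hsS, r, autR_le_A12 hP hr, hse⟩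
    refine mem_autInducedBy_iff.2 ⟨f s,
      FusionChain.isMap_mem_of_stronglyClosed h.cR hf (Subgroup.mem_sup_right hsK) hs, fun z => ?_⟩
    obtain ⟨w, rfl⟩ := c.surjective z
    rw [MulAut.mul_apply, MulAut.mul_apply, MulAut.inv_apply_self,
      ← autFn_apply c (r w).2, ← hfe _ (r w).2, hse,
      hf.map_conj (Subgroup.mem_sup_right hsK) (Subgroup.mem_sup_left w.2), hfe _ w.2,
      autFn_apply _ w.2]
  have h1 : ∀ b ∈ BP p E₁ E₂ P, a * g * b * (a * g)⁻¹ ∈ BP p E₁ E₂ P := by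
    have hle : (BP p E₁ E₂ P).map (MulAut.conj (a * g)).toMonoidHom ≤ BP p E₁ E₂ P := by
      rw [BP, Subgroup.map_sup]
      refine sup_le ?_ ?_
      · rintro _ ⟨x, hx, rfl⟩
        exact Subgroup.mem_sup_left (h.NP_normal hP hagF hx)
      · rintro _ ⟨x, hx, rfl⟩
        exact Subgroup.mem_sup_right (hag x hx)
    exact fun b hb => hle ⟨b, hb, rfl⟩
  -- `A` normalises `BP`
  have h2 : A ≤ Subgroup.normalizer (BP p E₁ E₂ P : Set (MulAut P)) := by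
    refine FusionNormal.autGroup_le_of_sylow_pResidual hSyl (fun z hz => ?_) fun n hn hc =>
      Subgroup.le_normalizer (Subgroup.mem_sup_left (Subgroup.subset_closure ⟨hn, hc⟩))
    refine Subgroup.mem_normalizer_fintype fun b hb => ?_
    have hzF := h.A12_le hP hz.2
    have hle : (BP p E₁ E₂ P).map (MulAut.conj z).toMonoidHom ≤ BP p E₁ E₂ P := by
      rw [BP, Subgroup.map_sup]
      refine sup_le ?_ ?_
      · rintro _ ⟨x, hx, rfl⟩
        exact Subgroup.mem_sup_left (h.NP_normal hP hzF hx)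
      · rintro _ ⟨x, hx, rfl⟩
        obtain ⟨s, hs, hse⟩ := mem_autInducedBy_iff.1 hz.1
        obtain ⟨r, hr, hre⟩ := mem_autInducedBy_iff.1 hx
        refine Subgroup.mem_sup_right (mem_autInducedBy_iff.2 ⟨s * r * s⁻¹,
          FusionChain.conj_mem_of_stronglyClosed h.cR hs hr, fun y => ?_⟩)
        obtain ⟨w, rfl⟩ := z.surjective y
        show (((z * x * z⁻¹) (z w) : P) : Ω) = _
        rw [MulAut.mul_apply, MulAut.mul_apply, MulAut.inv_apply_self, hse, hre, hse]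
        group
    exact hle ⟨b, hb, rfl⟩
  have h3 := (Subgroup.mem_normalizer_iff.1 (h2 (inv_mem ha)) _).1 (h1 b hb)
  simpa [mul_assoc] using h3

theorem rfn_of_fn {P : Subgroup Ω} (hP : P ≤ T₁ ⊓ T₂) (hPn : F.IsFullyNormalized P) :
    RFN F (T₁ ⊓ T₂) P := by
  refine ⟨hP, fun Q hQ => ?_⟩
  obtain ⟨f, hf, -, hfN⟩ := exists_normalizer_map h.pgroup
    (fullyAutomized_of_fullyNormalized h.pgroup h.sat hPn)
    (receptive_of_fullyNormalized h.pgroup h.sat hPn) (isConj_symm hQ)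
  have hle : normalizerIn (T₁ ⊓ T₂) Q ≤ normalizerIn S Q := inf_le_inf_right _ h.R_le
  rw [← hf.card_img hle]
  have := finite_of_le (S := S) (P := normalizerIn (T₁ ⊓ T₂) P) (inf_le_left.trans h.R_le)
  exact Subgroup.card_le_of_le (hf.img_le hle fun x hx =>
    ⟨FusionChain.isMap_mem_of_stronglyClosed h.cR hf (hle hx) hx.1, (hfN x (hle hx)).2⟩)

/-- A member with maximal normalizer in `R` is carried onto a fully normalised one, the normalizers in `R`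
correspond. -/
theorem exists_bij {P : Subgroup Ω} (hP : RFN F (T₁ ⊓ T₂) P) :
    ∃ P₀ u, F.IsFullyNormalized P₀ ∧ P₀ ≤ T₁ ⊓ T₂ ∧ IsMap F (normalizerIn S P) u ∧ img u P = P₀ ∧
      img u (normalizerIn (T₁ ⊓ T₂) P) = normalizerIn (T₁ ⊓ T₂) P₀ := by
  have hPS := hP.1.trans h.R_le
  obtain ⟨P₀, u, hP₀, hu, huP, huN⟩ := exists_fullyNormalized_map h.pgroup h.sat hPS
  have hiso : IsIso F P P₀ u := ⟨hu.mono (le_normalizerIn hPS), huP⟩
  have hP₀R := h.iso_le hiso hP.1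
  have hle : normalizerIn (T₁ ⊓ T₂) P ≤ normalizerIn S P := inf_le_inf_right _ h.R_le
  refine ⟨P₀, u, hP₀, hP₀R, hu, huP, eq_of_le_of_card (inf_le_left.trans h.R_le)
    (hu.img_le hle fun x hx => ⟨FusionChain.isMap_mem_of_stronglyClosed h.cR hu (hle hx) hx.1,
      (huN x (hle hx)).2⟩) ?_⟩
  rw [hu.card_img hle]
  exact hP.2 P₀ (isConj_iff.2 ⟨u, hiso⟩)

omit [Finite S] [Fact p.Prime] in
theorem BP_congr {P P₀ : Subgroup Ω} {u : Ω → Ω} (hu : IsMap F (normalizerIn S P) u)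
    (hiso : IsIso F P P₀ u) (hP : P ≤ T₁ ⊓ T₂)
    (hb : img u (normalizerIn (T₁ ⊓ T₂) P) = normalizerIn (T₁ ⊓ T₂) P₀) :
    (autInducedBy (T₁ ⊓ T₂) P).map (MulAut.congr hiso.equiv).toMonoidHom =
        autInducedBy (T₁ ⊓ T₂) P₀ ∧
      (BP p E₁ E₂ P).map (MulAut.congr hiso.equiv).toMonoidHom = BP p E₁ E₂ P₀ := by
  have hle : normalizerIn (T₁ ⊓ T₂) P ≤ normalizerIn S P := inf_le_inf_right _ h.R_le
  have hPN : P ≤ normalizerIn S P := le_normalizerIn hiso.le_left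
  have e : (autInducedBy (T₁ ⊓ T₂) P).map (MulAut.congr hiso.equiv).toMonoidHom =
      autInducedBy (T₁ ⊓ T₂) P₀ := by
    ext β
    constructor
    · rintro ⟨α, hα, rfl⟩
      obtain ⟨r, hr, hre⟩ := mem_autInducedBy_iff.1 hα
      have hrN : r ∈ normalizerIn (T₁ ⊓ T₂) P := mem_normalizerIn_of_aut hr hre
      refine mem_autInducedBy_iff.2 ⟨u r, (hb.le (hu.mem_img hrN)).1, fun y => ?_⟩
      obtain ⟨x, rfl⟩ := hiso.equiv.surjective y
      show ((MulAut.congr hiso.equiv α (hiso.equiv x) : P₀) : Ω) = _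
      rw [congr_apply_coe, hre, IsIso.equiv_apply, hu.map_conj (hle hrN) (hPN x.2)]
    · intro hβ
      obtain ⟨r₀, hr₀, hre⟩ := mem_autInducedBy_iff.1 hβ
      have hr₀N : r₀ ∈ normalizerIn (T₁ ⊓ T₂) P₀ := mem_normalizerIn_of_aut hr₀ hre
      obtain ⟨r, hr, rfl⟩ := (hu.mem_img_iff hle).1 (hb.ge hr₀N)
      refine ⟨normConj (T₁ ⊓ T₂) P ⟨r, hr⟩, (range_normConj _ P).le ⟨_, rfl⟩, MulEquiv.ext fun y => ?_⟩
      obtain ⟨x, rfl⟩ := hiso.equiv.surjective y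
      refine Subtype.ext ?_
      show ((MulAut.congr hiso.equiv _ (hiso.equiv x) : P₀) : Ω) = _
      rw [congr_apply_coe, normConj_apply, hre, IsIso.equiv_apply, hu.map_conj (hle hr) (hPN x.2)]
  exact ⟨e, by rw [BP, Subgroup.map_sup, h.NP_congr hiso hP, e, BP]⟩

theorem sylow_BP {P : Subgroup Ω} (hP : RFN F (T₁ ⊓ T₂) P) :
    IsSylowIn p (autInducedBy (T₁ ⊓ T₂) P) (BP p E₁ E₂ P) := by
  obtain ⟨P₀, u, hP₀, hP₀R, hu, huP, hb⟩ := h.exists_bij hP
  have hiso : IsIso F P P₀ u := ⟨hu.mono (le_normalizerIn (hP.1.trans h.R_le)), huP⟩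
  obtain ⟨e1, e2⟩ := h.BP_congr hu hiso hP.1 hb
  have h1 := h.sylow_BP_fn hP₀R hP₀
  rw [← e1, ← e2] at h1
  refine ⟨le_sup_right, (isPGroup_autInducedBy h.pgroup).to_le (autInducedBy_le_of_le h.R_le),
    fun C hle hC hCp => ?_⟩
  exact Subgroup.map_injective (MulAut.congr hiso.equiv).injective
    (h1.2.2 _ (Subgroup.map_mono hle) (Subgroup.map_mono hC) (hCp.map _))

theorem BP_normal {P : Subgroup Ω} (hP : RFN F (T₁ ⊓ T₂) P) {g b : MulAut P} (hg : g ∈ F.autGroup P)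
    (hb : b ∈ BP p E₁ E₂ P) : g * b * g⁻¹ ∈ BP p E₁ E₂ P := by
  obtain ⟨P₀, u, hP₀, hP₀R, hu, huP, hbij⟩ := h.exists_bij hP
  have hiso : IsIso F P P₀ u := ⟨hu.mono (le_normalizerIn (hP.1.trans h.R_le)), huP⟩
  obtain ⟨-, e2⟩ := h.BP_congr hu hiso hP.1 hbij
  have h1 := h.BP_normal_fn hP₀R hP₀ (Fusion.congr_mem_autGroup hiso hg)
    (e2.le ⟨b, hb, rfl⟩ : MulAut.congr hiso.equiv b ∈ BP p E₁ E₂ P₀)
  rw [← e2] at h1
  obtain ⟨c, hc, e⟩ := h1
  have : c = g * b * g⁻¹ := (MulAut.congr hiso.equiv).injective (by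
    rw [map_mul, map_mul, map_inv]
    exact e)
  exact this ▸ hc

/-- An automorphism of order prime to `p` normalising a group of conjugations from `R` extends inside both
subsystems, for a fully normalised subgroup containing its centralizer in `R`. -/
theorem exists_ext_coprime_fn {P : Subgroup Ω} (hP : P ≤ T₁ ⊓ T₂) (hPn : F.IsFullyNormalized P)
    (hC : centralizerIn (T₁ ⊓ T₂) P ≤ P) {n : MulAut P} (hn : n ∈ A12 E₁ E₂ P)
    (hnp : (orderOf n).Coprime p) {Z : Subgroup (MulAut P)} (hZ : Z ≤ autInducedBy (T₁ ⊓ T₂) P)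
    (hnZ : ∀ z ∈ Z, n * z * n⁻¹ ∈ Z) :
    ∃ a ∈ A12 E₁ E₂ (P ⊔ NK (T₁ ⊓ T₂) P Z), (orderOf a).Coprime p ∧
      ∀ x ∈ P, autFn a x = autFn n x := by
  set R := T₁ ⊓ T₂ with hR
  set M := P ⊔ NK R P Z with hM
  have hMN : M ≤ normalizerIn R P := sup_le (le_normalizerIn hP) (NK_le_normalizerIn R P Z)
  have hMR : M ≤ R := hMN.trans inf_le_left
  have hMS : M ≤ S := hMR.trans h.R_le
  have := finite_mulAut (S := S) hMS
  have := finite_of_le (S := S) hMS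
  have := finite_of_le hPn.1
  have hPM : P ≤ M := le_sup_left
  -- the two extensions
  have hone : ∀ {T : Subgroup Ω} {E : FusionSystem T}, E.IsWeaklyNormalIn F p → R ≤ T →
      n ∈ E.autGroup P → ∃ a ∈ E.autGroup M, (orderOf a).Coprime p ∧ ∀ x ∈ P, autFn a x = autFn n x := by
    intro T E hE hRT hnE
    obtain ⟨hEs, -, hi⟩ := hE
    have hTS : T ≤ S := hi.2.1.1
    have := finite_of_le hTS
    have hT : IsPGroup p T := h.pgroup.to_le hTS
    have hrec := receptive_of_fullyNormalized hT hEs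
      (fullyNormalized_sub h.pgroup h.sat hi (hP.trans hRT) hPn)
    have hK : NK R P Z ≤ normalizerIn T P :=
      (NK_le_normalizerIn R P Z).trans (inf_le_inf_right _ hRT)
    have hmem : ∀ g (hg : g ∈ NK R P Z), normConj T P ⟨g, hK hg⟩ ∈ Z := fun g hg => by
      obtain ⟨-, α, hα, hge⟩ := mem_NK.1 hg
      convert hα using 1
      exact MulEquiv.ext fun x => Subtype.ext (hge x).symm
    obtain ⟨f, hf, hfe⟩ := FusionChain.exists_extension hrec hnE hK fun g hg =>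
      autInducedBy_le_of_le hRT (hZ (hnZ _ (hmem g hg)))
    have hfF := FusionNormal.isMap_of_sub hi.1 hf
    have hfM : IsIso E M M f := by
      refine ⟨hf, eq_of_le_of_card (hMR.trans hRT) (hf.img_le le_rfl fun x hx => ?_) (hf.card_img le_rfl).ge⟩
      refine hf.forall_mem_sup le_sup_left le_sup_right
        (fun y hy => hPM (hfe y hy ▸ autFn_mem n hy)) (fun y hy => Subgroup.mem_sup_right ?_) hx
      have hyR : f y ∈ R := FusionChain.isMap_mem_of_stronglyClosed h.cR hfF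
        (Subgroup.mem_sup_right hy) (NK_le R P Z hy)
      refine mem_NK.2 ⟨hyR, _, hnZ _ (hmem y hy), fun z => ?_⟩
      obtain ⟨w, rfl⟩ := n.surjective z
      rw [MulAut.mul_apply, MulAut.mul_apply, MulAut.inv_apply_self,
        ← autFn_apply n (normConj T P ⟨y, hK hy⟩ w).2, ← hfe _ (normConj T P ⟨y, hK hy⟩ w).2,
        normConj_apply, hf.map_conj (Subgroup.mem_sup_right hy) (Subgroup.mem_sup_left w.2),
        hfe _ w.2, autFn_apply _ w.2]
    obtain ⟨β, hβ, hβe⟩ := exists_aut_of_isIso hfM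
    obtain ⟨m, hm, hmp⟩ := FusionProduct.exists_pow_coprime_modEq β hnp
    refine ⟨β ^ m, pow_mem hβ m, hmp, fun x hx => ?_⟩
    rw [autFn_apply _ (hPM hx), FusionProduct.pow_restrict hPM (b := n)
      (fun r hr => by rw [hβe]; exact (hfe r hr).trans (autFn_apply n hr)) m x hx,
      FusionProduct.pow_eq_self_of_modEq hm, autFn_apply n hx]
  obtain ⟨a₁, ha₁, -, he₁⟩ := hone h.n1.1 inf_le_left hn.1
  obtain ⟨a₂, ha₂, hc₂, he₂⟩ := hone h.n2.1 inf_le_right hn.2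
  refine ⟨a₂, Subgroup.mem_inf.2 ⟨?_, ha₂⟩, hc₂, he₂⟩
  have hPn' : ∀ x ∈ M, ∀ w ∈ P, x * w * x⁻¹ ∈ P := fun x hx w hw => normalizerIn_conj (hMN hx) hw
  set K := FusionProduct.stabilizing M P hPn' ⊓ F.autGroup M
  have hMT₁ : M ≤ T₁ := hMR.trans inf_le_left
  have ha₁F := FusionNormal.autGroup_le_of_sub h.i1.1 hMT₁ ha₁
  have ha₂F := FusionNormal.autGroup_le_of_sub h.i2.1 (hMR.trans inf_le_right) ha₂
  have hκ : a₁⁻¹ * a₂ ∈ K := by
    have hfix : ∀ x ∈ P, autFn (a₁⁻¹ * a₂) x = x := fun x hx => by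
      rw [autFn_mul _ _ (hPM hx), he₂ x hx, ← he₁ x hx, autFn_inv_self _ (hPM hx)]
    refine Subgroup.mem_inf.2 ⟨⟨fun x hx => Subtype.ext ?_, fun x => ?_⟩, mul_mem (inv_mem ha₁F) ha₂F⟩
    · rw [← autFn_apply _ x.2]
      exact hfix x hx
    · rw [← autFn_apply _ x.2]
      exact mod_of_fix (T := R) ((mem_autGroup_iff hMS).1 (mul_mem (inv_mem ha₁F) ha₂F)) hPM hMR
        (hMN.trans (inf_le_inf_right _ h.R_le)) hC (fun y hy => autFn_mem _ hy) hfix x x.2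
  refine mem_of_coprime_sup (K := K)
    ((FusionProduct.isPGroup_stabilizing (h.pgroup.to_le hMS)).to_le inf_le_left)
    (fun k hk a ha => FusionNormal.conj_mem_autGroup h.i1 hMT₁ hk.2 ha) ?_ hc₂
  simpa using mul_mem (Subgroup.mem_sup_left ha₁ : a₁ ∈ E₁.autGroup M ⊔ K) (Subgroup.mem_sup_right hκ)

/-- The extension lemma for a member with maximal normalizer in `R`. -/
theorem exists_ext_coprime {P : Subgroup Ω} (hP : RFN F (T₁ ⊓ T₂) P)
    (hC : centralizerIn (T₁ ⊓ T₂) P ≤ P) {n : MulAut P} (hn : n ∈ A12 E₁ E₂ P)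
    (hnp : (orderOf n).Coprime p) {Z : Subgroup (MulAut P)} (hZ : Z ≤ autInducedBy (T₁ ⊓ T₂) P)
    (hnZ : ∀ z ∈ Z, n * z * n⁻¹ ∈ Z) :
    ∃ a ∈ A12 E₁ E₂ (P ⊔ NK (T₁ ⊓ T₂) P Z), (orderOf a).Coprime p ∧
      ∀ x ∈ P, autFn a x = autFn n x := by
  set R := T₁ ⊓ T₂ with hR
  obtain ⟨P₀, u, hP₀, hP₀R, hu, huP, hb⟩ := h.exists_bij hP
  have hPN : P ≤ normalizerIn S P := le_normalizerIn (hP.1.trans h.R_le)
  have hiso : IsIso F P P₀ u := ⟨hu.mono hPN, huP⟩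
  obtain ⟨e1, -⟩ := h.BP_congr hu hiso hP.1 hb
  have hle : normalizerIn R P ≤ normalizerIn S P := inf_le_inf_right _ h.R_le
  set M := P ⊔ NK R P Z
  have hMR : M ≤ normalizerIn R P := sup_le (le_normalizerIn hP.1) (NK_le_normalizerIn R P Z)
  have hC₀ : centralizerIn R P₀ ≤ P₀ := fun c hc => by
    obtain ⟨y, hy, rfl⟩ := (hu.mem_img_iff hle).1 (hb.ge (centralizerIn_le_normalizerIn R P₀ hc))
    refine huP ▸ hu.mem_img (hC (mem_centralizerIn_of_conj hy.1 fun x hx => ?_))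
    refine hu.inj (hPN (normalizerIn_conj hy hx)) (hPN hx) ?_
    rw [hu.map_conj (hle hy) (hPN hx)]
    exact centralizerIn_conj hc (huP ▸ hu.mem_img hx)
  set Z₀ := Z.map (MulAut.congr hiso.equiv).toMonoidHom
  set M₀ := P₀ ⊔ NK R P₀ Z₀ with hM₀def
  obtain ⟨a₀, ha₀, hc₀, he₀⟩ := h.exists_ext_coprime_fn hP₀R hP₀ hC₀ (h.A12_congr hiso hP.1 hn)
    (((MulAut.congr hiso.equiv).orderOf_eq n).symm ▸ hnp) (Z := Z₀)
    (fun z hz => by
      obtain ⟨z', hz', rfl⟩ := hz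
      exact e1.le ⟨z', hZ hz', rfl⟩)
    (by
      rintro _ ⟨z', hz', rfl⟩
      exact ⟨n * z' * n⁻¹, hnZ z' hz', by simp only [MulEquiv.coe_toMonoidHom, map_mul, map_inv]⟩)
  have hM₀R : M₀ ≤ normalizerIn R P₀ := sup_le (le_normalizerIn hP₀R) (NK_le_normalizerIn R P₀ Z₀)
  have hM : IsIso F M M₀ u := by
    refine ⟨hu.mono (hMR.trans hle), le_antisymm ?_ ?_⟩
    · exact hu.img_le (hMR.trans hle) fun x hx =>
        (hu.mono (hMR.trans hle)).forall_mem_sup le_sup_left le_sup_right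
        (fun y hy => Subgroup.mem_sup_left (huP ▸ hu.mem_img hy)) (fun y hy => by
          obtain ⟨hyR, α, hα, hye⟩ := mem_NK.1 hy
          have hyN := NK_le_normalizerIn R P Z hy
          refine Subgroup.mem_sup_right (mem_NK.2 ⟨(hb.le (hu.mem_img hyN)).1, _, ⟨α, hα, rfl⟩, fun w => ?_⟩)
          obtain ⟨v, rfl⟩ := hiso.equiv.surjective w
          show ((MulAut.congr hiso.equiv α (hiso.equiv v) : P₀) : Ω) = _
          rw [congr_apply_coe, hye, IsIso.equiv_apply, hu.map_conj (hle hyN) (hPN v.2)]) hx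
    · refine sup_le (huP ▸ hu.img_le hPN fun x hx => hu.mem_img (Subgroup.mem_sup_left hx)) fun y hy => ?_
      obtain ⟨hyR, _, ⟨α, hα, rfl⟩, hye⟩ := mem_NK.1 hy
      obtain ⟨s, hs, rfl⟩ := (hu.mem_img_iff hle).1 (hb.ge (NK_le_normalizerIn R P₀ Z₀ hy))
      refine hu.mem_img (Subgroup.mem_sup_right (mem_NK.2 ⟨hs.1, α, hα, fun x => ?_⟩))
      refine hu.inj (hPN (α x).2) (hPN (normalizerIn_conj hs x.2)) ?_
      rw [hu.map_conj (hle hs) (hPN x.2)]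
      exact (congr_apply_coe hiso α x).symm.trans (hye (hiso.equiv x))
  obtain ⟨a, rfl⟩ := (MulAut.congr hM.equiv).surjective a₀
  have hPM : P ≤ M := le_sup_left
  refine ⟨a, (h.A12_congr_iff hM (hMR.trans inf_le_left)).1 ha₀,
    (MulAut.congr hM.equiv).orderOf_eq a ▸ hc₀, fun x hx => ?_⟩
  refine hu.inj (hle (hMR (autFn_mem a (hPM hx)))) (hPN (autFn_mem n hx)) ?_
  have h1 := he₀ _ (hiso.mem hx)
  rw [autFn_apply _ (hM.mem (hPM hx)), autFn_apply _ (hiso.mem hx)] at h1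
  rw [autFn_apply a (hPM hx), autFn_apply n hx]
  exact (congr_apply_coe hM a ⟨x, hPM hx⟩).symm.trans (h1.trans (congr_apply_coe hiso n ⟨x, hx⟩))

end Meet

end Cfsg.Agent.FusionLayer
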