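import Cfsg.Agent.Lib.Fusion.SylowIn
import Cfsg.Agent.Lib.FusionNormal.Generation

/-
A group-theoretic criterion for a subgroup to be normalised.
Main result (namespace `Cfsg.Agent.FusionLayer`): `conj_mem_of_mod_pGroup`.
-/

set_option autoImplicit false

namespace Cfsg.Agent.FusionLayer

open Cfsg.Agent.Fusion

variable {M : Type*} [Group M] [Finite M] {p : ℕ} [Fact p.Prime]

/-- Elements of order prime to `p` of `A K`, `K` a `p`-group normalising `A`, lie in `A`. -/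
theorem mem_of_coprime_sup {A K : Subgroup M} (hK : IsPGroup p K)
    (hn : ∀ k ∈ K, ∀ a ∈ A, k * a * k⁻¹ ∈ A) {m : M} (hm : m ∈ A ⊔ K)
    (hc : (orderOf m).Coprime p) : m ∈ A := by
  have hle : K ≤ Subgroup.normalizer (A : Set M) := fun k hk => Subgroup.mem_normalizer_iff.2
    fun a => ⟨hn k hk a, fun h => by simpa [mul_assoc] using hn k⁻¹ (inv_mem hk) _ h⟩
  obtain ⟨a, ha, k, hk, rfl⟩ : ∃ a ∈ A, ∃ k ∈ K, a * k = m := by
    rw [← SetLike.mem_coe, Subgroup.coe_mul_of_right_le_normalizer_left _ _ hle] at hm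
    exact hm
  obtain ⟨e, he⟩ := hK ⟨k, hk⟩
  have hpow : ∀ j : ℕ, ∃ b ∈ A, (a * k) ^ j = b * k ^ j := by
    intro j
    induction j with
    | zero => exact ⟨1, one_mem A, by simp⟩
    | succ j ih =>
      obtain ⟨b, hb, e⟩ := ih
      refine ⟨b * (k ^ j * a * (k ^ j)⁻¹), mul_mem hb (hn _ (pow_mem hk j) a ha), ?_⟩
      rw [pow_succ, e, pow_succ]
      group
  obtain ⟨b, hb, e'⟩ := hpow (p ^ e)
  have hk1 : k ^ p ^ e = 1 := congrArg Subtype.val he
  rw [hk1, mul_one] at e'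
  have h := FusionNormal.pow_gcd_mem (H := A) (e' ▸ hb : (a * k) ^ p ^ e ∈ A) (pow_orderOf_eq_one _)
  rwa [Nat.gcd_comm, Nat.Coprime.gcd_eq_one (hc.pow_right e), pow_one] at h

/-- `A` is normalised by `G` when it is normal modulo a normal `p`-subgroup `K` and the conjugations
keeping a Sylow subgroup of `A` inside a given Sylow subgroup of `G` keep it inside `A`. -/
theorem conj_mem_of_mod_pGroup {G A K Sy X : Subgroup M} (hA : A ≤ G) (hKG : K ≤ G)
    (hSy : IsSylowIn p Sy G) (hKp : IsPGroup p K) (hKn : ∀ g ∈ G, ∀ k ∈ K, g * k * g⁻¹ ∈ K)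
    (hSyA : ∀ s ∈ Sy, ∀ a ∈ A, s * a * s⁻¹ ∈ A) (hX : IsSylowIn p X A) (hXS : X ≤ Sy)
    (hmod : ∀ g ∈ G, ∀ a ∈ A, g * a * g⁻¹ ∈ A ⊔ K)
    (hext : ∀ n ∈ G, (∀ x ∈ X, n * x * n⁻¹ ∈ Sy) → ∀ x ∈ X, n * x * n⁻¹ ∈ A)
    {g : M} (hg : g ∈ G) {a : M} (ha : a ∈ A) : g * a * g⁻¹ ∈ A := by
  have hKS : K ≤ Sy := fun k hk => by
    obtain ⟨c, hc, hcK⟩ := hSy.exists_conj_le hKp hKG
    have h := hcK _ (hKn c⁻¹ (inv_mem hc) k hk)
    simpa [mul_assoc] using h
  have hKA : ∀ k ∈ K, ∀ b ∈ A, k * b * k⁻¹ ∈ A := fun k hk => hSyA k (hKS hk)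
  set N := A ⊔ K with hN
  have hNG : N ≤ G := sup_le hA hKG
  have hNA : N ≤ Subgroup.normalizer (A : Set M) := sup_le Subgroup.le_normalizer fun k hk =>
    Subgroup.mem_normalizer_iff.2
      fun b => ⟨hKA k hk b, fun h => by simpa [mul_assoc] using hKA k⁻¹ (inv_mem hk) _ h⟩
  have hNn : ∀ x ∈ G, ∀ y ∈ N, x * y * x⁻¹ ∈ N := fun x hx => by
    have hle : N ≤ N.comap (MulAut.conj x).toMonoidHom :=
      sup_le (fun b hb => hmod x hx b hb) fun k hk => le_sup_right (a := A) (hKn x hx k hk)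
    exact fun y hy => hle hy
  have hY : IsSylowIn p (Sy ⊓ N) N := hSy.inf_normal hNG hNn
  let conjY : Subgroup M := (Sy ⊓ N).map (MulAut.conj g).toMonoidHom
  obtain ⟨m, hm, hmY⟩ := hY.exists_conj_le (H := conjY) (hY.isPGroup.map _) (by
    rintro _ ⟨y, hy, rfl⟩
    exact hNn g hg y hy.2)
  have hn : m * g ∈ G := mul_mem (hNG hm) hg
  have hnY : ∀ x ∈ X, m * g * x * (m * g)⁻¹ ∈ Sy := fun x hx => by
    have h := hmY (g * x * g⁻¹) ⟨x, ⟨hXS hx, le_sup_left (b := K) (hX.le hx)⟩, rfl⟩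
    rw [show m * g * x * (m * g)⁻¹ = m * (g * x * g⁻¹) * m⁻¹ by group]
    exact h.1
  have hle : A ≤ A.comap (MulAut.conj (m * g)).toMonoidHom := by
    refine FusionNormal.autGroup_le_of_sylow_pResidual hX (fun x hx => hext _ hn hnY x hx)
      fun b hb hc => ?_
    refine mem_of_coprime_sup hKp hKA (hNn _ hn b (le_sup_left (b := K) hb)) ?_
    exact ((MulAut.conj (m * g)).orderOf_eq b).symm ▸ hc
  have h1 : m * g * a * (m * g)⁻¹ ∈ A := hle ha
  have h2 := (Subgroup.mem_normalizer_iff.1 (hNA (inv_mem hm)) _).1 h1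
  simpa [mul_assoc] using h2

end Cfsg.Agent.FusionLayer
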