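import Cfsg.Agent.Lib.FusionLayer.MeetBasic
import Cfsg.Agent.Lib.FusionLayer.ProductAlgebra

/-
An automorphism of order prime to `p` in a normal subsystem commutes with conjugations by a second
strongly closed subgroup up to conjugations by the intersection.
Main results (namespace `Cfsg.Agent.FusionLayer`): `exists_good_lift`, `comm_mem`.
-/

set_option autoImplicit false

namespace Cfsg.Agent.FusionLayer

open Cfsg Cfsg.Agent.Fusion Cfsg.Agent.FusionNormalCent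
open Cfsg.FusionSystem hiding inv_mem
open Cfsg.Agent.FusionCrit (stab mem_stab restr restr_apply autFn_mul autFn_inv_self autFn_self_inv)

variable {Ω : Type*} [Group Ω] {S T₁ T₂ : Subgroup Ω} {p : ℕ}

/-- The automorphism on `P C_{T₁}(P)`: it carries the conjugations lifting `Q` to such conjugations, each moved
only by a conjugation from `T₁`. -/
theorem exists_good_lift [Finite S] [Fact p.Prime] (hS : IsPGroup p S) {F : FusionSystem S}
    (hF : F.IsSaturated p) {E₁ : FusionSystem T₁} (hE : E₁.IsNormalIn F p) {P : Subgroup Ω}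
    (hPT : P ≤ T₁) (hP : F.IsFullyNormalized P) {n : MulAut P} (hn : n ∈ E₁.autGroup P)
    (hnp : (orderOf n).Coprime p) {Q : Subgroup (MulAut P)} (hQ : Q ≤ autInducedBy T₁ P)
    (hQn : ∀ q ∈ Q, n * q * n⁻¹ ∈ Q) :
    ∃ a ∈ E₁.autGroup (Dom T₁ P), (orderOf a).Coprime p ∧ (∀ x ∈ P, autFn a x = autFn n x) ∧
      ∀ (s : Ω) (hs : s ∈ normalizerIn S P), normConj S P ⟨s, hs⟩ ∈ Q →
        ∃ (s' : Ω) (hs' : s' ∈ normalizerIn S P), normConj S P ⟨s', hs'⟩ ∈ Q ∧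
          ∃ t₁ ∈ T₁, ∀ x ∈ Dom T₁ P,
            autFn a (s * x * s⁻¹) = s' * autFn a x * s'⁻¹ ∧
              s' * x * s'⁻¹ = t₁ * (s * x * s⁻¹) * t₁⁻¹ := by
  have hEi := hE.1.2.2
  have hEs := hE.1.1
  have hTS : T₁ ≤ S := hEi.2.1.1
  have hTn : ∀ s ∈ S, ∀ t ∈ T₁, s * t * s⁻¹ ∈ T₁ := fun s hs t ht =>
    FusionChain.conj_mem_of_stronglyClosed hEi.2.1 hs ht
  have := finite_of_le hTS
  have hT : IsPGroup p T₁ := hS.to_le hTS
  have hPE : E₁.IsFullyNormalized P := fullyNormalized_sub hS hF hEi hPT hP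
  set W := Dom T₁ P with hWdef
  have hPW : P ≤ W := le_dom T₁ P
  have hWT : W ≤ T₁ := dom_le hPT
  have hWS : W ≤ S := hWT.trans hTS
  have := finite_mulAut (S := S) hWS
  have := finite_mulAut (S := S) hP.1
  obtain ⟨-, hSylF⟩ := stab_receptive hS hF hP hPW hWS fun g hg => cdom_normalized hTS hTn hPT hg
  obtain ⟨-, hSylE⟩ := stab_receptive hT hEs hPE hPW hWT fun g hg =>
    cdom_normalized (S := T₁) le_rfl (fun s hs t ht => T₁.mul_mem (T₁.mul_mem hs ht) (T₁.inv_mem hs))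
      hPT hg
  have hAF : E₁.autGroup W ≤ F.autGroup W := FusionNormal.autGroup_le_of_sub hEi.1 hWT
  obtain ⟨d, ⟨hd, hds⟩, hdn⟩ := exists_cdom_lift hT hEs hPE hn
  let M := stab W P
  let π : M →* MulAut P := restr hPW
  set G := (F.autGroup W).subgroupOf M
  set A := (E₁.autGroup W).subgroupOf M
  set Sy := (autInducedBy S W).subgroupOf M
  set K₁ := A ⊓ π.ker
  set C₂ := Sy ⊓ Q.comap π
  have hSy : IsSylowIn p Sy G := by
    have h := hSylF.subgroupOf (W := M) inf_le_right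
    rwa [Subgroup.inf_subgroupOf_right, Subgroup.inf_subgroupOf_right] at h
  have hAG : A ≤ G := fun x hx => hAF hx
  have hAn : ∀ g ∈ G, ∀ a ∈ A, g * a * g⁻¹ ∈ A := fun g hg a ha =>
    FusionNormal.conj_mem_autGroup hEi hWT (α := (g : MulAut W)) hg (β := (a : MulAut W)) ha
  have hK₁n : ∀ g ∈ G, ∀ k ∈ K₁, g * k * g⁻¹ ∈ K₁ := fun g hg k hk =>
    Subgroup.mem_inf.2 ⟨hAn g hg k hk.1, MonoidHom.mem_ker.2 (by
      rw [map_mul, map_mul, map_inv, MonoidHom.mem_ker.1 hk.2, mul_one, mul_inv_cancel])⟩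
  have hK₁S : IsSylowIn p (Sy ⊓ K₁) K₁ := hSy.inf_normal (inf_le_left.trans hAG) hK₁n
  have hC₂p : IsPGroup p C₂ := hSy.isPGroup.to_inf_left
  have hC₂G : C₂ ≤ G := inf_le_left.trans hSy.le
  -- conjugations on `P` lift to conjugations on `W`
  have hlift : ∀ (s : Ω) (hs : s ∈ normalizerIn S P), ∃ y : M, y ∈ Sy ∧ π y = normConj S P ⟨s, hs⟩ ∧
      (∀ x ∈ W, autFn (y : MulAut W) x = s * x * s⁻¹) ∧ (s ∈ T₁ → y ∈ A) := fun s hs => by
    have hsW := cdom_normalized hTS hTn hPT hs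
    refine ⟨⟨normConj S W ⟨s, hsW⟩, fun x => ?_⟩, (range_normConj S W).le ⟨_, rfl⟩,
      MulEquiv.ext fun x => Subtype.ext ?_, fun x hx => ?_, fun hsT => ?_⟩
    · rw [normConj_apply]
      exact ((mem_normalizerIn.1 hs).2 _).symm
    · rfl
    · rw [autFn_apply _ hx]
      rfl
    · exact autInducedBy_le_autGroup E₁ le_rfl hWT
        (mem_autInducedBy_iff.2 ⟨s, hsT, fun x => rfl⟩)
  have hA_C₂ : ∀ h ∈ A, π h ∈ Q → h ∈ K₁ ⊔ C₂ := by
    intro h hh hq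
    obtain ⟨t, ht, hte⟩ := mem_autInducedBy_iff.1 (hQ hq)
    have htN : t ∈ normalizerIn S P := mem_normalizerIn_of_aut (hTS ht) hte
    obtain ⟨y, hy, hyπ, -, hyA⟩ := hlift t htN
    have e : π y = π h := by
      rw [hyπ]
      exact MulEquiv.ext fun x => Subtype.ext (hte x).symm
    have hyC : y ∈ C₂ := Subgroup.mem_inf.2 ⟨hy, show π y ∈ Q from e.symm ▸ hq⟩
    have hk : h * y⁻¹ ∈ K₁ := Subgroup.mem_inf.2 ⟨mul_mem hh (inv_mem (hyA ht)),
      MonoidHom.mem_ker.2 (by rw [map_mul, map_inv, e, mul_inv_cancel])⟩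
    simpa using mul_mem (Subgroup.mem_sup_left hk : h * y⁻¹ ∈ K₁ ⊔ C₂) (Subgroup.mem_sup_right hyC)
  have hC₂norm : C₂ ≤ Subgroup.normalizer (K₁ : Set M) := fun c hc => Subgroup.mem_normalizer_iff.2
    fun k => ⟨hK₁n c (hC₂G hc) k, fun h => by
      simpa [mul_assoc] using hK₁n c⁻¹ (inv_mem (hC₂G hc)) _ h⟩
  have hmem : ∀ m ∈ K₁ ⊔ C₂, ∃ y ∈ C₂, ∃ k ∈ K₁, m = y * k := by
    intro m hm
    rw [← SetLike.mem_coe, Subgroup.coe_mul_of_right_le_normalizer_left _ _ hC₂norm] at hm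
    obtain ⟨k, hk, y, hy, rfl⟩ := hm
    refine ⟨y, hy, y⁻¹ * k * y, ?_, by group⟩
    simpa using hK₁n y⁻¹ (inv_mem (hC₂G hy)) k hk
  have hC₂S : IsSylowIn p C₂ (K₁ ⊔ C₂) := by
    refine ⟨le_sup_right, hC₂p, fun C hle hC hCp => le_antisymm (fun c hc => ?_) hle⟩
    obtain ⟨y, hy, k, hk, rfl⟩ := hmem c (hC hc)
    have hkC : k ∈ C := by simpa using mul_mem (inv_mem (hle hy)) hc
    have h1 := hK₁S.2.2 (C ⊓ K₁) (fun x hx => Subgroup.mem_inf.2
      ⟨hle (Subgroup.mem_inf.2 ⟨hx.1, show π x ∈ Q by rw [MonoidHom.mem_ker.1 hx.2.2]; exact one_mem Q⟩),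
        hx.2⟩) inf_le_right hCp.to_inf_left
    have hk' : k ∈ Sy ⊓ K₁ := h1 ▸ Subgroup.mem_inf.2 ⟨hkC, hk⟩
    exact mul_mem hy (Subgroup.mem_inf.2
      ⟨hk'.1, show π k ∈ Q by rw [MonoidHom.mem_ker.1 hk.2]; exact one_mem Q⟩)
  set d' : M := ⟨d, hds⟩
  have hd' : d' ∈ A := hd
  have hdπ : π d' = n := MulEquiv.ext fun x => Subtype.ext (by
    rw [restr_apply, ← autFn_apply d (hPW x.2), hdn x x.2, autFn_apply n x.2])
  have hdC : C₂.map (MulAut.conj d').toMonoidHom ≤ K₁ ⊔ C₂ := by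
    rintro _ ⟨c, hc, rfl⟩
    have h1 : d' * c * d'⁻¹ * c⁻¹ ∈ A := by
      have := mul_mem hd' (hAn c (hC₂G hc) _ (inv_mem hd'))
      rw [show d' * (c * d'⁻¹ * c⁻¹) = d' * c * d'⁻¹ * c⁻¹ by group] at this
      exact this
    have h2 : π (d' * c * d'⁻¹ * c⁻¹) ∈ Q := by
      rw [map_mul, map_mul, map_mul, map_inv, map_inv, hdπ]
      exact mul_mem (hQn _ hc.2) (inv_mem hc.2)
    simpa using mul_mem (hA_C₂ _ h1 h2) (Subgroup.mem_sup_right hc)
  obtain ⟨m, hm, hmC⟩ := hC₂S.exists_conj_le (hC₂p.map _) hdC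
  obtain ⟨y, hy, k, hk, rfl⟩ := hmem m hm
  have hnorm : k * d' ∈ Subgroup.normalizer (C₂ : Set M) := by
    refine Subgroup.mem_normalizer_fintype fun c hc => ?_
    have h := hmC _ ⟨c, hc, rfl⟩
    have h' := mul_mem (mul_mem (inv_mem hy) h) hy
    simpa [mul_assoc] using h'
  have hkdπ : π (k * d') = n := by rw [map_mul, MonoidHom.mem_ker.1 hk.2, one_mul, hdπ]
  obtain ⟨e, he, hep⟩ := FusionProduct.exists_pow_coprime_modEq (k * d') (d := orderOf n) hnp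
  set a : M := (k * d') ^ e
  have haA : a ∈ A := pow_mem (mul_mem hk.1 hd') e
  have haπ : π a = n := by rw [_root_.map_pow, hkdπ, FusionProduct.pow_eq_self_of_modEq he]
  refine ⟨(a : MulAut W), haA, by rwa [Subgroup.orderOf_coe], fun x hx => ?_, fun s hs hq => ?_⟩
  · rw [autFn_apply _ (hPW hx), autFn_apply n hx, ← haπ]
    rfl
  obtain ⟨c, hc, hcπ, hce, -⟩ := hlift s hs
  have hcC : c ∈ C₂ := Subgroup.mem_inf.2 ⟨hc, show π c ∈ Q from hcπ.symm ▸ hq⟩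
  have hacC : a * c * a⁻¹ ∈ C₂ := (Subgroup.mem_normalizer_iff.1 (pow_mem hnorm e) c).1 hcC
  obtain ⟨s', hs'S, hs'e⟩ := mem_autInducedBy_iff.1 hacC.1
  have hs'W : s' ∈ normalizerIn S W := mem_normalizerIn_of_aut hs'S hs'e
  have hs' : s' ∈ normalizerIn S P := by
    have := finite_of_le (S := S) hP.1
    refine mem_normalizerIn_of_conj hs'S fun x hx => ?_
    rw [← hs'e ⟨x, hPW hx⟩]
    exact ((a * c * a⁻¹).2 _).2 hx
  have hs'π : normConj S P ⟨s', hs'⟩ = π (a * c * a⁻¹) :=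
    MulEquiv.ext fun x => Subtype.ext (hs'e ⟨x, hPW x.2⟩).symm
  refine ⟨s', hs', hs'π ▸ hacC.2, ?_⟩
  have hA' : a * c * a⁻¹ * c⁻¹ ∈ A := by
    have := mul_mem haA (hAn c (hC₂G hcC) _ (inv_mem haA))
    rwa [show a * (c * a⁻¹ * c⁻¹) = a * c * a⁻¹ * c⁻¹ by group] at this
  have hX := hSylE.2.2 ((autInducedBy S W ⊓ E₁.autGroup W) ⊓ stab W P) (fun x hx =>
    Subgroup.mem_inf.2 ⟨Subgroup.mem_inf.2 ⟨autInducedBy_le_of_le hTS hx.1,
      autInducedBy_le_autGroup E₁ le_rfl hWT hx.1⟩, hx.2⟩) (inf_le_inf_right _ inf_le_right)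
    ((isPGroup_autInducedBy hS).to_inf_left.to_inf_left)
  have hmemX : ((a * c * a⁻¹ * c⁻¹ : M) : MulAut W) ∈
      (autInducedBy S W ⊓ E₁.autGroup W) ⊓ stab W P := Subgroup.mem_inf.2
    ⟨Subgroup.mem_inf.2 ⟨mul_mem hacC.1 (inv_mem hc), hA'⟩, (a * c * a⁻¹ * c⁻¹).2⟩
  rw [hX] at hmemX
  obtain ⟨t₁, ht₁, ht₁e⟩ := mem_autInducedBy_iff.1 hmemX.1
  refine ⟨t₁, ht₁, fun x hx => ?_⟩
  have hcx : s * x * s⁻¹ ∈ W := hce x hx ▸ autFn_mem _ hx
  constructor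
  · have h := hs'e ((a : MulAut W) ⟨x, hx⟩)
    rw [autFn_apply _ hcx, autFn_apply _ hx, ← h]
    show _ = ((((a : MulAut W) * (c : MulAut W) * (a : MulAut W)⁻¹) ((a : MulAut W) ⟨x, hx⟩) : W) : Ω)
    rw [MulAut.mul_apply, MulAut.mul_apply, MulAut.inv_apply_self]
    exact congrArg (fun z => (((a : MulAut W) z : W) : Ω))
      (Subtype.ext ((hce x hx).symm.trans (autFn_apply _ hx)))
  · have h := ht₁e ((c : MulAut W) ⟨x, hx⟩)
    rw [← hs'e ⟨x, hx⟩, ← hce x hx, autFn_apply _ hx, ← h]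
    show _ = ((((a : MulAut W) * (c : MulAut W) * (a : MulAut W)⁻¹ * (c : MulAut W)⁻¹)
      ((c : MulAut W) ⟨x, hx⟩) : W) : Ω)
    rw [← MulAut.mul_apply, inv_mul_cancel_right]
    rfl

/-- An automorphism of order prime to `p` in `E₁` commutes with the conjugations of `Q` coming from `T₂` up to
conjugations by `T₁ ⊓ T₂`. -/
theorem comm_mem [Finite S] [Fact p.Prime] (hS : IsPGroup p S) {F : FusionSystem S}
    (hF : F.IsSaturated p) {E₁ : FusionSystem T₁} (hE : E₁.IsNormalIn F p) (hT₂ : F.StronglyClosed T₂)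
    {P : Subgroup Ω}
    (hPT : P ≤ T₁) (hP : F.IsFullyNormalized P) {n : MulAut P} (hn : n ∈ E₁.autGroup P)
    (hnp : (orderOf n).Coprime p) {Q : Subgroup (MulAut P)} (hQ : Q ≤ autInducedBy T₁ P)
    (hQn : ∀ q ∈ Q, n * q * n⁻¹ ∈ Q) {t : Ω} (ht : t ∈ T₂) (htN : t ∈ normalizerIn S P)
    (htQ : normConj S P ⟨t, htN⟩ ∈ Q) :
    (normConj S P ⟨t, htN⟩)⁻¹ * (n * normConj S P ⟨t, htN⟩ * n⁻¹) ∈ autInducedBy (T₁ ⊓ T₂) P := by
  have hEi := hE.1.2.2
  have hEs := hE.1.1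
  have hTS : T₁ ≤ S := hEi.2.1.1
  have hTn : ∀ s ∈ S, ∀ t ∈ T₁, s * t * s⁻¹ ∈ T₁ := fun s hs t ht =>
    FusionChain.conj_mem_of_stronglyClosed hEi.2.1 hs ht
  have := finite_of_le hTS
  have := finite_of_le hP.1
  have hT : IsPGroup p T₁ := hS.to_le hTS
  have hPE : E₁.IsFullyNormalized P := fullyNormalized_sub hS hF hEi hPT hP
  set W := Dom T₁ P with hWdef
  obtain ⟨a, ha, hap, han, hrel⟩ := exists_good_lift hS hF hE hPT hP hn hnp hQ hQn
  have hPW : P ≤ W := le_dom T₁ P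
  have hWT : W ≤ T₁ := dom_le hPT
  have hWS : W ≤ S := hWT.trans hTS
  have hWc : E₁.IsCentric W := centric_cdom (fullyCentralized_of_fullyNormalized hT hEs hPE)
  have hWC : centralizerIn T₁ W ≤ W := hWc.2 W (isConj_refl E₁ hWT)
  obtain ⟨f, L, hper⟩ := exists_periodic_lift hS hF hE hWc ha hap
  set D := Dom S W with hDdef
  have hWD : W ≤ D := le_dom S W
  have hPD : P ≤ D := hPW.trans hWD
  have hDS : D ≤ S := dom_le hWS
  have hDT : D ⊓ T₁ = W := FusionProduct.inf_T_sup_centralizer hTn hWT hWS hWC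
  have hND : ∀ g ∈ normalizerIn S P, g ∈ normalizerIn S D := fun g hg =>
    cdom_normalized (T := S) le_rfl (fun s hs t ht => S.mul_mem (S.mul_mem hs ht) (S.inv_mem hs)) hWS
      (cdom_normalized hTS hTn hPT hg)
  obtain ⟨hDr, hSyl⟩ := stab_receptive hS hF hP hPD hDS hND
  have := finite_of_le hDS
  have := finite_mulAut (S := S) hDS
  have hfD : IsIso F D D f := ⟨L.map, eq_of_le_of_card hDS
    (L.map.img_le le_rfl fun x hx => L.mem hx) (L.map.card_img le_rfl).ge⟩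
  obtain ⟨α, hα, hαe⟩ := exists_aut_of_isIso hfD
  have hfP : ∀ x ∈ P, f x = autFn n x := fun x hx => (L.eq x (hPW hx)).trans (han x hx)
  have hPimg : ∀ y ∈ P, ∃ x ∈ P, f x = y := fun y hy => ⟨autFn n⁻¹ y, autFn_mem _ hy, by
    rw [hfP _ (autFn_mem _ hy), autFn_self_inv n hy]⟩
  have hαP : α ∈ stab D P := fun x => by
    rw [hαe]
    refine ⟨fun h => ?_, fun h => hfP _ h ▸ autFn_mem n h⟩
    obtain ⟨y, hy, e⟩ := hPimg _ h
    exact L.map.inj (hPD hy) x.2 e ▸ hy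
  have hDW : ∀ x ∈ D, ∀ w ∈ W, x * w * x⁻¹ ∈ W := fun x hx w hw =>
    normalizerIn_conj (dom_le_normalizerIn hWS hx : x ∈ normalizerIn S W) hw
  set K := F.autGroup D ⊓ FusionProduct.stabilizing D W hDW
  have hKn : ∀ β ∈ F.autGroup D, ∀ k ∈ K, β * k * β⁻¹ ∈ K := fun β hβ k hk => by
    have hpres : ∀ γ ∈ F.autGroup D, ∀ x : D, (x : Ω) ∈ W → ((γ x : D) : Ω) ∈ W := fun γ hγ x hx => by
      refine hDT.le (Subgroup.mem_inf.2 ⟨(γ x).2, ?_⟩)
      rw [← autFn_apply γ x.2]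
      exact FusionChain.isMap_mem_of_stronglyClosed hEi.2.1 ((mem_autGroup_iff hDS).1 hγ) x.2 (hWT hx)
    refine Subgroup.mem_inf.2 ⟨mul_mem (mul_mem hβ hk.1) (inv_mem hβ), fun x hx => ?_, fun x => ?_⟩
    · rw [MulAut.mul_apply, MulAut.mul_apply, hk.2.1 _ (hpres _ (inv_mem hβ) x hx),
        MulAut.apply_inv_self]
    · have h := hpres β hβ ((β⁻¹ x)⁻¹ * k (β⁻¹ x)) (hk.2.2 (β⁻¹ x))
      rw [map_mul, map_inv, MulAut.apply_inv_self] at h
      exact h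
  have hKS : K ≤ autInducedBy S D := fun k hk => by
    have hle : K ≤ F.autGroup D ⊓ stab D P := fun κ hκ => Subgroup.mem_inf.2 ⟨hκ.1, fun x =>
      ⟨fun h => by
        have e : κ (κ x) = κ x := hκ.2.1 _ (hPW h)
        rw [κ.injective e] at h
        exact h, fun h => by rw [hκ.2.1 _ (hPW h)]; exact h⟩⟩
    have hKp : IsPGroup p K :=
      (FusionProduct.isPGroup_stabilizing (hS.to_le hDS)).to_le inf_le_right
    obtain ⟨c, hc, hcK⟩ := hSyl.exists_conj_le hKp hle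
    have h := (hcK _ (hKn c⁻¹ (inv_mem hc.1) k hk)).1
    simpa [mul_assoc] using h
  set M := NK S P Q
  have hMN : M ≤ normalizerIn S P := NK_le_normalizerIn S P Q
  have hMD : M ≤ normalizerIn S D := fun s hs => hND s (hMN hs)
  have hMQ : ∀ s (hs : s ∈ M), normConj S P ⟨s, hMN hs⟩ ∈ Q := fun s hs => by
    obtain ⟨s₀, hs₀, e⟩ := hs
    obtain rfl : (s₀ : Ω) = s := e
    exact hs₀
  -- the twisted partner of an element of `M`
  have hrel' : ∀ s ∈ M, ∃ u ∈ M, u * s⁻¹ ∈ T₁ ∧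
      ∀ x ∈ W, f (s * x * s⁻¹) = u * f x * u⁻¹ := fun s hs => by
    obtain ⟨s', hs', hs'Q, t₁, ht₁, he⟩ := hrel s (hMN hs) (hMQ s hs)
    have hact : ∀ x ∈ W, (t₁ * s) * x * (t₁ * s)⁻¹ = s' * x * s'⁻¹ := fun x hx => by
      rw [(he x hx).2]; group
    refine ⟨t₁ * s, mem_NK.2 ⟨S.mul_mem (hTS ht₁) (hMN hs).1, _, hs'Q, fun x => ?_⟩,
      by rwa [mul_inv_cancel_right], fun x hx => ?_⟩
    · rw [normConj_apply, hact _ (hPW x.2)]
    · rw [L.eq _ (normalizerIn_conj (cdom_normalized hTS hTn hPT (hMN hs)) hx), (he x hx).1, L.eq x hx,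
        hact _ (autFn_mem a hx)]
  have hext0 : ∀ s (hs : s ∈ M),
      α * normConj S D ⟨s, hMD hs⟩ * α⁻¹ ∈ autInducedBy S D := fun s hs => by
    obtain ⟨u, hu, huT, hue⟩ := hrel' s hs
    set γ := normConj S D ⟨s, hMD hs⟩
    set γ' := normConj S D ⟨u, hMD hu⟩
    have hγ' : γ' ∈ autInducedBy S D := (range_normConj S D).le ⟨_, rfl⟩
    suffices hκ : γ'⁻¹ * (α * γ * α⁻¹) ∈ K by
      have := mul_mem hγ' (hKS hκ)
      rwa [mul_inv_cancel_left] at this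
    have hSF : autInducedBy S D ≤ F.autGroup D := autInducedBy_le_autGroup F le_rfl hDS
    refine Subgroup.mem_inf.2 ⟨mul_mem (inv_mem (hSF hγ'))
      (mul_mem (mul_mem hα (hSF ((range_normConj S D).le ⟨_, rfl⟩))) (inv_mem hα)),
      fun x hx => ?_, fun x => ?_⟩
    · obtain ⟨y, hy, hye⟩ := L.surj hx
      have e : x = α ⟨y, hWD hy⟩ := Subtype.ext (by rw [hαe]; exact hye.symm)
      apply γ'.injective
      rw [MulAut.mul_apply, MulAut.apply_inv_self, e, MulAut.mul_apply, MulAut.mul_apply,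
        MulAut.inv_apply_self]
      refine Subtype.ext ?_
      rw [hαe, normConj_apply, normConj_apply, hαe]
      exact hue y hy
    · set v := α⁻¹ x with hv
      have hfv : f v = x := by rw [← hαe, hv, MulAut.apply_inv_self]
      set z : Ω := s * (x : Ω) * s⁻¹ with hz
      have hzD : z ∈ D := normalizerIn_conj (hMD hs) x.2
      have huxD : u * (x : Ω) * u⁻¹ ∈ D := normalizerIn_conj (hMD hu) x.2
      have hw3 : z⁻¹ * (u * (x : Ω) * u⁻¹) ∈ W := by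
        refine hDT.le (Subgroup.mem_inf.2 ⟨mul_mem (inv_mem hzD) huxD, ?_⟩)
        rw [show z⁻¹ * (u * (x : Ω) * u⁻¹) = (z⁻¹ * (u * s⁻¹) * z⁻¹⁻¹) * (u * s⁻¹)⁻¹ by rw [hz]; group]
        exact T₁.mul_mem (hTn _ (inv_mem (hDS hzD)) _ huT) (inv_mem huT)
      have hw1 : (s * (v : Ω) * s⁻¹)⁻¹ * f (s * (v : Ω) * s⁻¹) ∈ W :=
        L.modP _ (normalizerIn_conj (hMD hs) v.2)
      have hw2 : (v : Ω)⁻¹ * x ∈ W := hfv ▸ L.modP v v.2
      have hsW := cdom_normalized hTS hTn hPT (hMN hs)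
      have huW := cdom_normalized hTS hTn hPT (hMN hu)
      have he : ((γ'⁻¹ * (α * γ * α⁻¹)) x : D) = (⟨u⁻¹ * f (s * (v : Ω) * s⁻¹) * u, by
          have h := normalizerIn_conj (inv_mem (hMD hu)) (L.mem (normalizerIn_conj (hMD hs) v.2))
          rwa [inv_inv] at h⟩ : D) := by
        apply γ'.injective
        rw [MulAut.mul_apply, MulAut.apply_inv_self]
        refine Subtype.ext ?_
        rw [MulAut.mul_apply, MulAut.mul_apply, hαe, normConj_apply, normConj_apply, ← hv]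
        group
      rw [he]
      show (x : Ω)⁻¹ * (u⁻¹ * f (s * (v : Ω) * s⁻¹) * u) ∈ W
      have hw : (z⁻¹ * (u * (x : Ω) * u⁻¹))⁻¹ * (s * ((v : Ω)⁻¹ * x)⁻¹ * s⁻¹) *
          ((s * (v : Ω) * s⁻¹)⁻¹ * f (s * (v : Ω) * s⁻¹)) ∈ W :=
        mul_mem (mul_mem (inv_mem hw3) (normalizerIn_conj hsW (inv_mem hw2))) hw1
      convert normalizerIn_conj_inv huW hw using 1
      rw [hz]
      group
  obtain ⟨g, hg, hge⟩ := FusionChain.exists_extension hDr hα hMD hext0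
  set M' := D ⊔ M
  have hM'S : M' ≤ S := hg.le
  have := finite_of_le hM'S
  have := finite_mulAut (S := S) hM'S
  have hge' : ∀ x ∈ D, g x = f x := fun x hx => by rw [hge x hx, autFn_apply α hx, hαe]
  have hext : ∀ h, IsMap F M' h → (∀ x ∈ D, h x = f x) → ∀ s ∈ M,
      h s ∈ M ∧ ∃ u ∈ M, u * s⁻¹ ∈ T₁ ∧ u⁻¹ * h s ∈ centralizerIn S W := fun h hh he s hs => by
    obtain ⟨u, hu, huT, hue⟩ := hrel' s hs
    have hsM' : s ∈ M' := Subgroup.mem_sup_right hs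
    have hkey : ∀ x ∈ W, h s * f x * (h s)⁻¹ = u * f x * u⁻¹ := fun x hx => by
      have hxD : x ∈ D := hWD hx
      rw [← he x hxD, ← hh.map_conj hsM' (Subgroup.mem_sup_left hxD), he x hxD,
        he _ (normalizerIn_conj (hMD hs) hxD)]
      exact hue x hx
    refine ⟨mem_NK.2 ⟨hh.mem hsM', _, hMQ u hu, fun y => ?_⟩, u, hu, huT,
      mem_centralizerIn_of_conj (S.mul_mem (S.inv_mem (hMN hu).1) (hh.mem hsM')) fun y hy => ?_⟩
    · obtain ⟨x, hx, e⟩ := hPimg y y.2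
      rw [normConj_apply, ← e, hkey x (hPW hx)]
    · obtain ⟨x, hx, rfl⟩ := L.surj hy
      rw [show u⁻¹ * h s * f x * (u⁻¹ * h s)⁻¹ = u⁻¹ * (h s * f x * (h s)⁻¹) * u by group,
        hkey x hx]
      group
  have hgM' : IsIso F M' M' g := ⟨hg, eq_of_le_of_card hM'S (hg.img_le le_rfl fun x hx =>
    hg.forall_mem_sup le_sup_left le_sup_right
      (fun y hy => Subgroup.mem_sup_left (hge' y hy ▸ L.mem hy))
      (fun y hy => Subgroup.mem_sup_right (hext g hg hge' y hy).1) hx) (hg.card_img le_rfl).ge⟩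
  obtain ⟨β, hβ, hβe⟩ := exists_aut_of_isIso hgM'
  obtain ⟨m, hm, hmp⟩ := FusionProduct.exists_pow_coprime_modEq β (d := orderOf a) hap
  set g' := autFn (β ^ m)
  have hg' : IsMap F M' g' := (mem_autGroup_iff hM'S).1 (pow_mem hβ m)
  have hg'e : ∀ x ∈ D, g' x = f x := fun x hx => by
    show autFn (β ^ m) x = f x
    rw [autFn_pow β m (Subgroup.mem_sup_left hx : x ∈ M'), iterate_congr (f := f) (fun y hy => L.mem hy)
      (fun y hy => by rw [autFn_apply β (Subgroup.mem_sup_left hy : y ∈ M'), hβe]; exact hge' y hy) m x hx]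
    exact iterate_eq_of_periodic (hper x hx) hm
  have hTM : ∀ x ∈ T₁ ⊓ M', g' x ∈ T₁ ⊓ M' := fun x hx => Subgroup.mem_inf.2
    ⟨FusionChain.isMap_mem_of_stronglyClosed hEi.2.1 hg' hx.2 hx.1, autFn_mem _ hx.2⟩
  set H := T₁ ⊓ M'
  set V := H ⊔ centralizerIn S W
  have hCM : centralizerIn S W ≤ M' := (cen_le_dom S W).trans le_sup_left
  have hVM : V ≤ M' := sup_le inf_le_right hCM
  have hWH : W ≤ H := le_inf hWT (hWD.trans le_sup_left)
  have hVN : V ≤ normalizerIn S H := fun x hx => by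
    have := finite_of_le (S := S) (P := H) (inf_le_right.trans hM'S)
    refine mem_normalizerIn_of_conj (hM'S (hVM hx)) fun y hy => Subgroup.mem_inf.2
      ⟨hTn x (hM'S (hVM hx)) y hy.1, mul_mem (mul_mem (hVM hx) hy.2) (inv_mem (hVM hx))⟩
  have hmodH : ∀ v ∈ V, v⁻¹ * g' v ∈ H :=
    mod_of_gen (hg'.mono hVM) hVN (fun x hx => mul_mem (inv_mem hx) (hTM x hx)) fun c hc => by
      rw [hg'e c (cen_le_dom S W hc)]
      exact hWH (L.modP c (cen_le_dom S W hc))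
  have htM : t ∈ M := mem_NK.2 ⟨htN.1, _, htQ, fun x => normConj_apply _ _⟩
  have htM' : t ∈ M' := Subgroup.mem_sup_right htM
  obtain ⟨-, u, hu, huT, huc⟩ := hext g' hg' hg'e t htM
  have htV : t⁻¹ * g' t ∈ V := by
    rw [show t⁻¹ * g' t = (t⁻¹ * (u * t⁻¹) * t⁻¹⁻¹) * (u⁻¹ * g' t) by group]
    refine mul_mem (Subgroup.mem_sup_left (Subgroup.mem_inf.2
      ⟨hTn _ (S.inv_mem htN.1) _ huT, ?_⟩)) (Subgroup.mem_sup_right huc)
    rw [inv_inv]
    exact mul_mem (mul_mem (inv_mem htM') (mul_mem (Subgroup.mem_sup_right hu) (inv_mem htM'))) htM'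
  have hr : t⁻¹ * g' t ∈ H := coprime_twist_mem hS hg' hVM le_sup_left hTM hmodH htM' htV hmp
    (by rw [← autFn_pow (β ^ m) _ htM', pow_orderOf_eq_one, autFn_apply _ htM']; rfl)
  have hr2 : t⁻¹ * g' t ∈ T₂ :=
    T₂.mul_mem (T₂.inv_mem ht) (FusionChain.isMap_mem_of_stronglyClosed hT₂ hg' htM' ht)
  refine mem_autInducedBy_iff.2 ⟨_, Subgroup.mem_inf.2 ⟨hr.1, hr2⟩, fun x => ?_⟩
  obtain ⟨y, hy, e⟩ := hPimg x x.2
  have hye : x = n ⟨y, hy⟩ := Subtype.ext (by rw [← e, hfP y hy, autFn_apply n hy])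
  have h1 : (((n * normConj S P ⟨t, htN⟩ * n⁻¹) x : P) : Ω) = g' t * x * (g' t)⁻¹ := by
    rw [hye, MulAut.mul_apply, MulAut.mul_apply, MulAut.inv_apply_self, ← hye, ← e,
      ← autFn_apply n ((normConj S P ⟨t, htN⟩) ⟨y, hy⟩).2, ← hfP _ ((normConj S P ⟨t, htN⟩) ⟨y, hy⟩).2,
      normConj_apply, ← hg'e y (hPD hy), ← hg'.map_conj htM' (Subgroup.mem_sup_left (hPD hy))]
    exact (hg'e _ (normalizerIn_conj (hND t htN) (hPD hy))).symm
  rw [MulAut.mul_apply, ← map_inv, normConj_apply, h1]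
  simp only [InvMemClass.coe_inv]
  group

end Cfsg.Agent.FusionLayer
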