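import Cfsg.Agent.Lib.FusionLayer.MeetSat
import Cfsg.Agent.Lib.FusionNormalCent.Centralizer

/-
The largest meet of two normal subsystems.
Main results (namespace `Cfsg.Agent.FusionLayer`): `isNormalIn_genSys_of`, `conj_mem_extAut`,
`Meet.exists_max_normal`.
-/

set_option autoImplicit false

namespace Cfsg.Agent.FusionCrit

open Cfsg Cfsg.FusionSystem Cfsg.Agent.Fusion Cfsg.Agent.FusionChain

variable {Ω : Type*} [Group Ω] {S T : Subgroup Ω} {F : FusionSystem S} {E : FusionSystem T} {p : ℕ}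

/-- The generated system over a stable group of extendable automorphisms of `T` is normal. -/
theorem isNormalIn_genSys_of [Finite S] [Finite T] [Fact p.Prime] (hS : IsPGroup p S)
    (hE : E.IsWeaklyNormalIn F p) {A : Subgroup (MulAut T)} (hAE : A ≤ E.autGroup T) (hres : resA E p ≤ A)
    (hinv : ∀ α ∈ F.autGroup T, ∀ β ∈ A, α * β * α⁻¹ ∈ A) (hext : A ≤ extAut F hE.2.2.2.1.1) :
    (genSys E p A hAE).IsNormalIn F p := by
  obtain ⟨hEs, hF, hi⟩ := hE
  have hTS : T ≤ S := hi.2.1.1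
  have hT : IsPGroup p T := hS.to_le hTS
  have hAF : A ≤ F.autGroup T := hAE.trans (FusionNormal.autGroup_le_of_sub hi.1 le_rfl)
  refine ⟨⟨isSaturated_genSys hT hEs hAE hres, hF, ?_, hi.2.1, ?_, ?_⟩, ?_⟩
  · intro P φ hφ
    exact hi.1 P (mem_of_isMap (TGen.isMap hAE hφ) fun x => (toFn_coe φ x).symm)
  · intro P hP φ hφ α hα
    obtain ⟨β, hβ, g, hg, hfg⟩ := hφ
    have hb : IsMap F T (autFn α) := (mem_autGroup_iff hTS).1 hα
    set f' := fun y => autFn α (toFn φ (autFn α⁻¹ y)) with hf'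
    have h1 := gen_transport hi hα hg (fun y => autFn α (g (autFn α⁻¹ y))) fun x hx => by
      show autFn α (g (autFn α⁻¹ (autFn α x))) = _
      rw [autFn_inv_self α (hP hx)]
    have h2 : TGen E p A (img (autFn α) P) f' := by
      refine ⟨α * β * α⁻¹, hinv α hα β hβ, _, h1, fun y hy => ?_⟩
      obtain ⟨x, hx, rfl⟩ := (hb.mem_img_iff hP).1 hy
      have hgx := hg.isMap.mem hx
      show autFn α (toFn φ (autFn α⁻¹ (autFn α x))) =
        autFn (α * β * α⁻¹) (autFn α (g (autFn α⁻¹ (autFn α x))))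
      rw [autFn_inv_self α (hP hx), hfg x hx, ← autFn_mul (α * β * α⁻¹) α hgx, inv_mul_cancel_right,
        autFn_mul _ _ hgx]
    obtain ⟨χ, hχ, hχe⟩ := isMap_genSys.2 h2
    have hdom : (P.subgroupOf T).map (T.subtype.comp α.toMonoidHom) = img (autFn α) P := by
      refine le_antisymm ?_ (hb.img_le hP fun x hx => ?_)
      · rintro _ ⟨x, hx, rfl⟩
        exact Subgroup.subset_closure ⟨x, hx, autFn_apply α x.2⟩
      · exact ⟨⟨x, hP hx⟩, hx, (autFn_apply α (hP hx)).symm⟩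
    have key : ∀ W, W = img (autFn α) P → ∃ χ ∈ (genSys E p A hAE).Hom W,
        ∀ y (hy : y ∈ W), χ ⟨y, hy⟩ = f' y := by
      rintro W rfl
      exact ⟨χ, hχ, hχe⟩
    obtain ⟨χ', hχ', he'⟩ := key _ hdom
    refine ⟨χ', hχ', fun x hφx hαx => ?_⟩
    rw [he', ← autFn_apply α (hP x.2), hf']
    show autFn α (toFn φ (autFn α⁻¹ (autFn α x))) = _
    rw [autFn_inv_self α (hP x.2), toFn_coe, autFn_apply α hφx]
  · intro P hP φ hφ
    obtain ⟨α, hα, f₀, hf₀, he⟩ := FusionNormal.frattini_map hi hP (isMap_toFn hφ)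
    obtain ⟨β, hβ, g, hg, hfg⟩ := exists_frattini hT hEs hf₀
    obtain ⟨χ, hχ, hχe⟩ := isMap_genSys (hA := hAE).2 (TGen.of_gen (A := A) hg)
    refine ⟨α * β, mul_mem hα (FusionNormal.autGroup_le_of_sub hi.1 le_rfl hβ), χ, hχ,
      fun x hx => ?_⟩
    rw [← toFn_coe φ x, he x x.2, hfg x x.2, ← autFn_mul α β (hg.isMap.mem x.2)]
    rw [show g x = χ x from (hχe x x.2).symm, autFn_apply _ hx]
  · intro γ hγ
    obtain ⟨β, hβ, g, hg, hfg⟩ :=
      isMap_genSys.1 ((mem_autGroup_iff le_rfl).1 hγ)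
    obtain ⟨h, hh, he, hc⟩ := good_of_gen hS ⟨hEs, hF, hi⟩ hg isCentric_self
    have hgT : img g T = T :=
      eq_of_le_of_card le_rfl hg.isMap.img_le_S (hg.isMap.card_img le_rfl).ge
    obtain ⟨γ', hγ', hγe⟩ := exists_aut_of_isIso (show IsIso E T T g from ⟨hg.isMap, hgT⟩)
    have hγ'x : γ' ∈ extAut F hTS :=
      ⟨h, hh, fun x hx => by rw [he x hx, autFn_apply γ' hx, hγe], hc⟩
    have hγeq : γ = β * γ' := MulEquiv.ext fun x => Subtype.ext (by
      rw [← autFn_apply γ x.2, hfg x x.2, show g x = ((γ' x : T) : Ω) from (hγe x).symm,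
        autFn_apply β (γ' x).2]
      rfl)
    obtain ⟨H, hH, hHe, hHc⟩ : γ ∈ extAut F hTS := hγeq ▸ mul_mem (hext hβ) hγ'x
    set M := T ⊔ centralizerIn S T
    have hMS : M ≤ S := sup_le hTS inf_le_left
    have hHM : img H M = M :=
      eq_of_le_of_card hMS (hH.img_le le_rfl fun x hx => hH.forall_mem_sup le_sup_left le_sup_right
        (fun y hy => Subgroup.mem_sup_left (hHe y hy ▸ autFn_mem γ hy))
        (fun y hy => by
          have := mul_mem (Subgroup.mem_sup_right hy : y ∈ M) (Subgroup.mem_sup_left (hHc y hy))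
          simpa using this) hx) (hH.card_img le_rfl).ge
    obtain ⟨η, hη, hηe⟩ := exists_aut_of_isIso (show IsIso F M M H from ⟨hH, hHM⟩)
    refine ⟨η, hη, fun x => ?_, fun c hc' => ?_⟩
    · rw [hηe]
      exact (hHe x x.2).trans (autFn_apply γ x.2)
    · rw [hηe]
      refine ⟨hHc c hc', Subgroup.mem_centralizer_iff.2 fun x hx => ?_⟩
      have hxc : (c : Ω) * x * (c : Ω)⁻¹ = x := centralizerIn_conj hc' hx
      have hHT : img H T = T := by
        rw [img_congr hHe]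
        exact (autFn_isIso ((hH.mono le_sup_left).congr hHe)).2
      have h1 := map_centralizerIn hH le_sup_left hHT (Subgroup.mem_sup_right hc') hc'
      exact ((mem_centralizerIn.1 (mul_mem (inv_mem hc') h1)).2 x hx).symm

end Cfsg.Agent.FusionCrit

namespace Cfsg.Agent.FusionLayer

open Cfsg Cfsg.Agent.Fusion Cfsg.Agent.FusionNormalCent
open Cfsg.FusionSystem hiding inv_mem
open Cfsg.Agent.FusionCrit (autFn_mul autFn_inv_self autFn_self_inv extAut genSys resA)

variable {Ω : Type*} [Group Ω] {S T₁ T₂ : Subgroup Ω} {F : FusionSystem S} {p : ℕ}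

/-- Automorphisms of a strongly closed subgroup stabilise the extendable automorphisms of an invariant
subsystem. -/
theorem conj_mem_extAut [Finite S] [Fact p.Prime] (hS : IsPGroup p S) (hF : F.IsSaturated p)
    {T : Subgroup Ω} [Finite T] {E : FusionSystem T} (hE : E.IsInvariantIn F) {R : Subgroup Ω}
    (hR : F.StronglyClosed R) (hRT : R ≤ T) {α δ : MulAut R} (hα : α ∈ F.autGroup R)
    (hδ : δ ∈ extAut E hRT) : α * δ * α⁻¹ ∈ extAut E hRT := by
  obtain ⟨h, hh, he, hc⟩ := hδ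
  set W := R ⊔ centralizerIn S R
  obtain ⟨g, hg, hge⟩ := FusionChain.exists_extension
    (receptive_of_fullyNormalized hS hF (fullyNormalized_strongly hR)) hα
    (centralizerIn_le_normalizerIn S R) fun c hc' => by
    rw [(normConj_eq_one_iff (⟨c, centralizerIn_le_normalizerIn S R hc'⟩ : normalizerIn S R)).2 hc',
      mul_one, mul_inv_cancel]
    exact one_mem _
  have hTS : T ≤ S := hE.2.1.1
  set M := R ⊔ centralizerIn T R
  have hMW : M ≤ W := sup_le_sup_left (inf_le_inf_right _ hTS) R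
  have hMT : M ≤ T := sup_le hRT inf_le_left
  have hMS : M ≤ S := hMT.trans hTS
  have hgR : img g R = R := (img_congr hge).trans (isIso_autFn hR.1 hα).2
  have hgC : ∀ c ∈ centralizerIn T R, g c ∈ centralizerIn T R := fun c hc' =>
    ⟨FusionChain.isMap_mem_of_stronglyClosed hE.2.1 hg (hMW (Subgroup.mem_sup_right hc')) hc'.1,
      (map_centralizerIn hg le_sup_left hgR (hMW (Subgroup.mem_sup_right hc')) ⟨hTS hc'.1, hc'.2⟩).2⟩
  have hgM : IsIso F M M g := ⟨hg.mono hMW, eq_of_le_of_card hMS ((hg.mono hMW).img_le le_rfl fun x hx =>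
    (hg.mono hMW).forall_mem_sup le_sup_left le_sup_right
      (fun y hy => Subgroup.mem_sup_left (hge y hy ▸ autFn_mem α hy))
      (fun y hy => Subgroup.mem_sup_right (hgC y hy)) hx) ((hg.mono hMW).card_img le_rfl).ge⟩
  have hhM : IsIso E M M h := ⟨hh, eq_of_le_of_card hMT (hh.img_le le_rfl fun x hx =>
    hh.forall_mem_sup le_sup_left le_sup_right
      (fun y hy => Subgroup.mem_sup_left (he y hy ▸ autFn_mem δ hy))
      (fun y hy => by
        have := M.mul_mem (Subgroup.mem_sup_right hy) (Subgroup.mem_sup_left (hc y hy))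
        simpa using this) hx) (hh.card_img le_rfl).ge⟩
  obtain ⟨η, hη, hηe⟩ := exists_aut_of_isIso hhM
  have hη' := FusionNormal.congr_mem_autGroup hE hgM hMT hη
  set η' := MulAut.congr hgM.equiv η
  have key : ∀ y ∈ M, autFn η' (g y) = g (h y) := fun y hy => by
    rw [autFn_apply _ (hgM.mem hy), ← hηe ⟨y, hy⟩]
    exact congr_apply_coe hgM η ⟨y, hy⟩
  refine ⟨autFn η', (mem_autGroup_iff hMT).1 hη', fun x hx => ?_, fun c hc' => ?_⟩
  · have hy := autFn_mem α⁻¹ hx
    have h1 := key _ (Subgroup.mem_sup_left hy)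
    rw [hge _ hy, autFn_self_inv α hx, he _ hy, hge _ (autFn_mem δ hy)] at h1
    rw [h1, autFn_mul _ _ hx, autFn_mul _ _ hy]
  · obtain ⟨d, hd, rfl⟩ : ∃ d ∈ centralizerIn T R, g d = c := by
      have := finite_of_le (S := S) (P := centralizerIn T R) (inf_le_left.trans hTS)
      have himg : img g (centralizerIn T R) = centralizerIn T R := eq_of_le_of_card (inf_le_left.trans hTS)
        ((hg.mono hMW).img_le le_sup_right hgC) ((hg.mono hMW).card_img le_sup_right).ge
      exact ((hg.mono hMW).mem_img_iff le_sup_right).1 (himg.symm ▸ hc')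
    have hdM : d ∈ M := Subgroup.mem_sup_right hd
    have hr := hc d hd
    rw [key d hdM, show h d = d * (d⁻¹ * h d) by group,
      (hg.mono hMW).map_mul hdM (Subgroup.mem_sup_left hr), inv_mul_cancel_left, hge _ hr]
    exact autFn_mem α hr

namespace Meet

variable [Finite S] [Fact p.Prime] {E₁ : FusionSystem T₁} {E₂ : FusionSystem T₂} (h : Meet F p E₁ E₂)

include h

/-- The largest subsystem over `T₁ ⊓ T₂` normal in `F`, `E₁` and `E₂`. -/
theorem exists_max_normal :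
    ∃ D : FusionSystem (T₁ ⊓ T₂), (D.IsNormalIn F p ∧ D.IsNormalIn E₁ p ∧ D.IsNormalIn E₂ p) ∧
      ∀ D' : FusionSystem (T₁ ⊓ T₂), D'.IsNormalIn F p → D'.IsNormalIn E₁ p → D'.IsNormalIn E₂ p →
        D'.IsSubsystemOf D := by
  have hfR := h.finite_R
  have hR := h.pgroup_R
  set R := T₁ ⊓ T₂
  set M := meetSys h 0 with hM
  have hT₁S := h.i1.2.1.1
  have hT₂S := h.i2.2.1.1
  have := finite_of_le hT₁S
  have := finite_of_le hT₂S
  have hwF := h.isWeaklyNormalIn (amb_F h)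
  have hw₁ := h.isWeaklyNormalIn (amb_E₁ h)
  have hw₂ := h.isWeaklyNormalIn (amb_E₂ h)
  let A : Subgroup (MulAut R) := M.autGroup R ⊓ extAut F hwF.2.2.2.1.1 ⊓
    extAut E₁ hw₁.2.2.2.1.1 ⊓ extAut E₂ hw₂.2.2.2.1.1
  have hA : A ≤ M.autGroup R := inf_le_left.trans (inf_le_left.trans inf_le_left)
  have hres : resA M p ≤ A := by
    rw [resA, Subgroup.closure_le]
    rintro β ⟨hβ, P, hP, hg⟩
    exact ⟨⟨⟨hβ, FusionCrit.resA_generator_ext h.pgroup hwF rfl rfl rfl hβ hP hg⟩,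
      FusionCrit.resA_generator_ext (h.pgroup.to_le hT₁S) hw₁ rfl rfl rfl hβ hP hg⟩,
      FusionCrit.resA_generator_ext (h.pgroup.to_le hT₂S) hw₂ rfl rfl rfl hβ hP hg⟩
  have hinv : ∀ α ∈ F.autGroup R, ∀ β ∈ A, α * β * α⁻¹ ∈ A := fun α hα β hβ =>
    ⟨⟨⟨FusionNormal.conj_mem_autGroup hwF.2.2 le_rfl hα hβ.1.1.1,
      conj_mem_extAut h.pgroup h.sat (FusionProduct.isInvariantIn_self F) h.cR h.R_le hα hβ.1.1.2⟩,
      conj_mem_extAut h.pgroup h.sat h.i1 h.cR inf_le_left hα hβ.1.2⟩,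
      conj_mem_extAut h.pgroup h.sat h.i2 h.cR inf_le_right hα hβ.2⟩
  have hnF := FusionCrit.isNormalIn_genSys_of h.pgroup hwF hA hres hinv
    (inf_le_left.trans (inf_le_left.trans inf_le_right))
  have hn₁ := FusionCrit.isNormalIn_genSys_of (h.pgroup.to_le hT₁S) hw₁ hA hres
    (fun α hα => hinv α (FusionNormal.autGroup_le_of_sub h.i1.1 inf_le_left hα)) (inf_le_left.trans inf_le_right)
  have hn₂ := FusionCrit.isNormalIn_genSys_of (h.pgroup.to_le hT₂S) hw₂ hA hres
    (fun α hα => hinv α (FusionNormal.autGroup_le_of_sub h.i2.1 inf_le_right hα)) inf_le_right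
  refine ⟨genSys M p A hA, ⟨hnF, hn₁, hn₂⟩, fun D' hD hD₁ hD₂ P φ hφ => ?_⟩
  set E := genSys M p A hA
  have hD's := hD.1.1
  obtain ⟨β, hβ, g, hg, he⟩ := FusionCrit.exists_frattini hR hD's (isMap_toFn hφ)
  -- the residual part
  have hgE : IsMap E P g := FusionNormal.isMap_of_sub
    (FusionCrit.isSubsystemOf_genSys h.pgroup hD.1 hnF.1.1 hnF.1.2.2)
    ((FusionCrit.isMap_genSys (hA := FusionCrit.resA_le_autGroup D' p)).2 (FusionCrit.TGen.of_gen hg))
  -- the top part
  have hR₁ : R ≤ T₁ := inf_le_left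
  have hR₂ : R ≤ T₂ := inf_le_right
  have hSyl := (isFullyAutomized_iff.1 (fullyAutomized_of_fullyNormalized hR hD's
    (isFullyNormalized_self D'))).2
  have := finite_mulAut (S := R) (le_refl R)
  have hBP : D'.autGroup R ≤ BP p E₁ E₂ R := FusionNormal.autGroup_le_of_sylow_pResidual hSyl le_sup_right
    fun n hn hc => Subgroup.mem_sup_left (Subgroup.subset_closure ⟨Subgroup.mem_inf.2
      ⟨FusionNormal.autGroup_le_of_sub hD₁.1.2.2.1 le_rfl hn,
        FusionNormal.autGroup_le_of_sub hD₂.1.2.2.1 le_rfl hn⟩, hc⟩)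
  have hext : ∀ {T : Subgroup Ω} [Finite T] {U : FusionSystem T} (hRT : R ≤ T), D'.IsNormalIn U p →
      β ∈ extAut U hRT := fun {T} _ {U} hRT hDU => by
    obtain ⟨γ, hγ, hγR, hγC⟩ := hDU.2 β hβ
    have hle : R ⊔ centralizerIn T R ≤ T := sup_le hRT inf_le_left
    refine ⟨autFn γ, (mem_autGroup_iff hle).1 hγ, fun x hx => ?_, fun c hc => ?_⟩
    · rw [autFn_apply γ (Subgroup.mem_sup_left hx), autFn_apply β hx]
      exact hγR ⟨x, hx⟩
    · rw [autFn_apply γ (Subgroup.mem_sup_right hc)]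
      exact (hγC ⟨c, Subgroup.mem_sup_right hc⟩ hc).1
  have hβA : β ∈ A := ⟨⟨⟨h.BP_le_aut h.inFc_self (hBP hβ), hext h.R_le hD⟩, hext hR₁ hD₁⟩, hext hR₂ hD₂⟩
  have hbE : IsMap E R (autFn β) := (FusionCrit.isMap_genSys (hA := hA)).2
    ⟨β, hβA, fun x => x, FusionCrit.Gen.id le_rfl, fun _ _ => rfl⟩
  exact mem_of_isMap ((hgE.comp hbE fun x hx => hgE.mem hx).congr fun x hx => (he x hx).symm)
    fun x => (toFn_coe φ x).symm

end Meet

end Cfsg.Agent.FusionLayer
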