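import Cfsg.Agent.Lib.FusionLayer.MeetCore
import Cfsg.Agent.Lib.Fusion.PAut

/-
The generated system of the meet over `R = T₁ ⊓ T₂`: generation, invariance and the Frattini property in every
intermediate saturated system.
Main results (namespace `Cfsg.Agent.FusionLayer`): `InFc`, `MGen`, `meetSys`, `Amb`, `Meet.frattini`,
`Meet.frattini_amb`.
-/

set_option autoImplicit false

namespace Cfsg.Agent.FusionLayer

open Cfsg Cfsg.Agent.Fusion Cfsg.Agent.FusionNormalCent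
open Cfsg.FusionSystem hiding inv_mem
open Cfsg.Agent.FusionCrit (autFn_mul autFn_inv_self autFn_self_inv)

variable {Ω : Type*} [Group Ω] {S T T₁ T₂ : Subgroup Ω}

/-- Every conjugate contains its centralizer in `R`. -/
def InFc (F : FusionSystem S) (R P : Subgroup Ω) : Prop :=
  P ≤ R ∧ ∀ Q : Subgroup Ω, F.IsConj P Q → centralizerIn R Q ≤ Q

variable (F : FusionSystem S) (p : ℕ) (E₁ : FusionSystem T₁) (E₂ : FusionSystem T₂)

/-- The generated maps, with pieces of order greater than `k`. -/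
inductive MGen (k : ℕ) : Subgroup Ω → (Ω → Ω) → Prop
  | aut {P Q : Subgroup Ω} {n : MulAut Q} : InFc F (T₁ ⊓ T₂) Q → k < Nat.card Q → n ∈ A12 E₁ E₂ Q →
      (orderOf n).Coprime p → P ≤ Q → MGen k P (autFn n)
  | conj {P : Subgroup Ω} {r : Ω} : P ≤ T₁ ⊓ T₂ → r ∈ T₁ ⊓ T₂ → MGen k P (fun x => r * x * r⁻¹)
  | comp {P : Subgroup Ω} {f g : Ω → Ω} : MGen k P f → MGen k (img f P) g → MGen k P (fun x => g (f x))
  | congr {P : Subgroup Ω} {f g : Ω → Ω} : MGen k P f → (∀ x ∈ P, f x = g x) → MGen k P g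

/-- An intermediate saturated system containing the common automorphisms. -/
structure Amb (U : FusionSystem T) : Prop where
  sub : U.IsSubsystemOf F
  sat : U.IsSaturated p
  le : T₁ ⊓ T₂ ≤ T
  a12 : ∀ P : Subgroup Ω, P ≤ T₁ ⊓ T₂ → A12 E₁ E₂ P ≤ U.autGroup P

variable {F p E₁ E₂} {k : ℕ}

namespace MGen

theorem le {P : Subgroup Ω} {f : Ω → Ω} (h : MGen F p E₁ E₂ k P f) : P ≤ T₁ ⊓ T₂ := by
  induction h with
  | aut hc _ _ _ hP => exact hP.trans hc.1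
  | conj hP _ => exact hP
  | comp _ _ ih1 _ => exact ih1
  | congr _ _ ih => exact ih

theorem isMap {U : FusionSystem T} (hU : Amb F p E₁ E₂ U) {P : Subgroup Ω} {f : Ω → Ω}
    (h : MGen F p E₁ E₂ k P f) : IsMap U P f := by
  induction h with
  | aut hc _ hn _ hP => exact ((mem_autGroup_iff (hc.1.trans hU.le)).1 (hU.a12 _ hc.1 hn)).mono hP
  | conj hP hr => exact Fusion.IsMap.conj (hP.trans hU.le) (hU.le hr)
  | comp _ _ ih1 ih2 => exact ih1.comp ih2 fun x hx => ih1.mem_img hx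
  | congr _ e ih => exact ih.congr e

theorem id {P : Subgroup Ω} (hP : P ≤ T₁ ⊓ T₂) : MGen F p E₁ E₂ k P (fun x => x) :=
  (MGen.conj hP (one_mem _)).congr fun x _ => by group

theorem mem {U : FusionSystem T} (hU : Amb F p E₁ E₂ U) {P : Subgroup Ω} {f : Ω → Ω}
    (h : MGen F p E₁ E₂ k P f) : ∀ x ∈ P, f x ∈ T₁ ⊓ T₂ := by
  induction h with
  | aut hc _ _ _ hP => exact fun x hx => hc.1 (autFn_mem _ (hP hx))
  | conj hP hr => exact fun x hx => mul_mem (mul_mem hr (hP hx)) (inv_mem hr)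
  | @comp P f g h1 _ _ ih2 => exact fun x hx => ih2 (f x) ((h1.isMap hU).mem_img hx)
  | congr _ e ih => exact fun x hx => e x hx ▸ ih x hx

theorem mono {U : FusionSystem T} (hU : Amb F p E₁ E₂ U) {P : Subgroup Ω} {f : Ω → Ω}
    (h : MGen F p E₁ E₂ k P f) : ∀ P' : Subgroup Ω, P' ≤ P → MGen F p E₁ E₂ k P' f := by
  induction h with
  | aut hc hk hn hp hP => exact fun P' h => MGen.aut hc hk hn hp (h.trans hP)
  | conj hP hr => exact fun P' h => MGen.conj (h.trans hP) hr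
  | @comp P f g h1 _ ih1 ih2 =>
    intro P' h
    exact MGen.comp (ih1 P' h)
      (ih2 _ ((h1.isMap hU).img_le h fun x hx => (h1.isMap hU).mem_img (h hx)))
  | congr _ e ih => exact fun P' h => (ih P' h).congr fun x hx => e x (h hx)

theorem comp_of_le {U : FusionSystem T} (hU : Amb F p E₁ E₂ U) {P P' : Subgroup Ω} {f g : Ω → Ω}
    (hf : MGen F p E₁ E₂ k P f) (hg : MGen F p E₁ E₂ k P' g) (h : ∀ x ∈ P, f x ∈ P') :
    MGen F p E₁ E₂ k P (fun x => g (f x)) :=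
  MGen.comp hf (hg.mono hU _ ((hf.isMap hU).img_le le_rfl h))

theorem symm {U : FusionSystem T} (hU : Amb F p E₁ E₂ U) {P : Subgroup Ω} {f : Ω → Ω}
    (h : MGen F p E₁ E₂ k P f) :
    ∀ g : Ω → Ω, (∀ x ∈ P, g (f x) = x) → MGen F p E₁ E₂ k (img f P) g := by
  induction h with
  | @aut P Q n hc hk hn hp hP =>
    intro g hg
    have hm := (mem_autGroup_iff (hc.1.trans hU.le)).1 (hU.a12 _ hc.1 hn)
    refine (MGen.aut hc hk (inv_mem hn) (by rwa [orderOf_inv])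
      (hm.img_le hP fun x hx => autFn_mem n (hP hx))).congr fun y hy => ?_
    obtain ⟨x, hx, rfl⟩ := (hm.mem_img_iff hP).1 hy
    rw [hg x hx, autFn_inv_self n (hP hx)]
  | @conj P t hP ht =>
    intro g hg
    have hm : IsMap U P (fun x => t * x * t⁻¹) := Fusion.IsMap.conj (hP.trans hU.le) (hU.le ht)
    refine (MGen.conj (hm.img_le le_rfl fun x hx => mul_mem (mul_mem ht (hP hx)) (inv_mem ht))
      (inv_mem ht)).congr fun y hy => ?_
    obtain ⟨x, hx, rfl⟩ := (hm.mem_img_iff le_rfl).1 hy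
    rw [hg x hx]
    group
  | @comp P f₁ f₂ h₁ h₂ ih₁ ih₂ =>
    intro m hm
    obtain ⟨i, hi, hil, -⟩ := (h₁.isMap hU).isIso.symm
    obtain ⟨j, hj, hjl, -⟩ := (h₂.isMap hU).isIso.symm
    have c₁ := ih₁ i hil
    rw [((h₁.isMap hU).isIso.trans (h₂.isMap hU).isIso).2]
    refine ((ih₂ j hjl).comp_of_le hU c₁ fun y hy => hj.mem hy).congr fun y hy => ?_
    obtain ⟨z, hz, rfl⟩ := ((h₂.isMap hU).mem_img_iff le_rfl).1 hy
    obtain ⟨x, hx, rfl⟩ := ((h₁.isMap hU).mem_img_iff le_rfl).1 hz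
    rw [hjl _ hz, hil x hx, hm x hx]
  | @congr P f₁ f₂ _ e ih =>
    intro g hg
    rw [← img_congr e]
    exact ih g fun x hx => by rw [e x hx]; exact hg x hx

theorem weaken {k' : ℕ} (hk : k' ≤ k) {P : Subgroup Ω} {f : Ω → Ω} (h : MGen F p E₁ E₂ k P f) :
    MGen F p E₁ E₂ k' P f := by
  induction h with
  | aut hc hk' hn hp hP => exact MGen.aut hc (lt_of_le_of_lt hk hk') hn hp hP
  | conj hP hr => exact MGen.conj hP hr
  | comp _ _ ih1 ih2 => exact ih1.comp ih2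
  | congr _ e ih => exact ih.congr e

end MGen

theorem amb_F (h : Meet F p E₁ E₂) : Amb F p E₁ E₂ F :=
  ⟨fun _ => subset_rfl, h.sat, h.R_le, fun _ hP => h.A12_le hP⟩

theorem amb_E₁ (h : Meet F p E₁ E₂) : Amb F p E₁ E₂ E₁ :=
  ⟨h.i1.1, h.n1.1.1, inf_le_left, fun _ _ => inf_le_left⟩

theorem amb_E₂ (h : Meet F p E₁ E₂) : Amb F p E₁ E₂ E₂ :=
  ⟨h.i2.1, h.n2.1.1, inf_le_right, fun _ _ => inf_le_right⟩

/-- The generated system over `R`. -/
noncomputable def meetSys (h : Meet F p E₁ E₂) (k : ℕ) : FusionSystem (T₁ ⊓ T₂) where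
  Hom P := {φ | MGen F p E₁ E₂ k P (toFn φ)}
  le_of_mem hφ := ⟨hφ.le, fun x => toFn_coe _ x ▸ hφ.mem (amb_F h) x x.2⟩
  injective_of_mem hφ a b e :=
    Subtype.ext ((hφ.isMap (amb_F h)).inj a.2 b.2 (by rw [toFn_coe, toFn_coe, e]))
  conj_mem {P g} hP hg := (MGen.conj hP hg).congr fun x hx =>
    ((toFn_apply (conjHom P g) hx).trans rfl).symm
  comp_mem {P P' φ ψ} hφ hψ hm := by
    refine (MGen.comp_of_le (amb_F h) hφ hψ
      fun x hx => (toFn_apply φ hx).symm ▸ hm ⟨x, hx⟩).congr fun x hx => ?_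
    rw [toFn_apply (ψ.comp (φ.codRestrict P' hm)) hx, toFn_apply φ hx, toFn_apply ψ (hm ⟨x, hx⟩)]
    rfl
  inv_mem {P φ} hφ := by
    obtain ⟨ψ, hψ, hinv⟩ := F.inv_mem (mem_of_isMap (hφ.isMap (amb_F h)) fun x => (toFn_coe φ x).symm)
    refine ⟨ψ, ?_, hinv⟩
    have hs := hφ.symm (amb_F h) (toFn ψ) fun x hx => by
      rw [toFn_apply φ hx, toFn_apply ψ (show φ ⟨x, hx⟩ ∈ φ.range from ⟨_, rfl⟩)]
      exact hinv ⟨x, hx⟩
    rwa [toFn_img] at hs

theorem isMap_meetSys (h : Meet F p E₁ E₂) {P : Subgroup Ω} {f : Ω → Ω} :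
    IsMap (meetSys h k) P f ↔ MGen F p E₁ E₂ k P f := by
  constructor
  · rintro ⟨φ, hφ, e⟩
    exact MGen.congr hφ fun x hx => (toFn_apply φ hx).trans (e x hx)
  · intro hf
    obtain ⟨φ, -, e⟩ := hf.isMap (amb_F h)
    exact ⟨φ, hf.congr fun x hx => (e x hx).symm.trans (toFn_apply φ hx).symm, e⟩

theorem inFc_of_iso {R P Q : Subgroup Ω} {f : Ω → Ω} (hc : InFc F R P) (hf : IsIso F P Q f)
    (hR : F.StronglyClosed R) : InFc F R Q := by
  refine ⟨fun y hy => ?_, fun X hX => hc.2 X (isConj_trans (isConj_iff.2 ⟨f, hf⟩) hX)⟩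
  obtain ⟨x, hx, rfl⟩ := hf.exists_eq hy
  exact FusionChain.isMap_mem_of_stronglyClosed hR hf.1 hx (hc.1 hx)

namespace Meet

variable [Finite S] [Fact p.Prime] (h : Meet F p E₁ E₂)

include h

omit [Fact p.Prime] in
theorem inFc_of_le {P Q : Subgroup Ω} (hc : InFc F (T₁ ⊓ T₂) P) (hPQ : P ≤ Q) (hQ : Q ≤ T₁ ⊓ T₂) :
    InFc F (T₁ ⊓ T₂) Q := by
  refine ⟨hQ, fun X hX g hg => ?_⟩
  obtain ⟨f, hf⟩ := isConj_iff.1 hX
  have hsub : img f P ≤ X := hf.1.img_le hPQ fun x hx => hf.mem (hPQ hx)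
  exact hsub (hc.2 _ (isConj_iff.2 ⟨f, hf.mono hPQ⟩) ⟨hg.1, fun x hx => hg.2 x (hsub hx)⟩)

omit [Fact p.Prime] in
theorem inFc_self : InFc F (T₁ ⊓ T₂) (T₁ ⊓ T₂) := by
  refine ⟨le_rfl, fun Q hQ => ?_⟩
  obtain ⟨f, hf⟩ := isConj_iff.1 hQ
  rw [eq_of_le_of_card h.R_le (h.iso_le hf le_rfl) hf.card_eq.ge]
  exact inf_le_left

omit [Fact p.Prime] in
/-- Transport by an automorphism of `R`. -/
theorem transport {α : MulAut ↥(T₁ ⊓ T₂)} (hα : α ∈ F.autGroup (T₁ ⊓ T₂)) {P : Subgroup Ω}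
    {f : Ω → Ω} (hf : MGen F p E₁ E₂ k P f) :
    ∀ g : Ω → Ω, (∀ x ∈ P, g (autFn α x) = autFn α (f x)) →
      MGen F p E₁ E₂ k (img (autFn α) P) g := by
  have hF := amb_F h
  have hm : IsMap F (T₁ ⊓ T₂) (autFn α) := (mem_autGroup_iff h.R_le).1 hα
  induction hf with
  | @aut P Q n hc hk hn hp hPQ =>
    intro g hg
    have hiso : IsIso F Q (img (autFn α) Q) (autFn α) := ⟨hm.mono hc.1, rfl⟩
    refine (MGen.aut (inFc_of_iso hc hiso h.cR) (hiso.card_eq.symm ▸ hk) (h.A12_congr hiso hc.1 hn)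
      (((MulAut.congr hiso.equiv).orderOf_eq n).symm ▸ hp)
      (hm.img_le (hPQ.trans hc.1) fun x hx => hm.mem_img (hPQ hx))).congr fun y hy => ?_
    obtain ⟨x, hx, rfl⟩ := (hm.mem_img_iff (hPQ.trans hc.1)).1 hy
    rw [hg x hx, autFn_apply _ (hiso.mem (hPQ hx)), autFn_apply n (hPQ hx)]
    exact congr_apply_coe hiso n ⟨x, hPQ hx⟩
  | @conj P r hP hr =>
    intro g hg
    refine (MGen.conj (hm.img_le hP fun x hx => autFn_mem α (hP hx)) (autFn_mem α hr)).congr fun y hy => ?_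
    obtain ⟨x, hx, rfl⟩ := (hm.mem_img_iff hP).1 hy
    rw [hg x hx, hm.map_conj hr (hP hx)]
  | @comp P f₁ f₂ h₁ h₂ ih₁ ih₂ =>
    intro g hg
    have hP := h₁.le
    have hf₁ := h₁.isMap hF
    set g₁ := fun y => autFn α (f₁ (autFn α⁻¹ y))
    have e₁ : ∀ x ∈ P, g₁ (autFn α x) = autFn α (f₁ x) := fun x hx => by
      show autFn α (f₁ (autFn α⁻¹ (autFn α x))) = _
      rw [autFn_inv_self α (hP hx)]
    have c₁ := ih₁ g₁ e₁
    have hf₂R : img f₁ P ≤ T₁ ⊓ T₂ := hf₁.img_le le_rfl (h₁.mem hF)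
    have himg : img g₁ (img (autFn α) P) = img (autFn α) (img f₁ P) := by
      refine IsIso.img_eq_of (c₁.isMap hF) le_rfl (fun y hy => ?_) fun z hz => ?_
      · obtain ⟨x, hx, rfl⟩ := (hm.mem_img_iff hP).1 hy
        rw [e₁ x hx]
        exact hm.mem_img (hf₁.mem_img hx)
      · obtain ⟨w, hw, rfl⟩ := (hm.mem_img_iff hf₂R).1 hz
        obtain ⟨x, hx, rfl⟩ := (hf₁.mem_img_iff le_rfl).1 hw
        exact ⟨autFn α x, hm.mem_img hx, e₁ x hx⟩
    set g₂ := fun y => autFn α (f₂ (autFn α⁻¹ y))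
    have e₂ : ∀ x ∈ img f₁ P, g₂ (autFn α x) = autFn α (f₂ x) := fun x hx => by
      show autFn α (f₂ (autFn α⁻¹ (autFn α x))) = _
      rw [autFn_inv_self α (hf₂R hx)]
    have c₂ := ih₂ g₂ e₂
    rw [← himg] at c₂
    refine (MGen.comp c₁ c₂).congr fun y hy => ?_
    obtain ⟨x, hx, rfl⟩ := (hm.mem_img_iff hP).1 hy
    show g₂ (g₁ (autFn α x)) = g (autFn α x)
    rw [e₁ x hx, e₂ _ (hf₁.mem_img hx), hg x hx]
  | @congr P f₁ f₂ _ e ih =>
    intro g hg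
    exact ih g fun x hx => by rw [hg x hx, e x hx]

/-- Frattini factorisation of a map. -/
def FrM (_h : Meet F p E₁ E₂) (U : FusionSystem T) (P : Subgroup Ω) (f : Ω → Ω) : Prop :=
  ∃ α ∈ U.autGroup (T₁ ⊓ T₂), ∃ g, MGen F p E₁ E₂ 0 P g ∧ ∀ x ∈ P, f x = autFn α (g x)

variable {U : FusionSystem T} (hU : Amb F p E₁ E₂ U)
include hU

omit [Finite S] [Fact p.Prime] in
theorem frM_congr {P : Subgroup Ω} {f g : Ω → Ω} (hf : FrM h U P f) (e : ∀ x ∈ P, f x = g x) :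
    FrM h U P g :=
  let ⟨α, hα, g₀, hg₀, he⟩ := hf
  ⟨α, hα, g₀, hg₀, fun x hx => (e x hx).symm.trans (he x hx)⟩

omit [Finite S] [Fact p.Prime] in
theorem frM_mono {P P' : Subgroup Ω} {f : Ω → Ω} (hf : FrM h U P f) (hP : P' ≤ P) : FrM h U P' f :=
  let ⟨α, hα, g₀, hg₀, he⟩ := hf
  ⟨α, hα, g₀, hg₀.mono hU _ hP, fun x hx => he x (hP hx)⟩

omit [Fact p.Prime] in
theorem frM_comp {P P' : Subgroup Ω} {f f' : Ω → Ω} (hf : FrM h U P f) (hf' : FrM h U P' f')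
    (hm : ∀ x ∈ P, f x ∈ P') : FrM h U P (fun x => f' (f x)) := by
  obtain ⟨α, hα, g, hg, he⟩ := hf
  obtain ⟨α', hα', g', hg', he'⟩ := hf'
  have hF := amb_F h
  have hαF : α⁻¹ ∈ F.autGroup (T₁ ⊓ T₂) :=
    inv_mem (FusionNormal.autGroup_le_of_sub hU.sub hU.le hα)
  set t := fun y => autFn α⁻¹ (g' (autFn α y))
  have hP'R := hg'.le
  have ht : MGen F p E₁ E₂ 0 (img (autFn α⁻¹) P') t :=
    h.transport hαF hg' t fun x hx => by
      show autFn α⁻¹ (g' (autFn α (autFn α⁻¹ x))) = _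
      rw [autFn_self_inv α (hP'R hx)]
  have hgm : ∀ x ∈ P, g x ∈ img (autFn α⁻¹) P' := fun x hx => by
    have := ((mem_autGroup_iff h.R_le).1 hαF).mem_img (Q := P') (hm x hx)
    rwa [he x hx, autFn_inv_self α (hg.mem hF x hx)] at this
  refine ⟨α' * α, mul_mem hα' hα, fun x => t (g x), hg.comp_of_le hF ht hgm, fun x hx => ?_⟩
  have hgx := hg.mem hF x hx
  have h1 : g' (autFn α (g x)) ∈ T₁ ⊓ T₂ := hg'.mem hF _ (he x hx ▸ hm x hx)
  show f' (f x) = autFn (α' * α) (autFn α⁻¹ (g' (autFn α (g x))))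
  rw [← autFn_mul _ _ h1, mul_inv_cancel_right, ← he x hx, ← he' _ (hm x hx)]

omit [Fact p.Prime] in
theorem frM_inv {P Q : Subgroup Ω} {f fi : Ω → Ω} (hf : FrM h U P f) (hfI : IsIso U P Q f)
    (hfi : ∀ x ∈ P, fi (f x) = x) : FrM h U Q fi := by
  obtain ⟨α, hα, g, hg, he⟩ := hf
  have hF := amb_F h
  have hαF := FusionNormal.autGroup_le_of_sub hU.sub hU.le hα
  obtain ⟨gi, hgi, hgil, -⟩ := (hg.isMap hF).isIso.symm
  have hgs := hg.symm hF gi hgil
  set t := fun y => autFn α (gi (autFn α⁻¹ y))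
  have himg : img (autFn α) (img g P) = Q := by
    refine IsIso.img_eq_of ((mem_autGroup_iff h.R_le).1 hαF)
      ((hg.isMap hF).img_le le_rfl (hg.mem hF)) (fun y hy => ?_) fun z hz => ?_
    · obtain ⟨x, hx, rfl⟩ := ((hg.isMap hF).mem_img_iff le_rfl).1 hy
      rw [← he x hx]
      exact hfI.mem hx
    · obtain ⟨x, hx, rfl⟩ := hfI.exists_eq hz
      exact ⟨g x, (hg.isMap hF).mem_img hx, (he x hx).symm⟩
  have ht : MGen F p E₁ E₂ 0 Q t := himg ▸ h.transport hαF hgs t fun x hx => by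
    show autFn α (gi (autFn α⁻¹ (autFn α x))) = _
    rw [autFn_inv_self α ((hg.isMap hF).img_le le_rfl (hg.mem hF) hx)]
  refine ⟨α⁻¹, inv_mem hα, t, ht, fun y hy => ?_⟩
  obtain ⟨x, hx, rfl⟩ := hfI.exists_eq hy
  show fi (f x) = autFn α⁻¹ (autFn α (gi (autFn α⁻¹ (f x))))
  rw [hfi x hx, he x hx, autFn_inv_self α (hg.mem hF x hx), hgil x hx,
    autFn_inv_self α (hg.le hx)]

omit [Fact p.Prime] in
theorem frM_conj {P : Subgroup Ω} (hP : P ≤ T₁ ⊓ T₂) {s : Ω} (hs : s ∈ T) :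
    FrM h U P (fun x => s * x * s⁻¹) := by
  have hsS : s ∈ S := Fusion.le_of_sub hU.sub hs
  have hsR : ∀ x ∈ T₁ ⊓ T₂, s * x * s⁻¹ ∈ T₁ ⊓ T₂ :=
    fun x hx => FusionChain.conj_mem_of_stronglyClosed h.cR hsS hx
  have hm : IsMap U (T₁ ⊓ T₂) (fun x => s * x * s⁻¹) := Fusion.IsMap.conj hU.le hs
  have := finite_of_le (S := S) h.R_le
  obtain ⟨α, hα, hαe⟩ := exists_aut_of_isIso (⟨hm, eq_of_le_of_card h.R_le
    (hm.img_le le_rfl hsR) (hm.card_img le_rfl).ge⟩ : IsIso U (T₁ ⊓ T₂) (T₁ ⊓ T₂) _)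
  exact ⟨α, hα, fun x => x, MGen.id hP, fun x hx => by rw [autFn_apply α (hP hx), hαe]⟩

/-- The Frattini property in an intermediate system. -/
theorem frattini_of
    (hFc : ∀ P : Subgroup Ω, P ≤ T₁ ⊓ T₂ →
      (∀ Q, U.IsConj P Q → centralizerIn (T₁ ⊓ T₂) Q ≤ Q) → InFc F (T₁ ⊓ T₂) P)
    {P : Subgroup Ω} {f : Ω → Ω} (hP : P ≤ T₁ ⊓ T₂) (hf : IsMap U P f) : FrM h U P f := by
  set R := T₁ ⊓ T₂ with hR
  have hTS : T ≤ S := fun x hx => Fusion.le_of_sub hU.sub hx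
  have := finite_of_le hTS
  have hT : IsPGroup p T := h.pgroup.to_le hTS
  have hRU : ∀ {Q : Subgroup Ω} {g : Ω → Ω}, IsMap U Q g → ∀ x ∈ Q, x ∈ R → g x ∈ R :=
    fun hg x hx hxR => FusionChain.isMap_mem_of_stronglyClosed h.cR
      (FusionNormal.isMap_of_sub hU.sub hg) hx hxR
  have := finite_of_le (S := S) h.R_le
  have hcR : ∀ {Q : Subgroup Ω}, Q ≤ R → Nat.card Q ≤ Nat.card R := fun hQ => Subgroup.card_le_of_le hQ
  induction hd : Nat.card R - Nat.card P using Nat.strong_induction_on generalizing P f with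
  | _ d ih =>
  have hfR : img f P ≤ R := hf.img_le le_rfl fun x hx => hRU hf x hx (hP hx)
  by_cases hPR : P = R
  · subst hPR
    obtain ⟨α, hα, hαe⟩ := exists_aut_of_isIso (⟨hf, eq_of_le_of_card h.R_le hfR
      (hf.card_img le_rfl).ge⟩ : IsIso U R R f)
    exact ⟨α, hα, fun x => x, MGen.id le_rfl, fun x hx => by rw [autFn_apply α hx, hαe]⟩
  have hbig : ∀ (M : Subgroup Ω) (g : Ω → Ω), M ≤ R → Nat.card P < Nat.card M → IsMap U M g →
      FrM h U M g := fun M g hM hlt hg => ih _ (by have := hcR hM; omega) hg hM rfl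
  obtain ⟨P', u, hP', hu, huP, -⟩ := exists_fullyNormalized_map hT hU.sat (hP.trans hU.le)
  set P₂ := img f P
  have hc₂ : Nat.card P₂ = Nat.card P := hf.card_img le_rfl
  have hP₂T : P₂ ≤ T := hfR.trans hU.le
  obtain ⟨v, hv, hvP, -⟩ := exists_normalizer_map hT (fullyAutomized_of_fullyNormalized hT hU.sat hP')
    (receptive_of_fullyNormalized hT hU.sat hP')
    (isConj_trans (isConj_symm (isConj_iff.2 ⟨f, hf.isIso⟩))
      (isConj_iff.2 ⟨u, hu.mono (le_normalizerIn (hP.trans hU.le)), huP⟩))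
  have hlift : ∀ (Q : Subgroup Ω) (w : Ω → Ω), Q ≤ R → Nat.card Q = Nat.card P →
      IsMap U (normalizerIn T Q) w → FrM h U Q w := by
    intro Q w hQ hQc hw
    have hlt : Q < normalizerIn R Q := lt_normalizerIn h.pgroup h.R_le (lt_of_le_of_ne hQ fun e =>
      hPR (eq_of_le_of_card h.R_le hP (by rw [← hQc, e])))
    refine frM_mono h hU (hbig _ w inf_le_left ?_ (hw.mono (inf_le_inf_right _ hU.le))) hlt.le
    exact hQc ▸ FusionCrit.card_lt (inf_le_left.trans h.R_le) hlt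
  have hu' : IsIso U P P' u := ⟨hu.mono (le_normalizerIn (hP.trans hU.le)), huP⟩
  have hv' : IsIso U P₂ P' v := ⟨hv.mono (le_normalizerIn hP₂T), hvP⟩
  have hFu : FrM h U P u := hlift P u hP rfl hu
  have hFv : FrM h U P₂ v := hlift P₂ v hfR hc₂ hv
  obtain ⟨ui, hui, huil, -⟩ := hu'.symm
  obtain ⟨vi, hvi, hvil, -⟩ := hv'.symm
  have hP'R : P' ≤ R := huP ▸ hu.img_le (le_normalizerIn (hP.trans hU.le))
    fun x hx => hRU hu x (le_normalizerIn (hP.trans hU.le) hx) (hP hx)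
  have hc' : Nat.card P' = Nat.card P := hu'.card_eq
  obtain ⟨γ, hγ, hγe⟩ := exists_aut_of_isIso ((hui.trans hf.isIso).trans hv')
  suffices hFγ : FrM h U P' (autFn γ) by
    refine frM_congr h hU (frM_comp h hU (frM_comp h hU hFu hFγ fun x hx => hu'.mem hx)
      (frM_inv h hU hFv hv' hvil) fun x hx => autFn_mem γ (hu'.mem hx)) fun x hx => ?_
    show vi (autFn γ (u x)) = f x
    rw [autFn_apply γ (hu'.mem hx), hγe]
    show vi (v (f (ui (u x)))) = f x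
    rw [huil x hx, hvil _ (hf.mem_img hx)]
  have hrec := receptive_of_fullyNormalized hT hU.sat hP'
  by_cases hC : centralizerIn R P' ≤ P'
  swap
  · have hCN : centralizerIn R P' ≤ normalizerIn T P' :=
      (centralizerIn_le_normalizerIn R P').trans (inf_le_inf_right _ hU.le)
    obtain ⟨g, hg, hge⟩ := FusionChain.exists_extension hrec hγ hCN fun c hc => by
      rw [(normConj_eq_one_iff (⟨c, hCN hc⟩ : normalizerIn T P')).2 ⟨hU.le hc.1, hc.2⟩, mul_one,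
        mul_inv_cancel]
      exact one_mem _
    have hsup : P' ⊔ centralizerIn R P' ≤ R := sup_le hP'R inf_le_left
    refine frM_congr h hU (frM_mono h hU (hbig _ g hsup ?_ hg) le_sup_left) hge
    rw [← hc']
    exact FusionCrit.card_lt (hsup.trans h.R_le) (left_lt_sup.2 hC)
  have hFcP : InFc F R P' := by
    refine hFc P' hP'R fun Q hQ c hc => ?_
    obtain ⟨w, hw, hwQ, -⟩ := exists_normalizer_map hT (fullyAutomized_of_fullyNormalized hT hU.sat hP')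
      hrec (isConj_symm hQ)
    have hQT := (isConj_le hQ).2
    have hcN : c ∈ normalizerIn T Q := centralizerIn_le_normalizerIn T Q ⟨hU.le hc.1, hc.2⟩
    have hwc : w c ∈ centralizerIn R P' :=
      ⟨hRU hw c hcN hc.1, (map_centralizerIn hw (le_normalizerIn hQT) hwQ hcN ⟨hU.le hc.1, hc.2⟩).2⟩
    obtain ⟨q, hq, hqe⟩ := (hw.mem_img_iff (le_normalizerIn hQT)).1 (hwQ.symm ▸ hC hwc)
    rwa [← hw.inj (le_normalizerIn hQT hq) hcN hqe]
  have hP'T : P' ≤ T := hP'R.trans hU.le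
  have := finite_mulAut (S := T) hP'T
  have hP'ne : P' ≠ R := fun e => hPR (eq_of_le_of_card h.R_le hP (by rw [← hc', e]))
  set A := A12 E₁ E₂ P'
  have hAU : A ≤ U.autGroup P' := hU.a12 P' hP'R
  have hAn : ∀ g ∈ U.autGroup P', ∀ a ∈ A, g * a * g⁻¹ ∈ A := fun g hg a ha =>
    h.A12_normal hP'R (FusionNormal.autGroup_le_of_sub hU.sub hP'T hg) ha
  have hSylA : IsSylowIn p (autInducedBy T P' ⊓ A) A :=
    (isFullyAutomized_iff.1 (fullyAutomized_of_fullyNormalized hT hU.sat hP')).2.inf_normal hAU hAn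
  let H : Subgroup (MulAut P') :=
    { carrier := {a | a ∈ U.autGroup P' ∧ FrM h U P' (autFn a)}
      one_mem' := ⟨one_mem _, 1, one_mem _, fun x => x, MGen.id hP'R, fun x hx => by
        rw [autFn_apply _ hx, autFn_apply _ (hP'R hx)]; rfl⟩
      mul_mem' := fun {a b} ha hb => ⟨mul_mem ha.1 hb.1,
        frM_congr h hU (frM_comp h hU hb.2 ha.2 fun x hx => autFn_mem b hx)
          fun x hx => (autFn_mul a b hx).symm⟩
      inv_mem' := fun {a} ha => ⟨inv_mem ha.1, frM_inv h hU ha.2 (isIso_autFn hP'T ha.1)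
        fun x hx => autFn_inv_self a hx⟩ }
  have hAH : A ≤ H := by
    refine FusionNormal.autGroup_le_of_sylow_pResidual hSylA (fun z hz => ⟨hAU hz.2, ?_⟩)
      fun n hn hc => ⟨hAU hn, 1, one_mem _, _, MGen.aut hFcP ?_ hn hc le_rfl, fun x hx => ?_⟩
    · obtain ⟨s, hs, hse⟩ := mem_autInducedBy_iff.1 hz.1
      exact frM_congr h hU (frM_conj h hU hP'R hs) fun x hx => by rw [autFn_apply z hx, hse]
    · have := finite_of_le (S := S) (hP'R.trans h.R_le)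
      exact Nat.card_pos
    · rw [autFn_apply (1 : MulAut ↥(T₁ ⊓ T₂)) (hP'R (autFn_mem n hx))]
      rfl
  -- Frattini
  obtain ⟨a, ha, haZ⟩ := hSylA.exists_conj_le (hSylA.isPGroup.map (MulAut.conj γ).toMonoidHom) (by
    rintro _ ⟨z, hz, rfl⟩
    exact hAn γ hγ z hz.2)
  have hagU : a * γ ∈ U.autGroup P' := mul_mem (hAU ha) hγ
  obtain ⟨g, hg, hge, -⟩ := FusionChain.exists_extension_NK hrec hagU A fun z hz => by
    have := haZ _ ⟨z, hz, rfl⟩
    simpa [mul_assoc] using this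
  have hN : normalizerIn R P' ≤ P' ⊔ NK T P' A := fun r hr => Subgroup.mem_sup_right (mem_NK.2
    ⟨hU.le hr.1, normConj R P' ⟨r, hr⟩, autR_le_A12 hP'R ((range_normConj R P').le ⟨_, rfl⟩),
      fun x => rfl⟩)
  have hlt : P' < normalizerIn R P' := lt_normalizerIn h.pgroup h.R_le (lt_of_le_of_ne hP'R hP'ne)
  have h1 : FrM h U P' g := frM_mono h hU (hbig _ g inf_le_left
    (hc' ▸ FusionCrit.card_lt (inf_le_left.trans h.R_le) hlt) (hg.mono hN)) hlt.le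
  have h2 : a * γ ∈ H := ⟨hagU, frM_congr h hU h1 hge⟩
  have h3 := mul_mem (inv_mem (hAH ha)) h2
  rw [inv_mul_cancel_left] at h3
  exact h3.2

omit hU in
/-- The Frattini property in `F`. -/
theorem frattini {P : Subgroup Ω} {f : Ω → Ω} (hP : P ≤ T₁ ⊓ T₂) (hf : IsMap F P f) : FrM h F P f :=
  frattini_of h (amb_F h) (fun _ hP hc => ⟨hP, hc⟩) hP hf

omit hU in
/-- Centricity in the generated system gives membership in the family. -/
theorem inFc_of_gen {P : Subgroup Ω} (hP : P ≤ T₁ ⊓ T₂)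
    (hc : ∀ g, MGen F p E₁ E₂ 0 P g → centralizerIn (T₁ ⊓ T₂) (img g P) ≤ img g P) :
    InFc F (T₁ ⊓ T₂) P := by
  have hF := amb_F h
  refine ⟨hP, fun Q hQ c hcQ => ?_⟩
  obtain ⟨f, hf⟩ := isConj_iff.1 hQ
  obtain ⟨α, hα, g, hg, he⟩ := h.frattini hP hf.1
  have hm : IsMap F (T₁ ⊓ T₂) (autFn α) := (mem_autGroup_iff h.R_le).1 hα
  have hgU := hg.isMap hF
  set c' := autFn α⁻¹ c
  have hc' : c' ∈ T₁ ⊓ T₂ := autFn_mem _ hcQ.1
  have h1 : c' ∈ centralizerIn (T₁ ⊓ T₂) (img g P) := by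
    refine mem_centralizerIn_of_conj hc' fun y hy => ?_
    obtain ⟨x, hx, rfl⟩ := (hgU.mem_img_iff le_rfl).1 hy
    have hgx := hg.mem hF x hx
    apply hm.inj (mul_mem (mul_mem hc' hgx) (inv_mem hc')) hgx
    rw [hm.map_conj hc' hgx, autFn_self_inv α hcQ.1, ← he x hx]
    exact centralizerIn_conj hcQ (hf.mem hx)
  obtain ⟨x, hx, hxe⟩ := (hgU.mem_img_iff le_rfl).1 (hc g hg h1)
  have h2 := he x hx
  rw [hxe, autFn_self_inv α hcQ.1] at h2
  exact h2 ▸ hf.mem hx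

/-- Centricity in an intermediate system gives membership in the family. -/
theorem inFc_of_amb {P : Subgroup Ω} (hP : P ≤ T₁ ⊓ T₂)
    (hc : ∀ Q, U.IsConj P Q → centralizerIn (T₁ ⊓ T₂) Q ≤ Q) : InFc F (T₁ ⊓ T₂) P :=
  inFc_of_gen h hP fun g hg => hc _ (isConj_iff.2 ⟨g, (hg.isMap hU).isIso⟩)

/-- The Frattini property in every intermediate system. -/
theorem frattini_amb {P : Subgroup Ω} {f : Ω → Ω} (hP : P ≤ T₁ ⊓ T₂) (hf : IsMap U P f) :
    FrM h U P f :=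
  frattini_of h hU (fun _ hP hc => inFc_of_amb h hU hP hc) hP hf

end Meet

end Cfsg.Agent.FusionLayer
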