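import Cfsg.Agent.S5136
import Cfsg.Agent.Lib.FusionProduct.Components
import Cfsg.Agent.Lib.Fusion.Quotient
import Cfsg.Agent.Lib.FusionCrit.Product
import Cfsg.Agent.Lib.FusionLayer.Central

/-
The product of two commuting subsystems inside one group, as a factor system of the direct product.
Main results (namespace `Cfsg.Agent.FusionLayer`): `IsProd`, `exists_prod`.
-/

set_option autoImplicit false

namespace Cfsg.Agent.FusionLayer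

open Cfsg Cfsg.FusionSystem Cfsg.Agent.Fusion

variable {Ω : Type*} [Group Ω] {S T₁ T₂ : Subgroup Ω}

/-- `x * y` decompositions of the elements of `P` inside `A` and `B`. -/
def Covers (A B P : Subgroup Ω) : Prop := ∀ z ∈ P, ∃ x ∈ A, ∃ y ∈ B, z = x * y

/-- `D` consists of the products of the maps of `E₁` and `E₂`. -/
structure IsProd (D : FusionSystem (T₁ ⊔ T₂)) (E₁ : FusionSystem T₁) (E₂ : FusionSystem T₂) :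
    Prop where
  intro' : ∀ {P A B : Subgroup Ω} {f f₁ f₂ : Ω → Ω}, IsMap E₁ A f₁ → IsMap E₂ B f₂ →
    T₁ ⊓ T₂ ≤ A → T₁ ⊓ T₂ ≤ B → Covers A B P →
    (∀ x ∈ A, ∀ y ∈ B, x * y ∈ P → f (x * y) = f₁ x * f₂ y) → IsMap D P f
  elim : ∀ {P : Subgroup Ω} {f : Ω → Ω}, IsMap D P f → ∃ A B f₁ f₂,
    IsMap E₁ A f₁ ∧ IsMap E₂ B f₂ ∧ T₁ ⊓ T₂ ≤ A ∧ T₁ ⊓ T₂ ≤ B ∧ Covers A B P ∧
    (∀ x ∈ A, ∀ y ∈ B, x * y ∈ P → f (x * y) = f₁ x * f₂ y) ∧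
    (∀ x ∈ A, ∃ y ∈ B, x * y ∈ P) ∧ ∀ y ∈ B, ∃ x ∈ A, x * y ∈ P

/-- Two decompositions differ by an element of the intersection. -/
theorem inv_mul_mem_inf {x x' y y' : Ω} (hx : x ∈ T₁) (hx' : x' ∈ T₁) (hy : y ∈ T₂) (hy' : y' ∈ T₂)
    (e : x * y = x' * y') : x⁻¹ * x' ∈ T₁ ⊓ T₂ := by
  refine ⟨T₁.mul_mem (T₁.inv_mem hx) hx', ?_⟩
  rw [show x⁻¹ * x' = y * y'⁻¹ by rw [inv_mul_eq_iff_eq_mul, ← mul_assoc, e, mul_inv_cancel_right]]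
  exact T₂.mul_mem hy (T₂.inv_mem hy')

/-- Multiplication on a commuting pair. -/
def mulHom (hc : ∀ x ∈ T₁, ∀ y ∈ T₂, x * y = y * x) : ↥(T₁.prod T₂) →* Ω :=
  MonoidHom.mk' (fun z => (z : Ω × Ω).1 * (z : Ω × Ω).2) fun a b => by
    show ((a : Ω × Ω).1 * (b : Ω × Ω).1) * ((a : Ω × Ω).2 * (b : Ω × Ω).2) = _
    rw [mul_assoc, ← mul_assoc (b : Ω × Ω).1, hc _ b.2.1 _ a.2.2]
    simp only [mul_assoc]

theorem thF_mulHom (hc : ∀ x ∈ T₁, ∀ y ∈ T₂, x * y = y * x) {z : Ω × Ω} (hz : z ∈ T₁.prod T₂) :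
    thF (mulHom hc) z = z.1 * z.2 := thF_apply _ hz

theorem mulHom_range (hc : ∀ x ∈ T₁, ∀ y ∈ T₂, x * y = y * x) :
    (mulHom hc).range = T₁ ⊔ T₂ := by
  refine le_antisymm ?_ (sup_le (fun x hx => ?_) fun y hy => ?_)
  · rintro _ ⟨z, rfl⟩
    exact mul_mem (Subgroup.mem_sup_left z.2.1) (Subgroup.mem_sup_right z.2.2)
  · exact ⟨⟨(x, 1), hx, one_mem _⟩, mul_one x⟩
  · exact ⟨⟨(1, y), one_mem _, hy⟩, one_mul y⟩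

theorem covers_top (hc : ∀ x ∈ T₁, ∀ y ∈ T₂, x * y = y * x) : Covers T₁ T₂ (T₁ ⊔ T₂) := by
  intro z hz
  rw [← mulHom_range hc] at hz
  obtain ⟨w, rfl⟩ := hz
  exact ⟨_, w.2.1, _, w.2.2, rfl⟩

theorem IsProd.mem_decomp {D : FusionSystem (T₁ ⊔ T₂)} {E₁ : FusionSystem T₁} {E₂ : FusionSystem T₂}
    {A B : Subgroup Ω} (_h : IsProd D E₁ E₂) (hA : A ≤ T₁) (hB : B ≤ T₂) (hRA : T₁ ⊓ T₂ ≤ A)
    {x y x' y' : Ω} (hx : x ∈ A) (hy : y ∈ B) (hx' : x' ∈ T₁) (hy' : y' ∈ T₂)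
    (e : x * y = x' * y') : x' ∈ A := by
  have := mul_mem hx (hRA (inv_mul_mem_inf (hA hx) hx' (hB hy) hy' e))
  rwa [mul_inv_cancel_left] at this

/-- The product exists, is saturated and is a central product. -/
theorem exists_prod [Finite T₁] [Finite T₂] {p : ℕ} [Fact p.Prime] (h₁ : IsPGroup p T₁)
    (h₂ : IsPGroup p T₂) {E₁ : FusionSystem T₁} {E₂ : FusionSystem T₂} (hs₁ : E₁.IsSaturated p)
    (hs₂ : E₂.IsSaturated p) (hc : ∀ x ∈ T₁, ∀ y ∈ T₂, x * y = y * x)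
    (hz₁ : T₁ ⊓ T₂ ≤ E₁.center) (hz₂ : T₁ ⊓ T₂ ≤ E₂.center) :
    ∃ D : FusionSystem (T₁ ⊔ T₂), D.IsSaturated p ∧ IsCentralProductOf E₁ E₂ D ∧ IsProd D E₁ E₂ := by
  obtain ⟨D₀, hD₀⟩ := S5136.result p h₁ h₂ E₁ E₂
  have hs₀ := FusionCrit.isSaturated_product h₁ h₂ hs₁ hs₂ hD₀
  haveI : Finite (T₁.prod T₂) := Finite.of_equiv _ (Subgroup.prodEquiv T₁ T₂).symm.toEquiv
  obtain ⟨a₁, ha₁⟩ := IsPGroup.iff_card.1 h₁
  obtain ⟨a₂, ha₂⟩ := IsPGroup.iff_card.1 h₂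
  have hp₀ : IsPGroup p (T₁.prod T₂) :=
    IsPGroup.of_card (n := a₁ + a₂) (by rw [FusionCrit.card_prod, ha₁, ha₂, pow_add])
  set θ := mulHom hc with hθ
  set Z : Subgroup (Ω × Ω) := θ.ker.map (T₁.prod T₂).subtype with hZ
  have hZmem : ∀ z : Ω × Ω, z ∈ Z ↔ z ∈ T₁.prod T₂ ∧ z.1 * z.2 = 1 := fun z => by
    constructor
    · rintro ⟨w, hw, rfl⟩
      exact ⟨w.2, hw⟩
    · rintro ⟨hz, e⟩
      exact ⟨⟨z, hz⟩, e, rfl⟩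
  have hZR : ∀ z ∈ Z, z.1 ∈ T₁ ⊓ T₂ ∧ z.2 ∈ T₁ ⊓ T₂ := fun z hz => by
    obtain ⟨⟨h1, h2⟩, e⟩ := (hZmem z).1 hz
    refine ⟨⟨h1, ?_⟩, ?_, h2⟩
    · rw [eq_inv_of_mul_eq_one_left e]
      exact T₂.inv_mem h2
    · rw [eq_inv_of_mul_eq_one_right e]
      exact T₁.inv_mem h1
  have hZc : D₀.IsCentral Z := by
    refine isCentral_of_fn (fun z hz => ((hZmem z).1 hz).1) fun P f hf => ?_
    obtain ⟨hP, f₁, f₂, hf₁, hf₂, e⟩ := (FusionCrit.isMap_product_iff hD₀).1 hf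
    obtain ⟨g₁, hg₁, hge₁, hgR₁⟩ := fix_of_center hz₁ hf₁
    obtain ⟨g₂, hg₂, hge₂, hgR₂⟩ := fix_of_center hz₂ hf₂
    refine ⟨fun z => (g₁ z.1, g₂ z.2), (FusionCrit.isMap_product_iff hD₀).2
      ⟨sup_le hP fun z hz => ((hZmem z).1 hz).1, g₁, g₂, hg₁.mono ?_, hg₂.mono ?_, fun _ _ => rfl⟩,
      fun z hz => ?_, fun z hz => Prod.ext (hgR₁ _ (hZR z hz).1) (hgR₂ _ (hZR z hz).2)⟩
    · rw [FusionCrit.pr₁, Subgroup.map_sup]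
      exact sup_le_sup_left (fun _ ⟨z, hz, e⟩ => e ▸ (hZR z hz).1) _
    · rw [FusionCrit.pr₂, Subgroup.map_sup]
      exact sup_le_sup_left (fun _ ⟨z, hz, e⟩ => e ▸ (hZR z hz).2) _
    · show _ = f z
      rw [e z hz]
      exact Prod.ext (hge₁ _ ⟨z, hz, rfl⟩) (hge₂ _ ⟨z, hz, rfl⟩)
  have hker : ∀ w : ↥(T₁.prod T₂), θ w = 1 ↔ (w : Ω × Ω) ∈ Z := fun w =>
    ⟨fun h => (hZmem _).2 ⟨w.2, h⟩, fun h => ((hZmem _).1 h).2⟩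
  have Q : QData D₀ Z θ (T₁ ⊔ T₂) :=
    ⟨Fusion.stronglyClosed_of_normal (FusionProduct.isNormal_of_central' hZc), hker, mulHom_range hc⟩
  obtain ⟨D, hD⟩ := Q.exists_factorSystem
  have hpre : ∀ {P : Subgroup Ω} {z : Ω × Ω}, z ∈ preimageAlong θ P ↔
      z ∈ T₁.prod T₂ ∧ z.1 * z.2 ∈ P := fun {P z} => by
    rw [mem_preimageAlong]
    exact and_congr_right fun hz => by rw [hθ, thF_mulHom hc hz]
  refine ⟨D, Q.isSaturated_factor hp₀ hs₀ hD, ⟨D₀, hD₀, Z, θ, le_sSup hZc, ?_, ?_,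
    fun x hx => mul_one x, fun y hy => one_mul y, hD⟩, ⟨?_, ?_⟩⟩
  · refine (Subgroup.eq_bot_iff_forall _).2 fun z hzz => ?_
    obtain ⟨hz, -, h2⟩ := hzz
    obtain ⟨-, e⟩ := (hZmem z).1 hz
    rw [Subgroup.mem_bot.1 h2, mul_one] at e
    exact Prod.ext e (Subgroup.mem_bot.1 h2)
  · refine (Subgroup.eq_bot_iff_forall _).2 fun z hzz => ?_
    obtain ⟨hz, h1, -⟩ := hzz
    obtain ⟨-, e⟩ := (hZmem z).1 hz
    rw [Subgroup.mem_bot.1 h1, one_mul] at e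
    exact Prod.ext (Subgroup.mem_bot.1 h1) e
  · intro P A B f f₁ f₂ hf₁ hf₂ hRA hRB hcov he
    have hP : P ≤ T₁ ⊔ T₂ := fun z hz => by
      obtain ⟨x, hx, y, hy, rfl⟩ := hcov z hz
      exact mul_mem (Subgroup.mem_sup_left (hf₁.le hx)) (Subgroup.mem_sup_right (hf₂.le hy))
    have hmem : ∀ z ∈ preimageAlong θ P, z.1 ∈ A ∧ z.2 ∈ B := fun z hz => by
      obtain ⟨hz, hzP⟩ := hpre.1 hz
      obtain ⟨x, hx, y, hy, e⟩ := hcov _ hzP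
      have h1 : x⁻¹ * z.1 ∈ T₁ ⊓ T₂ :=
        inv_mul_mem_inf (hf₁.le hx) hz.1 (hf₂.le hy) hz.2 e.symm
      have hzA : z.1 ∈ A := by simpa using mul_mem hx (hRA h1)
      refine ⟨hzA, ?_⟩
      have h2 : z.2 = (x⁻¹ * z.1)⁻¹ * y := by
        rw [mul_inv_rev, inv_inv, mul_assoc, ← e, inv_mul_cancel_left]
      rw [h2]
      exact mul_mem (inv_mem (hRB h1)) hy
    refine (QData.isMap_factor_iff hD).2 ⟨hP, fun z => (f₁ z.1, f₂ z.2),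
      (FusionCrit.isMap_product_iff hD₀).2 ⟨preimageAlong_le θ P, f₁, f₂, hf₁.mono ?_, hf₂.mono ?_,
        fun _ _ => rfl⟩, fun z hz => ?_⟩
    · exact fun _ ⟨z, hz, e⟩ => e ▸ (hmem z hz).1
    · exact fun _ ⟨z, hz, e⟩ => e ▸ (hmem z hz).2
    · obtain ⟨hz', hzP⟩ := hpre.1 hz
      rw [hθ, thF_mulHom hc hz', thF_mulHom hc (z := (f₁ z.1, f₂ z.2))
        ⟨hf₁.mem (hmem z hz).1, hf₂.mem (hmem z hz).2⟩]
      exact he _ (hmem z hz).1 _ (hmem z hz).2 hzP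
  · intro P f hf
    obtain ⟨hP, g, hg, hge⟩ := (QData.isMap_factor_iff hD).1 hf
    obtain ⟨-, f₁, f₂, hf₁, hf₂, e⟩ := (FusionCrit.isMap_product_iff hD₀).1 hg
    set A := FusionCrit.pr₁ (preimageAlong θ P)
    set B := FusionCrit.pr₂ (preimageAlong θ P)
    have hR : ∀ r ∈ T₁ ⊓ T₂, ((r, r⁻¹) : Ω × Ω) ∈ preimageAlong θ P ∧
        ((r⁻¹, r) : Ω × Ω) ∈ preimageAlong θ P := fun r hr =>
      ⟨hpre.2 ⟨⟨hr.1, T₂.inv_mem hr.2⟩, by rw [mul_inv_cancel]; exact one_mem P⟩,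
        hpre.2 ⟨⟨T₁.inv_mem hr.1, hr.2⟩, by rw [inv_mul_cancel]; exact one_mem P⟩⟩
    refine ⟨A, B, f₁, f₂, hf₁, hf₂, fun r hr => ⟨_, (hR r hr).1, rfl⟩,
      fun r hr => ⟨_, (hR r hr).2, rfl⟩, fun z hz => ?_, fun x hx y hy hxy => ?_,
      fun _ ⟨z, hz, e⟩ => e ▸ ⟨z.2, ⟨z, hz, rfl⟩, (hpre.1 hz).2⟩,
      fun _ ⟨z, hz, e⟩ => e ▸ ⟨z.1, ⟨z, hz, rfl⟩, (hpre.1 hz).2⟩⟩
    · obtain ⟨x, hx, y, hy, rfl⟩ := covers_top hc z (hP hz)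
      have h : (x, y) ∈ preimageAlong θ P := hpre.2 ⟨⟨hx, hy⟩, hz⟩
      exact ⟨x, ⟨_, h, rfl⟩, y, ⟨_, h, rfl⟩, rfl⟩
    · have h : (x, y) ∈ preimageAlong θ P := hpre.2 ⟨⟨hf₁.le hx, hf₂.le hy⟩, hxy⟩
      have h' := hge _ h
      rw [hθ, thF_mulHom hc ⟨hf₁.le hx, hf₂.le hy⟩, e _ h,
        thF_mulHom hc (z := (f₁ x, f₂ y)) ⟨hf₁.mem hx, hf₂.mem hy⟩] at h'
      exact h'

end Cfsg.Agent.FusionLayer
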