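import Cfsg.Agent.Lib.FusionLayer.Product
import Cfsg.Agent.Lib.FusionLayer.ProductAlgebra
import Cfsg.Agent.Lib.FusionChain.Puig
import Cfsg.Agent.Lib.FusionInner.Basic

/-
Products of commuting normal subsystems: the product is a subsystem, its transports, and its automizers
of fully normalized subgroups are normalized.
Main results (namespace `Cfsg.Agent.FusionLayer`): `Pair`, `Pair.closed`, `Pair.isSub`, `Pair.transport`,
`Pair.conj_mem_prod`.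
-/

set_option autoImplicit false

namespace Cfsg.Agent.FusionLayer

open Cfsg Cfsg.Agent.Fusion Cfsg.Agent.FusionNormalCent
open Cfsg.FusionSystem hiding inv_mem
open Cfsg.Agent.FusionCrit (autFn_mul autFn_inv_self autFn_self_inv)

variable {Ω : Type*} [Group Ω] {S T₁ T₂ : Subgroup Ω} {F : FusionSystem S} {p : ℕ}

/-- Two commuting normal subsystems meeting in the centre of each. -/
structure Pair (F : FusionSystem S) (p : ℕ) (E₁ : FusionSystem T₁) (E₂ : FusionSystem T₂) : Prop where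
  sat : F.IsSaturated p
  n1 : E₁.IsNormalIn F p
  n2 : E₂.IsNormalIn F p
  comm : ∀ x ∈ T₁, ∀ y ∈ T₂, x * y = y * x
  z1 : T₁ ⊓ T₂ ≤ E₁.center
  z2 : T₁ ⊓ T₂ ≤ E₂.center

variable {E₁ : FusionSystem T₁} {E₂ : FusionSystem T₂} {D : FusionSystem (T₁ ⊔ T₂)}

namespace Pair

variable (h : Pair F p E₁ E₂)
include h

theorem c1 : F.StronglyClosed T₁ := h.n1.1.2.2.2.1

theorem c2 : F.StronglyClosed T₂ := h.n2.1.2.2.2.1

theorem sup_le_S : T₁ ⊔ T₂ ≤ S := sup_le h.c1.1 h.c2.1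

theorem cR : F.StronglyClosed (T₁ ⊓ T₂) := FusionInner.stronglyClosed_inf h.c1 h.c2

theorem le_cen2 : T₂ ≤ centralizerIn S T₁ := fun y hy =>
  mem_centralizerIn.2 ⟨h.c2.1 hy, fun x hx => (h.comm x hx y hy).symm⟩

theorem le_cen1 : T₁ ≤ centralizerIn S T₂ := fun x hx =>
  mem_centralizerIn.2 ⟨h.c1.1 hx, fun y hy => h.comm x hx y hy⟩

theorem R_comm {r z : Ω} (hr : r ∈ T₁ ⊓ T₂) (hz : z ∈ T₁ ⊔ T₂) : r * z = z * r := by
  obtain ⟨x, hx, y, hy, rfl⟩ := covers_top h.comm z hz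
  rw [← mul_assoc, ← h.comm x hx r hr.2, mul_assoc, h.comm r hr.1 y hy, mul_assoc]

variable [Finite S]

omit h in
theorem isMap_fixR {T : Subgroup Ω} {E : FusionSystem T} [Finite T] {R A : Subgroup Ω} {f : Ω → Ω}
    (hR : R ≤ E.center) (hA : R ≤ A) (hf : IsMap E A f) {r : Ω} (hr : r ∈ R) : f r = r := by
  obtain ⟨g, -, hge, hgR⟩ := fix_of_center hR hf
  rw [← hge r (hA hr), hgR r hr]

theorem fix1 {A : Subgroup Ω} {f : Ω → Ω} (hA : T₁ ⊓ T₂ ≤ A) (hf : IsMap E₁ A f) {r : Ω}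
    (hr : r ∈ T₁ ⊓ T₂) : f r = r :=
  have := finite_of_le h.c1.1
  isMap_fixR h.z1 hA hf hr

theorem fix2 {A : Subgroup Ω} {f : Ω → Ω} (hA : T₁ ⊓ T₂ ≤ A) (hf : IsMap E₂ A f) {r : Ω}
    (hr : r ∈ T₁ ⊓ T₂) : f r = r :=
  have := finite_of_le h.c2.1
  isMap_fixR h.z2 hA hf hr

/-- The product of two maps does not depend on the decomposition. -/
theorem prod_consistent {A B : Subgroup Ω} {f₁ f₂ : Ω → Ω} (hA : T₁ ⊓ T₂ ≤ A) (hB : T₁ ⊓ T₂ ≤ B)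
    (hf₁ : IsMap E₁ A f₁) (hf₂ : IsMap E₂ B f₂) {x y x' y' : Ω} (hx : x ∈ A) (hy : y ∈ B)
    (hx' : x' ∈ A) (hy' : y' ∈ B) (e : x * y = x' * y') : f₁ x * f₂ y = f₁ x' * f₂ y' := by
  have hr := inv_mul_mem_inf (hf₁.le hx) (hf₁.le hx') (hf₂.le hy) (hf₂.le hy') e
  set r := x⁻¹ * x'
  have hy'r : y = r * y' := by
    show y = x⁻¹ * x' * y'
    rw [mul_assoc, ← e, inv_mul_cancel_left]
  have hx'r : x' = x * r := (mul_inv_cancel_left x x').symm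
  clear_value r
  rw [hy'r, hx'r, hf₂.map_mul (hB hr) hy', hf₁.map_mul hx (hA hr), h.fix2 hB hf₂ hr,
    h.fix1 hA hf₁ hr, mul_assoc]

/-- Products of maps, as a single function. -/
theorem exists_prod_fn {A B P : Subgroup Ω} {f₁ f₂ : Ω → Ω} (hA : T₁ ⊓ T₂ ≤ A) (hB : T₁ ⊓ T₂ ≤ B)
    (hf₁ : IsMap E₁ A f₁) (hf₂ : IsMap E₂ B f₂) (hcov : Covers A B P) :
    ∃ f : Ω → Ω, ∀ x ∈ A, ∀ y ∈ B, x * y ∈ P → f (x * y) = f₁ x * f₂ y := by
  classical
  refine ⟨fun z => if hz : z ∈ P then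
    f₁ (hcov z hz).choose * f₂ (hcov z hz).choose_spec.2.choose else 1, fun x hx y hy hxy => ?_⟩
  dsimp only
  rw [dif_pos hxy]
  have hs := (hcov _ hxy).choose_spec
  exact h.prod_consistent hA hB hf₁ hf₂ hs.1 hs.2.choose_spec.1 hx hy hs.2.choose_spec.2.symm

variable [Fact p.Prime] (hS : IsPGroup p S)
include hS

theorem closed : F.StronglyClosed (T₁ ⊔ T₂) := by
  refine stronglyClosed_iff.2 ⟨h.sup_le_S, fun P f hf z hzP hz => ?_⟩
  obtain ⟨g, hg, hge⟩ := FusionChain.exists_map_congr_mod hS h.sat h.c1 hf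
  obtain ⟨x, hx, y, hy, rfl⟩ := covers_top h.comm z hz
  have hxP : x ∈ P ⊔ T₁ := Subgroup.mem_sup_right hx
  have hyP : y ∈ P ⊔ T₁ := by
    simpa using mul_mem (inv_mem hxP) (Subgroup.mem_sup_left hzP : x * y ∈ P ⊔ T₁)
  have h1 : g (x * y) ∈ T₁ ⊔ T₂ := by
    rw [hg.map_mul hxP hyP]
    exact mul_mem (Subgroup.mem_sup_left ((stronglyClosed_iff.1 h.c1).2 _ g hg x hxP hx))
      (Subgroup.mem_sup_right ((stronglyClosed_iff.1 h.c2).2 _ g hg y hyP hy))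
  simpa using mul_mem h1 (Subgroup.mem_sup_left (hge _ hzP) : _ ∈ T₁ ⊔ T₂)

variable (hD : IsProd D E₁ E₂)
include hD

/-- The product is a subsystem. -/
theorem isSub : D.IsSubsystemOf F := by
  intro P φ hφ
  obtain ⟨A, B, f₁, f₂, hf₁, hf₂, -, -, hcov, he, -, -⟩ := hD.elim (isMap_toFn hφ)
  obtain ⟨g₁, hg₁, hge₁, hgX₁⟩ := (centralizes_of_closed hS h.sat h.n1 h.c2 h.le_cen2 h.z1).2 _ _ hf₁
  obtain ⟨g₂, hg₂, hge₂, hgX₂⟩ :=
    (centralizes_of_closed hS h.sat h.n2 h.c1 h.le_cen1 (inf_comm T₂ T₁ ▸ h.z2)).2 _ _ hf₂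
  have hAB : A ⊔ B ≤ A ⊔ T₂ := sup_le_sup_left hf₂.le A
  have hmem : ∀ z ∈ A ⊔ B, g₁ z ∈ B ⊔ T₁ := fun z hz => (hg₁.mono hAB).forall_mem_sup le_sup_left
    le_sup_right (fun x hx => Subgroup.mem_sup_right (hge₁ x hx ▸ hf₁.mem hx))
    (fun y hy => Subgroup.mem_sup_left ((hgX₁ y (hf₂.le hy)).symm ▸ hy)) hz
  have hg : IsMap F (A ⊔ B) (fun z => g₂ (g₁ z)) := (hg₁.mono hAB).comp hg₂ hmem
  have hP : P ≤ A ⊔ B := fun z hz => by
    obtain ⟨x, hx, y, hy, rfl⟩ := hcov z hz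
    exact mul_mem (Subgroup.mem_sup_left hx) (Subgroup.mem_sup_right hy)
  refine mem_of_isMap ((hg.mono hP).congr fun z hz => ?_) fun z => (toFn_coe φ z).symm
  obtain ⟨x, hx, y, hy, rfl⟩ := hcov z hz
  show g₂ (g₁ (x * y)) = _
  rw [he x hx y hy hz, hg₁.map_mul (Subgroup.mem_sup_left hx) (Subgroup.mem_sup_right (hf₂.le hy)),
    hge₁ x hx, hgX₁ y (hf₂.le hy), hg₂.map_mul (Subgroup.mem_sup_right (hf₁.mem hx))
      (Subgroup.mem_sup_left hy), hgX₂ _ (hf₁.mem hx), hge₂ y hy]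

/-- Transport of the product along automorphisms of `T₁ T₂`. -/
theorem transport {α : MulAut ↥(T₁ ⊔ T₂)} (hα : α ∈ F.autGroup (T₁ ⊔ T₂)) {P : Subgroup Ω}
    {f : Ω → Ω} (hf : IsMap D P f) :
    ∃ g, IsMap D (img (autFn α) P) g ∧ ∀ x ∈ P, g (autFn α x) = autFn α (f x) := by
  obtain ⟨A, B, f₁, f₂, hf₁, hf₂, hA, hB, hcov, he, -, -⟩ := hD.elim hf
  have hαm : IsMap F (T₁ ⊔ T₂) (autFn α) := (mem_autGroup_iff h.sup_le_S).1 hα
  obtain ⟨α₁, hα₁, hα₁e, -⟩ := FusionInner.exists_restrict h.sup_le_S le_sup_left hα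
    fun x hx => (stronglyClosed_iff.1 h.c1).2 _ _ hαm x (Subgroup.mem_sup_left hx) hx
  obtain ⟨α₂, hα₂, hα₂e, -⟩ := FusionInner.exists_restrict h.sup_le_S le_sup_right hα
    fun x hx => (stronglyClosed_iff.1 h.c2).2 _ _ hαm x (Subgroup.mem_sup_right hx) hx
  obtain ⟨g₁, hg₁, hge₁⟩ := FusionNormal.transport_map h.n1.1.2.2 hf₁.le hf₁ hα₁
  obtain ⟨g₂, hg₂, hge₂⟩ := FusionNormal.transport_map h.n2.1.2.2 hf₂.le hf₂ hα₂
  have hR : ∀ r ∈ T₁ ⊓ T₂, r ∈ img (autFn α) (T₁ ⊓ T₂) := fun r hr =>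
    (img_strongly h.cR hαm (inf_le_left.trans le_sup_left)).ge hr
  have himg : ∀ {A' : Subgroup Ω}, A' ≤ T₁ → img (autFn α₁) A' = img (autFn α) A' :=
    fun hA' => img_congr fun x hx => hα₁e x (hA' hx)
  have himg2 : ∀ {A' : Subgroup Ω}, A' ≤ T₂ → img (autFn α₂) A' = img (autFn α) A' :=
    fun hA' => img_congr fun x hx => hα₂e x (hA' hx)
  have hA' : T₁ ⊓ T₂ ≤ img (autFn α₁) A := fun r hr => by
    rw [himg hf₁.le]
    exact Subgroup.closure_mono (Set.image_mono hA) (hR r hr)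
  have hB' : T₁ ⊓ T₂ ≤ img (autFn α₂) B := fun r hr => by
    rw [himg2 hf₂.le]
    exact Subgroup.closure_mono (Set.image_mono hB) (hR r hr)
  have hP : P ≤ T₁ ⊔ T₂ := hf.le
  have hcov' : Covers (img (autFn α₁) A) (img (autFn α₂) B) (img (autFn α) P) := fun z hz => by
    obtain ⟨w, hw, rfl⟩ := (hαm.mem_img_iff hP).1 hz
    obtain ⟨x, hx, y, hy, rfl⟩ := hcov w hw
    refine ⟨_, Subgroup.subset_closure ⟨x, hx, rfl⟩, _, Subgroup.subset_closure ⟨y, hy, rfl⟩, ?_⟩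
    rw [hα₁e x (hf₁.le hx), hα₂e y (hf₂.le hy),
      hαm.map_mul (Subgroup.mem_sup_left (hf₁.le hx)) (Subgroup.mem_sup_right (hf₂.le hy))]
  obtain ⟨g, hg⟩ := h.exists_prod_fn hA' hB' hg₁ hg₂ hcov'
  refine ⟨g, hD.intro' hg₁ hg₂ hA' hB' hcov' hg, fun z hz => ?_⟩
  obtain ⟨x, hx, y, hy, rfl⟩ := hcov z hz
  have e : autFn α (x * y) = autFn α₁ x * autFn α₂ y := by
    rw [hα₁e x (hf₁.le hx), hα₂e y (hf₂.le hy),
      hαm.map_mul (Subgroup.mem_sup_left (hf₁.le hx)) (Subgroup.mem_sup_right (hf₂.le hy))]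
  rw [e, hg _ (Subgroup.subset_closure ⟨x, hx, rfl⟩) _ (Subgroup.subset_closure ⟨y, hy, rfl⟩)
    (e ▸ hαm.mem_img hz), hge₁ x hx, hge₂ y hy, he x hx y hy hz, hα₁e _ (hf₁.mem hx),
    hα₂e _ (hf₂.mem hy),
    hαm.map_mul (Subgroup.mem_sup_left (hf₁.mem hx)) (Subgroup.mem_sup_right (hf₂.mem hy))]

/-- `N_S(P)` normalises the automizer of `P` in the product. -/
theorem conj_S_mem {P : Subgroup Ω} (hP : P ≤ T₁ ⊔ T₂) {s : MulAut P} (hs : s ∈ autInducedBy S P)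
    {a : MulAut P} (ha : a ∈ D.autGroup P) : s * a * s⁻¹ ∈ D.autGroup P := by
  obtain ⟨σ, hσ, hse⟩ := mem_autInducedBy_iff.1 hs
  obtain ⟨α, hα, hαe⟩ := exists_aut_of_isIso (show IsIso F (T₁ ⊔ T₂) (T₁ ⊔ T₂) (fun x => σ * x * σ⁻¹) from
    ⟨IsMap.conj h.sup_le_S hσ, img_strongly (h.closed hS) (IsMap.conj h.sup_le_S hσ) le_rfl⟩)
  have hαP : ∀ x ∈ P, autFn α x = autFn s x := fun x hx => by
    rw [autFn_apply α (hP hx), hαe, autFn_apply s hx, hse]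
  obtain ⟨g, hg, hge⟩ := h.transport hS hD hα ((mem_autGroup_iff hP).1 ha)
  have hPimg : img (autFn α) P = P := IsIso.img_eq_of ((mem_autGroup_iff h.sup_le_S).1 hα) hP
    (fun x hx => hαP x hx ▸ autFn_mem s hx)
    fun y hy => ⟨autFn s⁻¹ y, autFn_mem _ hy, by rw [hαP _ (autFn_mem _ hy), autFn_self_inv s hy]⟩
  rw [hPimg] at hg
  refine (mem_autGroup_iff hP).2 (hg.congr fun z hz => ?_)
  have hw := autFn_mem s⁻¹ hz
  rw [autFn_mul _ _ hz, autFn_mul _ _ hw, ← hαP _ (autFn_mem a hw), ← hge _ hw, hαP _ hw,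
    autFn_self_inv s hz]

/-- `Aut_F(P)` normalises the automizer of a fully normalized `P` in the product. -/
theorem conj_mem_prod (hDs : D.IsSaturated p) {P : Subgroup Ω} (hP : P ≤ T₁ ⊔ T₂)
    (hRP : T₁ ⊓ T₂ ≤ P) (hn : F.IsFullyNormalized P) {α : MulAut P} (hα : α ∈ F.autGroup P)
    {a : MulAut P} (ha : a ∈ D.autGroup P) : α * a * α⁻¹ ∈ D.autGroup P := by
  have hsub := h.isSub hS hD
  have hT0S := h.sup_le_S
  have hPS : P ≤ S := hP.trans hT0S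
  have := finite_of_le hT0S
  have := finite_mulAut (S := S) hPS
  have hT0 : IsPGroup p ↥(T₁ ⊔ T₂) := hS.to_le hT0S
  set R := T₁ ⊓ T₂
  set G := F.autGroup P with hG
  -- the stabilizer of `1 ≤ R ≤ P`
  let K : Subgroup (MulAut P) :=
    { carrier := {κ | κ ∈ G ∧ (∀ x : P, (x : Ω) ∈ R → κ x = x) ∧ ∀ x : P, (x : Ω)⁻¹ * (κ x : P) ∈ R}
      one_mem' := ⟨one_mem _, fun _ _ => rfl, fun x => by simp⟩
      mul_mem' := fun {b c} hb hc => ⟨mul_mem hb.1 hc.1,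
        fun x hx => by rw [MulAut.mul_apply, hc.2.1 x hx, hb.2.1 x hx],
        fun x => by
          have e : (x : Ω)⁻¹ * ((b * c) x : P) =
              ((x : Ω)⁻¹ * (c x : P)) * (((c x : P) : Ω)⁻¹ * (b (c x) : P)) := by
            rw [MulAut.mul_apply]
            group
          exact e ▸ mul_mem (hc.2.2 x) (hb.2.2 _)⟩
      inv_mem' := fun {b} hb => ⟨inv_mem hb.1,
        fun x hx => by
          conv_lhs => rw [← hb.2.1 x hx]
          simp,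
        fun x => by
          have := inv_mem (hb.2.2 (b⁻¹ x))
          rw [MulAut.apply_inv_self] at this
          simpa using this⟩ }
  have hKp : IsPGroup p K := isPGroup_fixing (F := F) hS hRP hPS (fun κ hκ => hκ.1)
    (fun κ hκ x hx => by rw [autFn_apply κ (hRP hx), hκ.2.1 ⟨x, hRP hx⟩ hx])
    fun κ hκ x hx => by rw [autFn_apply κ hx]; exact hκ.2.2 ⟨x, hx⟩
  have hGR : ∀ γ ∈ G, ∀ x : P, (x : Ω) ∈ R → ((γ x : P) : Ω) ∈ R := fun γ hγ x hx => by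
    rw [← autFn_apply γ x.2]
    exact autFn_mem_of_stronglyClosed h.cR hPS hγ x.2 hx
  have hKn : ∀ γ ∈ G, ∀ κ ∈ K, γ * κ * γ⁻¹ ∈ K := by
    intro γ hγ κ hκ
    refine ⟨mul_mem (mul_mem hγ hκ.1) (inv_mem hγ), fun x hx => ?_, fun x => ?_⟩
    · rw [MulAut.mul_apply, MulAut.mul_apply, hκ.2.1 _ (hGR _ (inv_mem hγ) x hx),
        MulAut.apply_inv_self]
    · have hd : (((γ⁻¹ x)⁻¹ * κ (γ⁻¹ x) : P) : Ω) ∈ R := hκ.2.2 _
      have h2 := hGR γ hγ _ hd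
      rw [map_mul, map_inv, MulAut.apply_inv_self] at h2
      exact h2
  have hPD : D.IsFullyNormalized P := by
    refine ⟨hP, fun Q hQ => ?_⟩
    obtain ⟨q, hq⟩ := isConj_iff.1 hQ
    obtain ⟨g, hg, hgQ, hgN⟩ := exists_normalizer_map hS
      (fullyAutomized_of_fullyNormalized hS h.sat hn) (receptive_of_fullyNormalized hS h.sat hn)
      (isConj_symm (isConj_iff.2 ⟨q, FusionNormal.isIso_of_sub hsub hq⟩))
    have hle : normalizerIn (T₁ ⊔ T₂) Q ≤ normalizerIn S Q := inf_le_inf_right _ hT0S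
    rw [← hg.card_img hle]
    have := finite_of_le (S := T₁ ⊔ T₂) (P := normalizerIn (T₁ ⊔ T₂) P) inf_le_left
    exact Subgroup.card_le_of_le (hg.img_le hle fun x hx =>
      ⟨(stronglyClosed_iff.1 (h.closed hS)).2 _ g hg x (hle hx) hx.1, (hgN x (hle hx)).2⟩)
  refine conj_mem_of_mod_pGroup (K := K) (FusionNormal.autGroup_le_of_sub hsub hP) (fun κ hκ => hκ.1)
    (isFullyAutomized_iff.1 (fullyAutomized_of_fullyNormalized hS h.sat hn)).2 hKp hKn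
    (fun s hs b hb => h.conj_S_mem hS hD hP hs hb)
    (isFullyAutomized_iff.1 (fullyAutomized_of_fullyNormalized hT0 hDs hPD)).2
    (autInducedBy_le_of_le hT0S) (fun γ hγ b hb => ?_) (fun n hnG hnX x hx => ?_) hα ha
  swap
  · obtain ⟨t, ht, hte⟩ := mem_autInducedBy_iff.1 hx
    have htN : t ∈ normalizerIn S P := mem_normalizerIn_of_aut (hT0S ht) hte
    obtain ⟨σ, hσ, hσe⟩ := mem_autInducedBy_iff.1 (hnX x hx)
    have htNx : t ∈ Nx S P (autFn n) := by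
      refine mem_Nx.2 ⟨htN, σ, hσ, fun z hz => ?_⟩
      have h1 := hσe (n ⟨z, hz⟩)
      rw [MulAut.mul_apply, MulAut.mul_apply, MulAut.inv_apply_self] at h1
      rw [autFn_apply n hz, ← h1, autFn_apply n (normalizerIn_conj htN hz)]
      exact congrArg (fun u : P => ((n u : P) : Ω)) (Subtype.ext (hte ⟨z, hz⟩).symm)
    obtain ⟨ψ, hψ, hψe⟩ := (isReceptive_iff.1 (receptive_of_fullyNormalized hS h.sat hn)).2 P _
      (isIso_autFn hPS hnG)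
    refine autInducedBy_le_autGroup D le_rfl hP (mem_autInducedBy_iff.2
      ⟨ψ t, (stronglyClosed_iff.1 (h.closed hS)).2 _ ψ hψ t htNx ht, fun z => ?_⟩)
    have hzI := isIso_autFn hPS hnG
    obtain ⟨w, hw⟩ : ∃ w : P, n w = z := n.surjective z
    subst hw
    rw [MulAut.mul_apply, MulAut.mul_apply, MulAut.inv_apply_self]
    have hxw : ((x w : P) : Ω) = t * w * t⁻¹ := hte w
    rw [← autFn_apply n (x w).2, hxw, ← hψe _ (normalizerIn_conj htN w.2),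
      hψ.map_conj htNx (le_Nx hzI.1 w.2), hψe w w.2, autFn_apply n w.2]
  · obtain ⟨A, B, f₁, f₂, hf₁, hf₂, hA, hB, hcov, he, hA', hB'⟩ :=
      hD.elim ((mem_autGroup_iff hP).1 hb)
    have hAT := hf₁.le
    have hBT := hf₂.le
    have hAP : A ≤ P ⊔ T₂ := fun x hx => by
      obtain ⟨y, hy, hxy⟩ := hA' x hx
      simpa using mul_mem (Subgroup.mem_sup_left hxy : x * y ∈ P ⊔ T₂)
        (inv_mem (Subgroup.mem_sup_right (hBT hy) : y ∈ P ⊔ T₂))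
    have hBP : B ≤ P ⊔ T₁ := fun y hy => by
      obtain ⟨x, hx, hxy⟩ := hB' y hy
      simpa using mul_mem (inv_mem (Subgroup.mem_sup_right (hAT hx) : x ∈ P ⊔ T₁))
        (Subgroup.mem_sup_left hxy : x * y ∈ P ⊔ T₁)
    have hγ' := isIso_autFn hPS hγ
    obtain ⟨g₁, hg₁, hge₁⟩ := FusionChain.exists_map_congr_mod hS h.sat h.c2 hγ'.1
    obtain ⟨g₂, hg₂, hge₂⟩ := FusionChain.exists_map_congr_mod hS h.sat h.c1 hγ'.1
    have hg₁T : ∀ x ∈ A, g₁ x ∈ T₁ := fun x hx =>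
      (stronglyClosed_iff.1 h.c1).2 _ g₁ hg₁ x (hAP hx) (hAT hx)
    have hg₂T : ∀ y ∈ B, g₂ y ∈ T₂ := fun y hy =>
      (stronglyClosed_iff.1 h.c2).2 _ g₂ hg₂ y (hBP hy) (hBT hy)
    have key : ∀ x ∈ A, ∀ y ∈ B, x * y ∈ P →
        ∃ r ∈ R, autFn γ (x * y) = g₁ x * g₂ y * r := by
      intro x hx y hy hxy
      obtain ⟨u, hu, v, hv, e⟩ := covers_top h.comm _ (hP (autFn_mem γ hxy))
      have hyT : y ∈ P ⊔ T₂ := Subgroup.mem_sup_right (hBT hy)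
      have hxT : x ∈ P ⊔ T₁ := Subgroup.mem_sup_right (hAT hx)
      have h1 := hge₁ _ hxy
      have h2 := hge₂ _ hxy
      rw [hg₁.map_mul (hAP hx) hyT, e] at h1
      rw [hg₂.map_mul hxT (hBP hy), e] at h2
      have hgy : g₁ y ∈ T₂ := (stronglyClosed_iff.1 h.c2).2 _ g₁ hg₁ y hyT (hBT hy)
      have hgx : g₂ x ∈ T₁ := (stronglyClosed_iff.1 h.c1).2 _ g₂ hg₂ x hxT (hAT hx)
      have hr₁ : (g₁ x)⁻¹ * u ∈ R := by
        refine Subgroup.mem_inf.2 ⟨T₁.mul_mem (T₁.inv_mem (hg₁T x hx)) hu, ?_⟩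
        rw [show (g₁ x)⁻¹ * u = g₁ y * ((g₁ x * g₁ y)⁻¹ * (u * v)) * v⁻¹ by group]
        exact T₂.mul_mem (T₂.mul_mem hgy h1) (T₂.inv_mem hv)
      have hr₂ : (g₂ y)⁻¹ * v ∈ R := by
        have hq := T₂.inv_mem (hg₂T y hy)
        refine Subgroup.mem_inf.2 ⟨?_, T₂.mul_mem hq hv⟩
        have hw : u * v = g₂ x * ((g₂ x * g₂ y)⁻¹ * (u * v)) * g₂ y := by
          rw [mul_assoc (g₂ x), h.comm _ h2 _ (hg₂T y hy), ← mul_assoc, mul_inv_cancel_left]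
        have hv1 : v * (g₂ y)⁻¹ ∈ T₁ := by
          have e1 : v * (g₂ y)⁻¹ = u⁻¹ * (g₂ x * ((g₂ x * g₂ y)⁻¹ * (u * v))) := by
            rw [eq_inv_mul_iff_mul_eq, ← mul_assoc, mul_inv_eq_iff_eq_mul]
            exact hw
          rw [e1]
          exact T₁.mul_mem (T₁.inv_mem hu) (T₁.mul_mem hgx h2)
        have e2 : (g₂ y)⁻¹ * v = v * (g₂ y)⁻¹ := by
          rw [inv_mul_eq_iff_eq_mul, ← h.comm _ hv1 _ (hg₂T y hy), inv_mul_cancel_right]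
        exact e2 ▸ hv1
      refine ⟨_, mul_mem hr₁ hr₂, ?_⟩
      rw [e, show g₁ x * g₂ y * ((g₁ x)⁻¹ * u * ((g₂ y)⁻¹ * v)) =
        g₁ x * (g₂ y * ((g₁ x)⁻¹ * u)) * ((g₂ y)⁻¹ * v) by group,
        ← h.comm _ (mul_mem (inv_mem (hg₁T x hx)) hu) _ (hg₂T y hy)]
      group
    have hfA : ∀ x ∈ A, f₁ x ∈ A ∧ ∀ y ∈ B, x * y ∈ P → f₂ y ∈ B := by
      intro x hx
      have : ∀ y ∈ B, x * y ∈ P → f₁ x ∈ A ∧ f₂ y ∈ B := by
        intro y hy hxy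
        have hmem : f₁ x * f₂ y ∈ P := he x hx y hy hxy ▸ autFn_mem b hxy
        obtain ⟨x', hx', y', hy', e⟩ := hcov _ hmem
        refine ⟨hD.mem_decomp hAT hBT hA hx' hy' (hf₁.mem hx) (hf₂.mem hy) e.symm, ?_⟩
        have h1 := inv_mul_mem_inf (hAT hx') (hf₁.mem hx) (hBT hy') (hf₂.mem hy) e.symm
        have h2 : f₂ y = (x'⁻¹ * f₁ x)⁻¹ * y' := by
          rw [mul_inv_rev, inv_inv, mul_assoc, ← e, inv_mul_cancel_left]
        rw [h2]
        exact mul_mem (inv_mem (hB h1)) hy'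
      obtain ⟨y, hy, hxy⟩ := hA' x hx
      exact ⟨(this y hy hxy).1, fun y hy hxy => (this y hy hxy).2⟩
    have hfB : ∀ y ∈ B, f₂ y ∈ B := fun y hy => by
      obtain ⟨x, hx, hxy⟩ := hB' y hy
      exact (hfA x hx).2 y hy hxy
    have hgA : ∀ x ∈ A, g₁ x ∈ A := fun x hx => by
      obtain ⟨y, hy, hxy⟩ := hA' x hx
      obtain ⟨r, hr, e⟩ := key x hx y hy hxy
      obtain ⟨x', hx', y', hy', e'⟩ := hcov _ (autFn_mem γ hxy)
      exact hD.mem_decomp hAT hBT hA hx' hy' (hg₁T x hx) (mul_mem (hg₂T y hy) hr.2)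
        (by rw [← e', e, mul_assoc])
    have hgB : ∀ y ∈ B, g₂ y ∈ B := fun y hy => by
      obtain ⟨x, hx, hxy⟩ := hB' y hy
      obtain ⟨r, hr, e⟩ := key x hx y hy hxy
      obtain ⟨x', hx', y', hy', e'⟩ := hcov _ (autFn_mem γ hxy)
      have h1 := inv_mul_mem_inf (hAT hx') (hg₁T x hx) (hBT hy') (mul_mem (hg₂T y hy) hr.2)
        (by rw [← e', e, mul_assoc])
      have h2 : g₂ y * r = (x'⁻¹ * g₁ x)⁻¹ * y' := by
        rw [mul_inv_rev, inv_inv, mul_assoc, ← e', e]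
        group
      rw [show g₂ y = g₂ y * r * r⁻¹ by group, h2]
      exact mul_mem (mul_mem (inv_mem (hB h1)) hy') (inv_mem (hB hr))
    have hAS := hAT.trans h.c1.1
    have hBS := hBT.trans h.c2.1
    have mkIso : ∀ {U : Subgroup Ω} {T' : Subgroup Ω} {E' : FusionSystem T'} {φ : Ω → Ω},
        U ≤ S → IsMap E' U φ → (∀ x ∈ U, φ x ∈ U) → IsIso E' U U φ := fun {U T' E' φ} hU hφ hm =>
      ⟨hφ, eq_of_le_of_card (S := S) hU (hφ.img_le le_rfl hm) (hφ.card_img le_rfl).ge⟩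
    obtain ⟨δ₁, hδ₁, hδ₁e⟩ := exists_aut_of_isIso (mkIso hAS hf₁ fun x hx => (hfA x hx).1)
    obtain ⟨δ₂, hδ₂, hδ₂e⟩ := exists_aut_of_isIso (mkIso hBS hf₂ hfB)
    obtain ⟨c₁, hc₁, hc₁e⟩ := exists_aut_of_isIso (mkIso hAS (hg₁.mono hAP) hgA)
    obtain ⟨c₂, hc₂, hc₂e⟩ := exists_aut_of_isIso (mkIso hBS (hg₂.mono hBP) hgB)
    have hd₁ : IsMap E₁ A (autFn (c₁ * δ₁ * c₁⁻¹)) :=
      (mem_autGroup_iff hAT).1 (FusionNormal.conj_mem_autGroup h.n1.1.2.2 hAT hc₁ hδ₁)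
    have hd₂ : IsMap E₂ B (autFn (c₂ * δ₂ * c₂⁻¹)) :=
      (mem_autGroup_iff hBT).1 (FusionNormal.conj_mem_autGroup h.n2.1.2.2 hBT hc₂ hδ₂)
    obtain ⟨f', hf'⟩ := h.exists_prod_fn hA hB hd₁ hd₂ hcov
    have hf'm : IsMap D P f' := hD.intro' hd₁ hd₂ hA hB hcov hf'
    have main : ∀ z ∈ P, ∃ r ∈ R, f' (autFn γ z) = autFn γ (autFn b z) * r := by
      intro z hz
      obtain ⟨x, hx, y, hy, rfl⟩ := hcov z hz
      obtain ⟨r, hr, e⟩ := key x hx y hy hz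
      have hxy' : f₁ x * f₂ y ∈ P := he x hx y hy hz ▸ autFn_mem b hz
      obtain ⟨r', hr', e'⟩ := key _ (hfA x hx).1 _ (hfB y hy) hxy'
      refine ⟨r'⁻¹ * r, mul_mem (inv_mem hr') hr, ?_⟩
      rw [he x hx y hy hz, e', e, mul_assoc (g₁ x),
        hf' _ (hgA x hx) _ (mul_mem (hgB y hy) (hB hr))
          (by rw [← mul_assoc, ← e]; exact autFn_mem γ hz),
        hd₂.map_mul (hgB y hy) (hB hr), h.fix2 hB hd₂ hr]
      have k1 : autFn (c₁ * δ₁ * c₁⁻¹) (g₁ x) = g₁ (f₁ x) := by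
        have h0 : autFn c₁⁻¹ (g₁ x) = x := by
          rw [← hc₁e ⟨x, hx⟩, ← autFn_apply c₁ hx, autFn_inv_self c₁ hx]
        rw [autFn_mul _ _ (hgA x hx), h0, autFn_mul _ _ hx, autFn_apply δ₁ hx, hδ₁e,
          autFn_apply c₁ (hfA x hx).1, hc₁e]
      have k2 : autFn (c₂ * δ₂ * c₂⁻¹) (g₂ y) = g₂ (f₂ y) := by
        have h0 : autFn c₂⁻¹ (g₂ y) = y := by
          rw [← hc₂e ⟨y, hy⟩, ← autFn_apply c₂ hy, autFn_inv_self c₂ hy]
        rw [autFn_mul _ _ (hgB y hy), h0, autFn_mul _ _ hy, autFn_apply δ₂ hy, hδ₂e,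
          autFn_apply c₂ (hfB y hy), hc₂e]
      rw [k1, k2]
      group
    have hf'P : ∀ z ∈ P, f' z ∈ P := fun z hz => by
      obtain ⟨r, hr, e⟩ := main _ (autFn_mem γ⁻¹ hz)
      rw [autFn_self_inv γ hz] at e
      exact e ▸ mul_mem (autFn_mem γ (autFn_mem b (autFn_mem γ⁻¹ hz))) (hRP hr)
    obtain ⟨d', hd', hd'e⟩ := exists_aut_of_isIso (mkIso hPS hf'm hf'P)
    have hd'G : d' ∈ G := FusionNormal.autGroup_le_of_sub hsub hP hd'
    have hbG : b ∈ G := FusionNormal.autGroup_le_of_sub hsub hP hb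
    have hfixR : ∀ {d : MulAut P}, d ∈ D.autGroup P → ∀ x : P, (x : Ω) ∈ R → d x = x := by
      intro d hd x hx
      obtain ⟨A', B', e₁, e₂, he₁, he₂, hRA, hRB, -, hde, -, -⟩ :=
        hD.elim ((mem_autGroup_iff hP).1 hd)
      refine Subtype.ext ?_
      have := hde x (hRA hx) 1 (one_mem _) (by rw [mul_one]; exact x.2)
      rw [mul_one, he₂.map_one, mul_one, h.fix1 hRA he₁ hx, autFn_apply d x.2] at this
      exact this
    have hκ : (γ * b * γ⁻¹) * d'⁻¹ ∈ K := by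
      refine ⟨mul_mem (mul_mem (mul_mem hγ hbG) (inv_mem hγ)) (inv_mem hd'G), fun x hx => ?_,
        fun x => ?_⟩
      · have h1 : d'⁻¹ x = x := hfixR (inv_mem hd') x hx
        rw [MulAut.mul_apply, h1, MulAut.mul_apply, MulAut.mul_apply,
          hfixR hb _ (hGR _ (inv_mem hγ) x hx), MulAut.apply_inv_self]
      · obtain ⟨w, hw⟩ : ∃ w : P, d' (γ w) = x :=
          ⟨γ⁻¹ (d'⁻¹ x), by rw [MulAut.apply_inv_self, MulAut.apply_inv_self]⟩
        subst hw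
        obtain ⟨r, hr, e⟩ := main w w.2
        rw [MulAut.mul_apply, MulAut.inv_apply_self, MulAut.mul_apply, MulAut.mul_apply,
          MulAut.inv_apply_self, hd'e, ← autFn_apply γ w.2, e]
        rw [autFn_apply b w.2, autFn_apply γ (b ⟨w, w.2⟩).2]
        have hc := h.R_comm hr (hP (γ (b w)).2)
        simp only [Subtype.coe_eta]
        rw [mul_inv_rev, mul_assoc, inv_mul_cancel, mul_one]
        exact inv_mem hr
    rw [show γ * b * γ⁻¹ = (γ * b * γ⁻¹ * d'⁻¹) * d' by group]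
    exact mul_mem (Subgroup.mem_sup_right hκ) (Subgroup.mem_sup_left hd')

end Pair

end Cfsg.Agent.FusionLayer
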