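import Cfsg.Agent.Lib.FusionLayer.Central
import Cfsg.Agent.Lib.FusionProduct.Components

/-
Weakly normal subsystems of quasisimple systems.
Main results (namespace `Cfsg.Agent.FusionLayer`): `not_le_center`, `fn_fix_center`, `qs_normal`.
-/

set_option autoImplicit false

namespace Cfsg.Agent.FusionLayer

open Cfsg Cfsg.Agent.Fusion Cfsg.Agent.FusionNormalCent Cfsg.Agent.FusionChain
open Cfsg.FusionSystem hiding inv_mem

variable {Ω : Type*} [Group Ω] {T U : Subgroup Ω} {C : FusionSystem T} {E : FusionSystem U} {p : ℕ}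

/-- The maps of a system fix the elements of its centre. -/
theorem fn_fix_center [Finite T] {P : Subgroup Ω} {f : Ω → Ω} (hf : IsMap C P f) {z : Ω}
    (hz : z ∈ P) (hzc : z ∈ C.center) : f z = z := by
  obtain ⟨g, -, h1, h2⟩ := fix_of_center le_rfl hf
  rw [← h1 z hz, h2 z hzc]

/-- The centre of a quasisimple system is proper. -/
theorem not_le_center [Finite T] (hC : C.Quasisimple p) : ¬ T ≤ C.center := fun h => by
  have D := FusionProduct.qData_center C
  obtain ⟨B, hB⟩ := D.exists_factorSystem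
  refine (hC.2.2 B hB).2.1 ((Subgroup.eq_bot_iff_forall _).2 fun y hy => ?_)
  obtain ⟨x, hx, rfl⟩ := D.exists_eq hy
  rw [thF_apply _ hx, D.ker_iff]
  exact h hx

variable [Finite T] [Fact p.Prime]

/-- A weakly normal subsystem of a quasisimple system is central or everything. -/
theorem qs_normal (hT : IsPGroup p T) (hC : C.Quasisimple p) (hE : E.IsWeaklyNormalIn C p) :
    U ≤ C.center ∨ (U = T ∧ C.IsSubsystemOf E) := by
  obtain ⟨hEs, hCs, hi⟩ := hE
  have hUc : C.StronglyClosed U := hi.2.1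
  have hUT : U ≤ T := hUc.1
  have := finite_of_le hUT
  set Z := C.center with hZ
  have hZT : Z ≤ T := center_le C
  set θ := QuotientGroup.mk' (Z.subgroupOf T) with hθ
  have D : QData C Z θ ⊤ := FusionProduct.qData_center C
  obtain ⟨B, hB⟩ := D.exists_factorSystem
  have := D.finite_S'
  have hBs : B.IsSaturated p := D.isSaturated_factor hT hCs hB
  set θU := θ.comp (Subgroup.inclusion hUT) with hθU
  have hth : ∀ x ∈ U, thF θU x = thF θ x := fun x hx => by
    rw [thF_apply θU hx, thF_apply θ (hUT hx)]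
    rfl
  set U' := imageAlong θ U with hU'
  have hmemU' : ∀ x ∈ U, thF θ x ∈ U' := fun x hx => mem_imageAlong.2 ⟨x, hx, hUT hx, rfl⟩
  have DE : QData E (U ⊓ Z) θU U' := by
    refine ⟨stronglyClosed_iff.2 ⟨inf_le_left, fun P f hf x hxP hx => ?_⟩, fun s => ?_, ?_⟩
    · rw [fn_fix_center (FusionNormal.isMap_of_sub hi.1 hf) hxP hx.2]
      exact hx
    · rw [hθU, MonoidHom.comp_apply, D.ker_iff]
      exact ⟨fun h => Subgroup.mem_inf.2 ⟨s.2, h⟩, fun h => h.2⟩
    · refine le_antisymm ?_ fun y hy => ?_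
      · rintro _ ⟨s, rfl⟩
        rw [← thF_apply θU s.2, hth _ s.2]
        exact hmemU' _ s.2
      · obtain ⟨x, hx, -, rfl⟩ := mem_imageAlong.1 hy
        exact ⟨⟨x, hx⟩, ((thF_apply θU hx).symm.trans (hth x hx))⟩
  obtain ⟨B', hB'⟩ := DE.exists_factorSystem
  have hUp : IsPGroup p U := hT.to_le hUT
  have hB's : B'.IsSaturated p := DE.isSaturated_factor hUp hEs hB'
  have hsub : B'.IsSubsystemOf B := by
    intro P' φ hφ
    obtain ⟨hP', e, he, hee⟩ := (QData.isMap_factor_iff hB').1 (isMap_toFn hφ)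
    obtain ⟨g, hg, hge, -⟩ := fix_of_center (le_refl Z) (FusionNormal.isMap_of_sub hi.1 he)
    obtain ⟨g', hg', hge'⟩ := D.isMap_image hB hg le_sup_right
    have hle : P' ≤ imageAlong θ (preimageAlong θU P' ⊔ Z) := fun y hy => by
      obtain ⟨x, hx, rfl⟩ := DE.exists_eq (hP' hy)
      exact mem_imageAlong.2 ⟨x, Subgroup.mem_sup_left (mem_preimageAlong.2 ⟨hx, hy⟩), hUT hx,
        (hth x hx).symm⟩
    refine mem_of_isMap ((hg'.mono hle).congr fun y hy => ?_) fun y => (toFn_coe φ y).symm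
    obtain ⟨x, hx, rfl⟩ := DE.exists_eq (hP' hy)
    have hxm := mem_preimageAlong.2 ⟨hx, hy⟩
    rw [hee x hxm, hth x hx, hge' x (Subgroup.mem_sup_left hxm), hge x hxm, hth _ (he.mem hxm)]
  have hinv : B'.IsInvariantIn B := by
    refine FusionProduct.isInvariantIn_of_fn hsub ?_ ?_ ?_
    · refine stronglyClosed_iff.2 ⟨le_top, fun P' f' hf' y hyP hy => ?_⟩
      obtain ⟨-, f, hf, hfe⟩ := (QData.isMap_factor_iff hB).1 hf'
      obtain ⟨x, hx, hxT, rfl⟩ := mem_imageAlong.1 hy
      have hxm := mem_preimageAlong.2 ⟨hxT, hyP⟩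
      rw [hfe x hxm]
      exact hmemU' _ (isMap_mem_of_stronglyClosed hUc hf hxm hx)
    · intro P' f' hP'U hf' α hα
      obtain ⟨-, e, he, hee⟩ := (QData.isMap_factor_iff hB').1 hf'
      obtain ⟨a, ha, hae⟩ := D.exists_lift_iso hB (isIso_autFn le_top hα)
      have hUM : U ≤ preimageAlong θ U' := fun x hx =>
        mem_preimageAlong.2 ⟨hUT hx, hmemU' x hx⟩
      obtain ⟨β, hβ, hβe⟩ := exists_aut_of_isIso (F := C) (P := U) (f := a)
        ⟨ha.1.mono hUM, img_strongly hUc ha.1 hUM⟩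
      obtain ⟨g, hg, hge⟩ := FusionNormal.transport_map hi he.le he hβ
      have hbm : IsMap C U (autFn β) := (mem_autGroup_iff hUT).1 hβ
      have hbz : ∀ x ∈ U ⊓ Z, autFn β x = x := fun x hx => fn_fix_center hbm hx.1 hx.2
      have hle : U ⊓ Z ≤ img (autFn β) (preimageAlong θU P') := fun x hx => by
        have := hbm.mem_img (DE.le_preimage P' hx)
        rwa [hbz x hx] at this
      obtain ⟨g', hg', hge'⟩ := DE.isMap_image hB' hg hle
      have key : ∀ x ∈ U, autFn α (thF θ x) = thF θ (autFn β x) := fun x hx => by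
        rw [hae x (hUM hx), autFn_apply β hx]
        exact congrArg (thF θ) (hβe ⟨x, hx⟩).symm
      refine ⟨g', hg'.mono ?_, fun y hy => ?_⟩
      · have hαm : IsMap B U' (autFn α) := (mem_autGroup_iff le_top).1 hα
        refine hαm.img_le hP'U fun y hy => ?_
        obtain ⟨x, hx, rfl⟩ := DE.exists_eq (hP'U hy)
        rw [hth x hx, key x hx, ← hth _ (autFn_mem β hx)]
        exact mem_imageAlong.2 ⟨_, hbm.mem_img (mem_preimageAlong.2 ⟨hx, hy⟩), autFn_mem β hx, rfl⟩
      · obtain ⟨x, hx, rfl⟩ := DE.exists_eq (hP'U hy)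
        have hxm := mem_preimageAlong.2 ⟨hx, hy⟩
        rw [hth x hx, key x hx, ← hth _ (autFn_mem β hx), hge' _ (hbm.mem_img hxm), hge x hxm,
          hth _ (autFn_mem β (he.mem hxm)), ← key _ (he.mem hxm), ← hth _ (he.mem hxm),
          ← hee x hxm, hth x hx]
    · intro P' f' hP'U hf'
      obtain ⟨-, f, hf, hfe⟩ := (QData.isMap_factor_iff hB).1 hf'
      have hPm : preimageAlong θU P' ≤ preimageAlong θ P' := fun x hx => by
        obtain ⟨hxU, hxP⟩ := mem_preimageAlong.1 hx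
        exact mem_preimageAlong.2 ⟨hUT hxU, hth x hxU ▸ hxP⟩
      obtain ⟨β, hβ, f₀, hf₀, hf₀e⟩ :=
        FusionNormal.frattini_map hi (preimageAlong_le θU P') (hf.mono hPm)
      have hbm : IsMap C U (autFn β) := (mem_autGroup_iff hUT).1 hβ
      obtain ⟨b, hb, hbe, hbZ⟩ := fix_of_center (le_refl Z) hbm
      obtain ⟨b', hb', hbe'⟩ := D.isMap_image hB hb le_sup_right
      have hb'U : IsMap B U' b' := hb'.mono fun y hy => by
        obtain ⟨x, hx, hxT, rfl⟩ := mem_imageAlong.1 hy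
        exact mem_imageAlong.2 ⟨x, Subgroup.mem_sup_left hx, hxT, rfl⟩
      have hb'm : ∀ x ∈ U, b' (thF θ x) = thF θ (autFn β x) := fun x hx => by
        rw [hbe' x (Subgroup.mem_sup_left hx), hbe x hx]
      have hiso : IsIso B U' U' b' := by
        refine ⟨hb'U, eq_of_le_of_card le_top (hb'U.img_le le_rfl fun y hy => ?_)
          (hb'U.card_img le_rfl).ge⟩
        obtain ⟨x, hx, -, rfl⟩ := mem_imageAlong.1 hy
        rw [hb'm x hx]
        exact hmemU' _ (autFn_mem β hx)
      obtain ⟨α, hα, hαe⟩ := exists_aut_of_isIso hiso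
      obtain ⟨g', hg', hge'⟩ := DE.isMap_image hB' hf₀ (DE.le_preimage P')
      refine ⟨α, hα, g', hg'.mono (DE.image_preimage hP'U).ge, fun y hy => ?_⟩
      obtain ⟨x, hx, rfl⟩ := DE.exists_eq (hP'U hy)
      have hxm := mem_preimageAlong.2 ⟨hx, hy⟩
      have h0 := hf₀.mem hxm
      rw [hge' x hxm, hth _ h0, autFn_apply α (hmemU' _ h0), hαe, hb'm _ h0, ← hf₀e x hxm,
        hth x hx, hfe x (hPm hxm)]
  have hw : B'.IsWeaklyNormalIn B p := ⟨hB's, hBs, hinv⟩
  have := finite_of_le (le_top : U' ≤ ⊤)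
  have hn := FusionCrit.isNormalIn_genSys (D.isPGroup_S' hT) hw
  rcases (hC.2.2 B hB).2.2 _ _ hn with hbot | ⟨htop, hall⟩
  · left
    intro x hx
    have h := hmemU' x hx
    rw [hbot, Subgroup.mem_bot, thF_apply θ (hUT hx), D.ker_iff] at h
    exact h
  · right
    have hdec : ∀ t ∈ T, ∃ u ∈ U, ∃ z ∈ Z, t = u * z := fun t ht => by
      have h : thF θ t ∈ U' := htop.symm ▸ Subgroup.mem_top _
      obtain ⟨u, hu, huT, e⟩ := mem_imageAlong.1 h
      exact ⟨u, hu, _, (D.thF_eq_iff huT ht).1 e, (mul_inv_cancel_left u t).symm⟩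
    have hUeq : U = T := by
      refine le_antisymm hUT (hC.2.1.ge.trans ((Subgroup.closure_le _).2 ?_))
      rintro _ ⟨P, a, x, hP, -, rfl⟩
      have ham : IsMap C P (autFn (a : MulAut P)) := (mem_autGroup_iff hP).1 a.2
      obtain ⟨g, hg, hge, hgZ⟩ := fix_of_center (le_refl Z) ham
      obtain ⟨u, hu, z, hz, e⟩ := hdec x (hP x.2)
      have hum : u ∈ P ⊔ Z := by
        rw [eq_mul_inv_of_mul_eq e.symm]
        exact mul_mem (Subgroup.mem_sup_left x.2) (Subgroup.mem_sup_right (inv_mem hz))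
      have hgu := isMap_mem_of_stronglyClosed hUc hg hum hu
      have h1 : (((a : MulAut P) x : P) : Ω) = g u * z := by
        rw [← autFn_apply (a : MulAut P) x.2, ← hge _ x.2, e,
          hg.map_mul hum (Subgroup.mem_sup_right hz), hgZ z hz]
      have hw' : u⁻¹ * g u ∈ U := mul_mem (inv_mem hu) hgu
      show (x : Ω)⁻¹ * _ ∈ U
      rw [h1, e, mul_inv_rev, mul_assoc, ← mul_assoc u⁻¹, center_comm hz (hUT hw'),
        inv_mul_cancel_left]
      exact hw'
    refine ⟨hUeq, ?_⟩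
    subst hUeq
    intro P φ hφ
    obtain ⟨g, hg, hge, hgZ⟩ := fix_of_center (le_refl Z) (isMap_toFn hφ)
    set M := P ⊔ Z with hM
    obtain ⟨g', hg', hge'⟩ := D.isMap_image hB hg le_sup_right
    have hg'' : IsMap B' (imageAlong θ M) g' := by
      obtain ⟨ψ, hψ, hψe⟩ := hg'
      rw [← hall] at hψ
      exact ((FusionCrit.TGen.isMap (FusionCrit.resA_le_autGroup B' p)
        (FusionCrit.isMap_genSys.1 (isMap_toFn hψ))).congr fun y hy =>
          (toFn_apply ψ hy).trans (hψe y hy))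
    obtain ⟨-, e, he, hee⟩ := (QData.isMap_factor_iff hB').1 hg''
    have hMm : M ≤ preimageAlong θU (imageAlong θ M) := fun x hx =>
      mem_preimageAlong.2 ⟨hg.le hx, by
        rw [hth x (hg.le hx)]; exact mem_imageAlong.2 ⟨x, hx, hg.le hx, rfl⟩⟩
    have heE : IsMap E M e := he.mono hMm
    have heC : IsMap C M e := FusionNormal.isMap_of_sub hi.1 heE
    have hdiff : ∀ x ∈ M, (e x)⁻¹ * g x ∈ Z := fun x hx => by
      refine (D.thF_eq_iff (heC.mem hx) (hg.mem hx)).1 ?_
      rw [← hth _ (heE.mem hx), ← hee x (hMm hx), hth x (hg.le hx), hge' x hx]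
    have heZ : ∀ z ∈ Z, e z = z := fun z hz => fn_fix_center heC (Subgroup.mem_sup_right hz) hz
    have himg : img g M = img e M := by
      refine eq_of_le_of_card heC.img_le_S (hg.img_le le_rfl fun x hx => ?_)
        (by rw [hg.card_img le_rfl, heC.card_img le_rfl])
      have hzI : (e x)⁻¹ * g x ∈ img e M := by
        rw [← heZ _ (hdiff x hx)]
        exact heC.mem_img (Subgroup.mem_sup_right (hdiff x hx))
      simpa using mul_mem (heC.mem_img hx) hzI
    obtain ⟨ei, hei, hl, hr⟩ := heC.isIso.symm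
    have hgI : IsIso C M (img e M) g := ⟨hg, himg⟩
    obtain ⟨κ, hκ, hκe⟩ := exists_aut_of_isIso (hgI.trans hei)
    have hκfn : ∀ x ∈ M, autFn κ x = ei (g x) := fun x hx => by
      rw [autFn_apply κ hx]; exact hκe ⟨x, hx⟩
    have hκm : IsMap C M (autFn κ) := (mem_autGroup_iff hg.le).1 hκ
    have hκd : ∀ x ∈ M, x⁻¹ * autFn κ x ∈ Z := fun x hx => by
      have h1 : e (autFn κ x) = g x := by rw [hκfn x hx]; exact hr _ (hgI.mem hx)
      have h3 : x⁻¹ * autFn κ x ∈ M := mul_mem (inv_mem hx) (autFn_mem κ hx)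
      have h2 : e (x⁻¹ * autFn κ x) = (e x)⁻¹ * g x := by
        rw [heC.map_mul (inv_mem hx) (autFn_mem κ hx), heC.map_inv hx, h1]
      rw [heC.inj h3 (Subgroup.mem_sup_right (hdiff x hx)) (h2.trans (heZ _ (hdiff x hx)).symm)]
      exact hdiff x hx
    have hfinZ := finite_of_le hZT
    obtain ⟨k, hk⟩ := (hT.to_le hZT).exists_card_eq
    have hpow : ∀ (x : Ω), x ∈ M → ∀ m : ℕ,
        autFn (κ ^ m) x = x * (x⁻¹ * autFn κ x) ^ m := fun x hx m => by
      induction m with
      | zero => rw [pow_zero, pow_zero, mul_one, autFn_apply _ hx]; rfl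
      | succ m ih =>
        have hc : (x⁻¹ * autFn κ x) ^ m ∈ Z := pow_mem (hκd x hx) m
        rw [pow_succ' κ, FusionCrit.autFn_mul _ _ hx, ih, hκm.map_mul hx (Subgroup.mem_sup_right hc),
          fn_fix_center hκm (Subgroup.mem_sup_right hc) hc, pow_succ', ← mul_assoc x,
          mul_inv_cancel_left]
    have hκp : κ ^ p ^ k = 1 := by
      ext x
      rw [← autFn_apply _ x.2, hpow x x.2, ← hk]
      have h1 : (⟨_, hκd x x.2⟩ : Z) ^ Nat.card Z = 1 := pow_card_eq_one'
      have h2 := congrArg Subtype.val h1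
      rw [SubgroupClass.coe_pow] at h2
      rw [h2]
      exact mul_one _
    have hκE := FusionNormal.mem_of_pElement hT hCs hi hg.le hκ hκp
    refine mem_of_isMap (((((mem_autGroup_iff hg.le).1 hκE).comp heE
      fun x hx => autFn_mem κ hx).congr fun x hx => ?_).mono le_sup_left |>.congr hge)
      fun x => (toFn_coe φ x).symm
    rw [hκfn x hx]
    exact hr _ (hgI.mem hx)

end Cfsg.Agent.FusionLayer
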